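import Cfsg.Agent.Lib.TwoGroups.CyclicNormalAbelian
import Cfsg.Agent.Lib.Transfer.NormalAbelian
import Cfsg.Agent.Lib.Core.Nilpotent

/-!
# Normal four-groups

A `2`-group with an elementary abelian subgroup of order `8` has a normal four-group with centraliser
of index at most `2`.
-/

set_option autoImplicit false
set_option linter.unusedSectionVars false

namespace CfsgLib.Core.TwoTimesPSL

universe u

variable {P : Type u} [Group P] [Finite P]

theorem card_sq_one_le_two_of_cyclic {E : Subgroup P} (A : Subgroup P) [IsCyclic A] (hle : E ≤ A)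
    (hE : ∀ x ∈ E, x * x = 1) : Nat.card E ≤ 2 := by
  have := Subgroup.isCyclic_of_le hle
  obtain ⟨g, hg⟩ := IsCyclic.exists_ofOrder_eq_natCard (α := E)
  rw [← hg]
  exact orderOf_le_of_pow_eq_one two_pos (Subtype.ext (by simpa [pow_two] using hE g g.2))

theorem false_of_cyclic_index_two {E : Subgroup P} (hE : ∀ x ∈ E, x * x = 1) (h8 : 8 ≤ Nat.card E)
    {g : P} (hg : Nat.card P ≤ 2 * orderOf g) : False := by
  set A := Subgroup.zpowers g with hA
  have hidx : A.index ≤ 2 := by
    have h := Subgroup.card_mul_index A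
    rw [hA, Nat.card_zpowers] at h
    rw [hA]
    refine Nat.le_of_mul_le_mul_left ?_ (orderOf_pos g)
    rw [h, mul_comm]; exact hg
  have h1 := Subgroup.card_mul_index ((E ⊓ A).subgroupOf E)
  rw [Nat.card_congr (Subgroup.subgroupOfEquivOfLe (inf_le_left : E ⊓ A ≤ E)).toEquiv] at h1
  have h2 : ((E ⊓ A).subgroupOf E).index ≤ 2 := by
    rw [Subgroup.inf_subgroupOf_left]
    refine le_trans ?_ hidx
    have h4 : A.relIndex E ≤ A.index := by
      have hf : Function.Injective (Subgroup.quotientSubgroupOfEmbeddingOfLE A (le_top : E ≤ ⊤)) :=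
        (Subgroup.quotientSubgroupOfEmbeddingOfLE A le_top).injective
      have := Nat.card_le_card_of_injective _ hf
      rw [← A.relIndex_top_right]
      exact this
    exact h4
  have h5 := card_sq_one_le_two_of_cyclic A (inf_le_right : E ⊓ A ≤ A) fun x hx => hE x hx.1
  have := Nat.mul_le_mul h5 h2
  omega

/-- A normal four-group with centraliser of index at most `2`. -/
theorem exists_normal_four (hP : IsPGroup 2 P) {E : Subgroup P} (hE : ∀ x ∈ E, x * x = 1)
    (h8 : 8 ≤ Nat.card E) :
    ∃ U : Subgroup P, U.Normal ∧ (∀ x ∈ U, x * x = 1) ∧ Nat.card U = 4 ∧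
      (Subgroup.centralizer (U : Set P)).index ≤ 2 := by
  classical
  have : Fact (Nat.Prime 2) := ⟨Nat.prime_two⟩
  have hEc : IsMulCommutative E := ⟨⟨fun a b => Subtype.ext (by
    have h3 := inv_eq_of_mul_eq_one_right (hE _ (E.mul_mem a.2 b.2))
    rw [mul_inv_rev, inv_eq_of_mul_eq_one_right (hE _ a.2), inv_eq_of_mul_eq_one_right (hE _ b.2)] at h3
    exact h3.symm)⟩⟩
  by_cases hn : ∀ A : Subgroup P, A.Normal → IsMulCommutative A → IsCyclic A
  · exfalso
    have hEnc : ¬ IsCyclic E := fun h => by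
      have := h
      have := card_sq_one_le_two_of_cyclic E le_rfl hE
      omega
    rcases (CfsgLib.TwoGroups.CycNA.classification 2 hP hn ⟨E, hEc, hEnc⟩).2 with
      ⟨n, ⟨e⟩⟩ | ⟨n, -, ⟨e⟩⟩ | ⟨n, -, hcard, x, -, hx, -, -⟩
    · have : Finite (QuaternionGroup n) := Finite.of_equiv P e.toEquiv
      rcases eq_or_ne n 0 with rfl | hne
      · have h1 : Finite (ZMod (2 * 0)) := Finite.of_injective QuaternionGroup.a
          fun x y h => QuaternionGroup.a.inj h
        exact @not_finite ℤ _ h1
      · have : NeZero n := ⟨hne⟩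
        refine false_of_cyclic_index_two hE h8 (g := e.symm (QuaternionGroup.a 1)) ?_
        rw [MulEquiv.orderOf_eq, QuaternionGroup.orderOf_a_one, Nat.card_congr e.toEquiv,
          Nat.card_eq_fintype_card, QuaternionGroup.card]
        omega
    · refine false_of_cyclic_index_two hE h8 (g := e.symm (DihedralGroup.r 1)) ?_
      rw [MulEquiv.orderOf_eq, DihedralGroup.orderOf_r_one, Nat.card_congr e.toEquiv, DihedralGroup.nat_card]
    · refine false_of_cyclic_index_two hE h8 (g := x) ?_
      rw [hcard, hx, pow_succ']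
  · push Not at hn
    obtain ⟨A, hAn, hAc, hAnc⟩ := hn
    have := hAn
    have := hAc
    let U : Subgroup P :=
      { carrier := {x | x ∈ A ∧ x * x = 1}
        mul_mem' := fun {a b} ha hb => ⟨A.mul_mem ha.1 hb.1, by
          have hcm : Commute a b := congrArg Subtype.val (mul_comm' (⟨a, ha.1⟩ : A) ⟨b, hb.1⟩)
          rw [mul_assoc, ← mul_assoc b, ← hcm.eq, mul_assoc a b, hb.2, mul_one, ha.2]⟩
        one_mem' := ⟨A.one_mem, one_mul 1⟩
        inv_mem' := fun {a} ha => ⟨A.inv_mem ha.1, by rw [← mul_inv_rev, ha.2, inv_one]⟩ }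
    have hUn : U.Normal := ⟨fun a ha g => ⟨hAn.conj_mem a ha.1 g, by
      rw [show g * a * g⁻¹ * (g * a * g⁻¹) = g * (a * a) * g⁻¹ by group, ha.2, mul_one, mul_inv_cancel]⟩⟩
    obtain ⟨p, hp, F, hFA, hF, hF2⟩ := CfsgLib.Core.exists_elementary_of_not_isCyclic A hAnc
    have hp2 : p = 2 := by
      have := Fact.mk hp
      have : Nontrivial F := Finite.one_lt_card_iff_nontrivial.1 (by
        have := Nat.one_lt_pow (n := 2) (by norm_num) hp.one_lt
        omega)
      obtain ⟨g, hg⟩ := exists_ne (1 : F)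
      obtain ⟨k, hk⟩ := hP (g : P)
      by_contra hne
      exact hg (Subtype.ext (orderOf_eq_one_iff.1 (Nat.eq_one_of_dvd_coprimes
        (((Nat.coprime_primes hp Nat.prime_two).2 hne).pow_right k)
        (orderOf_dvd_of_pow_eq_one (hF g g.2)) (orderOf_dvd_of_pow_eq_one hk))))
    subst hp2
    have h4 : 2 ^ 2 ≤ Nat.card U := le_trans (by omega)
      (Subgroup.card_le_of_le (show F ≤ U from fun x hx => ⟨hFA hx, by rw [← pow_two]; exact hF x hx⟩))
    obtain ⟨B, hBn, hBU, hB, hBi⟩ := CfsgLib.Transfer.exists_normal_card hP U 2 h4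
    exact ⟨B, hBn, fun x hx => (hBU hx).2, hB, hBi⟩

end CfsgLib.Core.TwoTimesPSL
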