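import Mathlib

/-!
# A group of odd order transitive on the non-trivial elements of an elementary abelian 2-group

If `A` has odd order, is transitive on `T ∖ 1`, and the stabiliser of `t` leaves a complementary
hyperplane `V` of `t` invariant and is transitive on `V ∖ 1`, then `|V| ≤ 4`: the hyperplanes would
form a tournament, which is impossible in dimension at least four.
-/

set_option autoImplicit false
set_option linter.unusedSectionVars false

namespace CfsgLib.Core.TwoTimesPSL

universe u v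

variable {A : Type u} {T : Type v} [Group A] [Finite A] [CommGroup T] [Finite T]

theorem fix_of_swap (ρ : A →* MulAut T) (hodd : ∀ a : A, Odd (orderOf a)) {c : A} {x y : T}
    (hxy : ρ c x = y) (hyx : ρ c y = x) : x = y := by
  obtain ⟨m, hm⟩ := hodd c
  have h2 : ρ (c ^ 2) x = x := by rw [pow_two, map_mul, MulAut.mul_apply, hxy, hyx]
  have h3 : ∀ k : ℕ, ρ ((c ^ 2) ^ k) x = x := by
    intro k
    induction k with
    | zero => simp
    | succ k ih => rw [pow_succ, map_mul, MulAut.mul_apply, h2, ih]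
  have h4 : (c ^ 2) ^ (m + 1) = c := by
    rw [← pow_mul, show 2 * (m + 1) = (2 * m + 1) + 1 by ring, pow_succ, ← hm, pow_orderOf_eq_one, one_mul]
  rw [← h3 (m + 1), h4, hxy]

theorem parity_false {C1 C2 A1 A2 B1 B2 : Prop} (e1 : C1 ↔ ¬ (A1 ↔ B1)) (e2 : C2 ↔ ¬ (A2 ↔ B2))
    (e3 : (C1 ↔ C2) ↔ ¬ ((A1 ↔ A2) ↔ (B1 ↔ B2))) : False := by
  subst_vars
  by_cases h1 : A1 <;> by_cases h2 : A2 <;> by_cases h3 : B1 <;> by_cases h4 : B2 <;> simp_all

/-- The tournament bound. -/
theorem card_le_four_of_tournament (ρ : A →* MulAut T) (hodd : ∀ a : A, Odd (orderOf a))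
    (htwo : ∀ x : T, x * x = 1) (V : Subgroup T) (t : T) (ht : t ∉ V) (hdec : ∀ x : T, x ∈ V ∨ t * x ∈ V)
    (htrans : ∀ x : T, x ≠ 1 → ∃ a, ρ a t = x) (hVinv : ∀ a, ρ a t = t → ∀ v ∈ V, ρ a v ∈ V)
    (hVtr : ∀ u ∈ V, u ≠ 1 → ∀ v ∈ V, v ≠ 1 → ∃ b, ρ b t = t ∧ ρ b u = v) : Nat.card V ≤ 4 := by
  classical
  by_contra hlarge
  have hcancel : ∀ x y : T, x * (x * y) = y := fun x y => by rw [← mul_assoc, htwo, one_mul]
  have hcomp : ∀ (a : A) (x : T), ρ a (ρ a⁻¹ x) = x := fun a x => by
    rw [← MulAut.mul_apply, ← map_mul, mul_inv_cancel, map_one, MulAut.one_apply]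
  have hcomp' : ∀ (a : A) (x : T), ρ a⁻¹ (ρ a x) = x := fun a x => by
    rw [← MulAut.mul_apply, ← map_mul, inv_mul_cancel, map_one, MulAut.one_apply]
  -- the hyperplane of a point
  let B : T → T → Prop := fun x y => ∃ a, ρ a t = x ∧ ρ a⁻¹ y ∈ V
  have hwd : ∀ {a : A} {x y : T}, ρ a t = x → (B x y ↔ ρ a⁻¹ y ∈ V) := by
    intro a x y hax
    refine ⟨?_, fun h => ⟨a, hax, h⟩⟩
    rintro ⟨b, hbx, hb⟩
    have hfix : ρ (a⁻¹ * b) t = t := by
      rw [map_mul, MulAut.mul_apply, hbx, ← hax, hcomp']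
    have h := hVinv _ hfix _ hb
    rwa [map_mul, MulAut.mul_apply, hcomp] at h
  -- exactly one arc between two points
  have harc : ∀ x y : T, x ≠ 1 → y ≠ 1 → x ≠ y → (B x y ↔ ¬ B y x) := by
    intro x y hx hy hxy
    obtain ⟨a, ha⟩ := htrans x hx
    obtain ⟨b, hb⟩ := htrans y hy
    rw [hwd ha, hwd hb]
    set y' := ρ a⁻¹ y with hy'
    set x' := ρ b⁻¹ x with hx'
    have hy't : y' ≠ t := fun e => hxy (by rw [← ha, ← e, hy', hcomp])
    have hy'1 : y' ≠ 1 := fun e => hy (by rw [← hcomp a y, ← hy', e, map_one])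
    have hx't : x' ≠ t := fun e => hxy (by rw [← hb, ← e, hx', hcomp])
    have hx'1 : x' ≠ 1 := fun e => hx (by rw [← hcomp b x, ← hx', e, map_one])
    constructor
    · intro h1 h2
      obtain ⟨c, hct, hc⟩ := hVtr y' h1 hy'1 x' h2 hx'1
      -- `b * c * a⁻¹` interchanges `x` and `y`
      refine hxy (fix_of_swap ρ hodd (c := b * c * a⁻¹) ?_ ?_)
      · rw [map_mul, map_mul, MulAut.mul_apply, MulAut.mul_apply]
        nth_rw 1 [← ha]
        rw [hcomp', hct, hb]
      · rw [map_mul, map_mul, MulAut.mul_apply, MulAut.mul_apply, ← hy', hc, hx', hcomp]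
    · intro h2
      by_contra h1
      have e1 : t * y' ∈ V := (hdec y').resolve_left h1
      have e2 : t * x' ∈ V := (hdec x').resolve_left h2
      have n1 : t * y' ≠ 1 := fun e => hy't (by rw [← hcancel t y', e, mul_one])
      have n2 : t * x' ≠ 1 := fun e => hx't (by rw [← hcancel t x', e, mul_one])
      obtain ⟨c, hct, hc⟩ := hVtr _ e1 n1 _ e2 n2
      rw [map_mul, hct, mul_right_inj] at hc
      refine hxy (fix_of_swap ρ hodd (c := b * c * a⁻¹) ?_ ?_)
      · rw [map_mul, map_mul, MulAut.mul_apply, MulAut.mul_apply]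
        nth_rw 1 [← ha]
        rw [hcomp', hct, hb]
      · rw [map_mul, map_mul, MulAut.mul_apply, MulAut.mul_apply, ← hy', hc, hx', hcomp]
  -- hyperplanes have index two
  have hlin : ∀ x y z : T, x ≠ 1 → (B x (y * z) ↔ (B x y ↔ B x z)) := by
    intro x y z hx
    obtain ⟨a, ha⟩ := htrans x hx
    rw [hwd ha, hwd ha, hwd ha, map_mul]
    constructor
    · intro h
      exact ⟨fun h' => (V.mul_mem_cancel_left h').1 h, fun h' => (V.mul_mem_cancel_right h').1 h⟩
    · intro h
      by_cases h1 : ρ a⁻¹ y ∈ V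
      · exact V.mul_mem h1 (h.1 h1)
      · have e1 := (hdec _).resolve_left h1
        have e2 := (hdec _).resolve_left (fun e => h1 (h.2 e))
        have := V.mul_mem e1 e2
        rwa [mul_mul_mul_comm, htwo, one_mul] at this
  -- two distinct points of the hyperplane and their product
  obtain ⟨a, ha, b, hb, hab⟩ : ∃ a : T, a ≠ 1 ∧ ∃ b : T, b ≠ 1 ∧ a ≠ b := by
    have : 3 ≤ Nat.card V := by omega
    obtain ⟨p, hp, hp1⟩ := (Subgroup.bot_or_exists_ne_one V).resolve_left (fun e => by
      rw [e, Subgroup.card_bot] at this; omega)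
    exact ⟨t, fun e => ht (e ▸ V.one_mem), p, hp1, fun e => ht (e ▸ hp)⟩
  set c := a * b with hc
  have hc1 : c ≠ 1 := fun e => hab (by rw [← hcancel a b, ← hc, e, mul_one])
  have hrel : ∀ x : T, x ≠ 1 → x ≠ a → x ≠ b → x ≠ c → (B c x ↔ ¬ (B a x ↔ B b x)) := by
    intro x x1 xa xb xc
    have h1 := harc x a x1 ha xa
    have h2 := harc x b x1 hb xb
    have h3 := harc x c x1 hc1 xc
    have h4 := hlin x a b x1
    rw [← hc] at h4
    rw [← Classical.not_not (a := B c x), ← h3, h4, h1, h2, not_iff_not]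
    exact not_iff_not
  -- two further points
  have hT : 16 ≤ Nat.card T := by
    obtain ⟨k, hk⟩ : ∃ k, Nat.card V = 2 ^ k := by
      have : Fact (Nat.Prime 2) := ⟨Nat.prime_two⟩
      exact IsPGroup.iff_card.1 (fun v : V => ⟨1, Subtype.ext (by simpa [pow_two] using htwo v.1)⟩)
    have h8 : 8 ≤ Nat.card V := by
      rw [hk] at hlarge ⊢
      have : 3 ≤ k := by
        by_contra hk3
        exact hlarge ((Nat.pow_le_pow_right (show 0 < 2 by norm_num) (show k ≤ 2 by omega)).trans (by norm_num))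
      exact le_trans (by norm_num) (Nat.pow_le_pow_right (show 0 < 2 by norm_num) this)
    have h2 : Nat.card V * 2 ≤ Nat.card T := by
      have h3 : 2 ≤ V.index := by
        have h4 : V.index ≠ 0 := Subgroup.index_ne_zero_of_finite
        have h5 : V.index ≠ 1 := fun e => ht (by rw [Subgroup.index_eq_one.1 e]; trivial)
        omega
      calc Nat.card V * 2 ≤ Nat.card V * V.index := Nat.mul_le_mul_left _ h3
        _ = Nat.card T := V.card_mul_index
    omega
  have hout : ∀ S : Finset T, S.card < 16 → ∃ x, x ∉ S := by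
    intro S hS
    by_contra h
    have : Finset.card S = Nat.card T := by
      have := Fintype.ofFinite T
      rw [Nat.card_eq_fintype_card, ← Finset.card_univ]
      congr 1
      exact Finset.eq_univ_of_forall fun x => by_contra fun hx => h ⟨x, hx⟩
    omega
  obtain ⟨x, hx⟩ := hout {1, a, b, c} (lt_of_le_of_lt Finset.card_le_four (by norm_num))
  simp only [Finset.mem_insert, Finset.mem_singleton, not_or] at hx
  obtain ⟨y, hy⟩ := hout ({1, a, b, c} ∪ {x, x * a, x * b, x * c})
    (lt_of_le_of_lt (Finset.card_union_le _ _) (by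
      have h1 := Finset.card_le_four (a := (1 : T)) (b := a) (c := b) (d := c)
      have h2 := Finset.card_le_four (a := x) (b := x * a) (c := x * b) (d := x * c)
      omega))
  simp only [Finset.mem_union, Finset.mem_insert, Finset.mem_singleton, not_or] at hy
  obtain ⟨x1, xa, xb, xc⟩ := hx
  obtain ⟨⟨y1, ya, yb, yc⟩, yx, yxa, yxb, yxc⟩ := hy
  have e1 := hrel x x1 xa xb xc
  have e2 := hrel y y1 ya yb yc
  have e3 := hrel (x * y) (fun e => yx (by rw [← hcancel x y, e, mul_one]))
    (fun e => yxa (by rw [← e, hcancel])) (fun e => yxb (by rw [← e, hcancel]))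
    (fun e => yxc (by rw [← e, hcancel]))
  rw [hlin a x y ha, hlin b x y hb, hlin c x y hc1] at e3
  exact parity_false e1 e2 e3

end CfsgLib.Core.TwoTimesPSL
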