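import Cfsg.Agent.Lib.Core.TwoTimesPSL.LevelTranslation

/-!
# Transfer with extremal conjugates

* `transfer_eq_of_extremal`: if all conjugates of an involution `u` carrying a given 2-subgroup of
  `C(u)` into `S` have the same image, the transfer of `u` is that image
* `Setting.exists_extremal_of_indexTwo`: in a simple group every subgroup of index `2` missing `t`
  contains an extremal conjugate of `t`
-/

set_option autoImplicit false
set_option linter.unusedSectionVars false

namespace CfsgLib.Core.TwoTimesPSL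

universe u v

open MulAction in
theorem transfer_eq_of_extremal {G : Type u} [Group G] [Finite G] (S : Sylow 2 G) {C : Type v} [CommGroup C]
    (φ : (S : Subgroup G) →* C) {u : G} (hu : u * u = 1) {P : Subgroup G} (hP : IsPGroup 2 P)
    (huP : u ∈ P) (hPu : ∀ y ∈ P, Commute y u) (c0 : C)
    (hext : ∀ g : G, (∀ y ∈ P, g⁻¹ * y * g ∈ (S : Subgroup G)) →
      ∀ h : g⁻¹ * u * g ∈ (S : Subgroup G), φ ⟨_, h⟩ = c0) :
    MonoidHom.transfer φ u = c0 := by
  classical
  have : Fact (Nat.Prime 2) := ⟨Nat.prime_two⟩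
  let _ : Fintype (G ⧸ (S : Subgroup G)) := Fintype.ofFinite _
  have hsq : ∀ (g : G) (h : g⁻¹ * u * g ∈ (S : Subgroup G)), φ ⟨_, h⟩ * φ ⟨_, h⟩ = 1 := by
    intro g h
    rw [← map_mul]
    convert map_one φ
    refine Subtype.ext ?_
    show g⁻¹ * u * g * (g⁻¹ * u * g) = 1
    rw [show g⁻¹ * u * g * (g⁻¹ * u * g) = g⁻¹ * (u * u) * g by group, hu]; group
  have hc0 : c0 * c0 = 1 := by
    obtain ⟨g, hg⟩ : ∃ g : G, ∀ y ∈ P, g⁻¹ * y * g ∈ (S : Subgroup G) := by
      obtain ⟨Q, hQ⟩ := hP.exists_le_sylow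
      obtain ⟨g, hg⟩ := MulAction.exists_smul_eq G Q S
      refine ⟨g⁻¹, fun y hy => ?_⟩
      rw [inv_inv, ← hg, Sylow.coe_subgroup_smul]
      exact Subgroup.smul_mem_pointwise_smul _ (MulAut.conj g) _ (hQ hy)
    have h := hg u huP
    rw [← hext g hg h]
    exact hsq g h
  let f : G ⧸ (S : Subgroup G) → C := fun z =>
    if h : z.out⁻¹ * u * z.out ∈ (S : Subgroup G) then φ ⟨_, h⟩ else 1
  have hfix : ∀ z : G ⧸ (S : Subgroup G), z.out⁻¹ * u * z.out ∈ (S : Subgroup G) ↔ u • z = z := by
    intro z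
    conv_rhs => rw [← QuotientGroup.out_eq' z]
    rw [MulAction.Quotient.smul_mk, eq_comm, QuotientGroup.eq, smul_eq_mul, mul_assoc]
  -- the transfer as a product over all cosets
  have key : MonoidHom.transfer φ u = ∏ z, f z := by
    have : Fintype (Quotient (orbitRel (Subgroup.zpowers u) (G ⧸ (S : Subgroup G)))) := Fintype.ofFinite _
    rw [MonoidHom.transfer_eq_prod_quotient_orbitRel_zpowers_quot, ← Finset.prod_filter_ne_one (f := f)]
    have hclass : ∀ z : G ⧸ (S : Subgroup G), u • z = z →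
        (Quotient.mk'' z : Quotient (orbitRel (Subgroup.zpowers u) (G ⧸ (S : Subgroup G)))).out = z := by
      intro z hz
      obtain ⟨⟨x, hx⟩, hxz⟩ := Quotient.exact' (Quotient.out_eq'
        (Quotient.mk'' z : Quotient (orbitRel (Subgroup.zpowers u) (G ⧸ (S : Subgroup G)))))
      rw [← hxz]
      obtain ⟨n, rfl⟩ := Subgroup.mem_zpowers_iff.1 hx
      show u ^ n • z = z
      have hmem : u ∈ MulAction.stabilizer G z := hz
      exact Subgroup.zpow_mem _ hmem n
    symm
    refine Finset.prod_of_injOn (fun z => Quotient.mk'' z) ?_ ?_ ?_ ?_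
    · intro z hz z' hz' h
      have fixed : ∀ {w}, f w ≠ 1 → u • w = w := fun {w} hw => (hfix w).1 (by
        by_contra hn; exact hw (dif_neg hn))
      rw [← hclass z (fixed (Finset.mem_filter.1 hz).2), ← hclass z' (fixed (Finset.mem_filter.1 hz').2)]
      exact congrArg Quotient.out h
    · intro z _; exact Finset.mem_univ _
    · intro q _ hq
      have hdvd : Function.minimalPeriod (u • ·) q.out ∣ 2 := by
        refine Function.IsPeriodicPt.minimalPeriod_dvd ?_
        show u • u • q.out = q.out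
        rw [smul_smul, hu, one_smul]
      rcases (Nat.dvd_prime Nat.prime_two).mp hdvd with h | h
      · have hz : u • q.out = q.out := Function.minimalPeriod_eq_one_iff_isFixedPt.1 h
        by_contra hne
        refine hq ⟨q.out, Finset.mem_coe.2 (Finset.mem_filter.2 ⟨Finset.mem_univ _, ?_⟩), Quotient.out_eq' q⟩
        intro hf
        apply hne
        simp only [f, dif_pos ((hfix _).2 hz)] at hf
        rw [← hf]
        congr 1
        refine Subtype.ext ?_
        show q.out.out⁻¹ * u ^ Function.minimalPeriod (u • ·) q.out * q.out.out = q.out.out⁻¹ * u * q.out.out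
        rw [h, pow_one]
      · convert map_one φ
        show q.out.out⁻¹ * u ^ Function.minimalPeriod (u • ·) q.out * q.out.out = 1
        rw [h, pow_two, hu]; group
    · intro z hz
      have hfz := (Finset.mem_filter.1 hz).2
      have hmem : z.out⁻¹ * u * z.out ∈ (S : Subgroup G) := by
        by_contra hn; exact hfz (dif_neg hn)
      have hz' := hclass z ((hfix z).1 hmem)
      simp only [f, dif_pos hmem]
      congr 1
      refine Subtype.ext ?_
      have h1 : Function.minimalPeriod (u • ·) z = 1 :=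
        Function.minimalPeriod_eq_one_iff_isFixedPt.2 ((hfix z).1 hmem)
      show z.out⁻¹ * u * z.out = (Quotient.out _)⁻¹ * u ^ Function.minimalPeriod (u • ·) _ * Quotient.out _
      rw [hz', h1, pow_one]
  rw [key]
  -- group the cosets by their value
  have hconj : ∀ (y : G), y ∈ P → ∀ z, f (y • z) = f z := by
    intro y hy z
    have he : ∃ s ∈ (S : Subgroup G), (y • z).out = y * z.out * s := by
      refine ⟨(y * z.out)⁻¹ * (y • z).out, ?_, by rw [mul_inv_cancel_left]⟩
      rw [← QuotientGroup.eq, QuotientGroup.out_eq']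
      conv_rhs => rw [← QuotientGroup.out_eq' z]
      rfl
    obtain ⟨s, hs, he⟩ := he
    have e : (y • z).out⁻¹ * u * (y • z).out = s⁻¹ * (z.out⁻¹ * u * z.out) * s := by
      have hc := (hPu y hy).eq
      rw [he]
      calc (y * z.out * s)⁻¹ * u * (y * z.out * s) = s⁻¹ * z.out⁻¹ * (y⁻¹ * (u * y)) * z.out * s := by group
        _ = _ := by rw [← hc]; group
    by_cases h : z.out⁻¹ * u * z.out ∈ (S : Subgroup G)
    · have h' : (y • z).out⁻¹ * u * (y • z).out ∈ (S : Subgroup G) := by
        rw [e]; exact mul_mem (mul_mem (inv_mem hs) h) hs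
      simp only [f, dif_pos h, dif_pos h']
      rw [show (⟨_, h'⟩ : (S : Subgroup G)) = (⟨s, hs⟩ : (S : Subgroup G))⁻¹ * ⟨_, h⟩ * ⟨s, hs⟩ from Subtype.ext e,
        map_mul, map_mul, map_inv, inv_mul_cancel_comm]
    · have h' : ¬ (y • z).out⁻¹ * u * (y • z).out ∈ (S : Subgroup G) := by
        intro hh
        apply h
        rw [e] at hh
        have := mul_mem (mul_mem hs hh) (inv_mem hs)
        simpa [mul_assoc] using this
      simp only [f, dif_neg h, dif_neg h']
  have hfixP : ∀ z : G ⧸ (S : Subgroup G), (∀ y ∈ P, y • z = z) → f z = c0 := by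
    intro z hz
    have hg : ∀ y ∈ P, z.out⁻¹ * y * z.out ∈ (S : Subgroup G) := by
      intro y hy
      rw [mul_assoc, ← QuotientGroup.eq, QuotientGroup.out_eq']
      conv_rhs => rw [← smul_eq_mul, ← MulAction.Quotient.smul_mk, QuotientGroup.out_eq']
      exact (hz y hy).symm
    have h := hg u huP
    simp only [f, dif_pos h]
    exact hext _ hg h
  let A : C → SubMulAction P (G ⧸ (S : Subgroup G)) := fun c =>
    { carrier := {z | f z = c}
      smul_mem' := fun y z hz => by
        show f ((y : G) • z) = c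
        rw [hconj _ y.2]; exact hz }
  have hA : ∀ c z, z ∈ A c ↔ f z = c := fun c z => Iff.rfl
  have heven : ∀ c, c ≠ c0 → 2 ∣ (Finset.univ.filter (fun z => f z = c)).card := by
    intro c hc
    have h1 : Nat.card (A c) = (Finset.univ.filter (fun z => f z = c)).card := by
      rw [← Fintype.card_subtype, ← Nat.card_eq_fintype_card]; rfl
    rw [← h1]
    have h2 : Nat.card (A c) ≡ Nat.card (MulAction.fixedPoints P (A c)) [MOD 2] :=
      hP.card_modEq_card_fixedPoints _
    have : IsEmpty (MulAction.fixedPoints P (A c)) := ⟨fun ⟨⟨z, hz⟩, hzf⟩ => hc (by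
      rw [← (hA c z).1 hz]
      exact hfixP z fun y hy => congrArg Subtype.val (hzf ⟨y, hy⟩))⟩
    have h3 : Nat.card (MulAction.fixedPoints P (A c)) = 0 := Nat.card_of_isEmpty
    rw [h3] at h2
    exact Nat.modEq_zero_iff_dvd.1 h2
  have hodd : ¬ 2 ∣ Fintype.card (G ⧸ (S : Subgroup G)) := by
    rw [← Nat.card_eq_fintype_card, ← Subgroup.index_eq_card]
    exact S.not_dvd_index
  rw [Finset.prod_comp (fun c => c) f]
  have hsq' : ∀ z, f z * f z = 1 := fun z => by
    by_cases h : z.out⁻¹ * u * z.out ∈ (S : Subgroup G)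
    · simp only [f, dif_pos h]; exact hsq _ h
    · simp only [f, dif_neg h, one_mul]
  have hpow : ∀ {c : C} {n : ℕ}, c * c = 1 → 2 ∣ n → c ^ n = 1 := fun {c n} hc ⟨m, hm⟩ => by
    rw [hm, pow_mul, pow_two, hc, one_pow]
  have hsum : Fintype.card (G ⧸ (S : Subgroup G)) =
      ∑ c ∈ Finset.univ.image f, (Finset.univ.filter (fun z => f z = c)).card :=
    Finset.card_eq_sum_card_image f Finset.univ
  have hne0 : c0 ∈ Finset.univ.image f := by
    by_contra hn
    refine hodd ?_
    rw [hsum]
    exact Finset.dvd_sum fun c hc => heven c fun e => hn (e ▸ hc)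
  rw [Finset.prod_eq_single c0 (fun c hc hne => by
    obtain ⟨z, -, rfl⟩ := Finset.mem_image.1 hc
    exact hpow (hsq' z) (heven _ hne)) fun h => absurd hne0 h]
  rw [← Finset.add_sum_erase _ _ hne0] at hsum
  obtain ⟨m, hm⟩ := Finset.dvd_sum fun c hc => heven c (Finset.mem_erase.1 hc).1
  rw [hm] at hsum
  obtain ⟨j, hj⟩ : ∃ j, (Finset.univ.filter (fun z => f z = c0)).card = 2 * j + 1 := by
    refine ⟨(Finset.univ.filter (fun z => f z = c0)).card / 2, ?_⟩
    omega
  rw [hj, pow_succ, pow_mul, pow_two, hc0, one_pow, one_mul]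

/-- A simple non-abelian group has no non-trivial abelian quotient. -/
theorem hom_eq_one {G : Type u} [Group G] [IsSimpleGroup G] (hG : ¬ IsMulCommutative G) {C : Type v}
    [CommGroup C] (τ : G →* C) (x : G) : τ x = 1 := by
  rcases τ.normal_ker.eq_bot_or_eq_top with h | h
  · exact absurd ⟨⟨fun a b => τ.ker_eq_bot_iff.1 h (by rw [map_mul, map_mul, mul_comm])⟩⟩ hG
  · exact MonoidHom.mem_ker.1 (h.symm ▸ Subgroup.mem_top x)

namespace Setting

variable {G : Type u} [Group G] (σ : Setting G)

include σ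

/-- Conjugates carrying `T` into `S` are extremal. -/
theorem extremal_of_le {S : Subgroup G} (hS : IsPGroup 2 S) {g : G}
    (hg : ∀ y ∈ σ.T, g * y * g⁻¹ ∈ S) : σ.Extremal S (g * σ.t * g⁻¹) := by
  refine ⟨g, rfl, fun y => ⟨fun h => ?_, fun h => ⟨?_, ?_⟩⟩⟩
  · refine σ.mem_T_of_two_group (hS.map (MulAut.conj g⁻¹).toMonoidHom)
      (fun v hv => ⟨_, hg v (σ.V_le_T hv), by simp [mul_assoc]⟩)
      ⟨_, hg _ σ.t_mem_T, by simp [mul_assoc]⟩ ⟨y, h.1, by simp⟩ ?_
    calc g⁻¹ * y * g * σ.t = g⁻¹ * (y * (g * σ.t * g⁻¹)) * g := by group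
      _ = g⁻¹ * ((g * σ.t * g⁻¹) * y) * g := by rw [h.2.eq]
      _ = σ.t * (g⁻¹ * y * g) := by group
  · have := hg _ h
    rwa [show g * (g⁻¹ * y * g) * g⁻¹ = y by group] at this
  · calc y * (g * σ.t * g⁻¹) = g * ((g⁻¹ * y * g) * σ.t) * g⁻¹ := by group
      _ = g * (σ.t * (g⁻¹ * y * g)) * g⁻¹ := by rw [(σ.T_comm_t h).eq]
      _ = g * σ.t * g⁻¹ * y := by group

/-- An index two subgroup missing `t` contains an extremal conjugate of `t`. -/
theorem exists_extremal_of_indexTwo [Finite G] [IsSimpleGroup G] (hG : ¬ IsMulCommutative G)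
    (S : Sylow 2 G) (hTS : σ.T ≤ (S : Subgroup G)) {W : Subgroup G} (hW : σ.IndexTwo S W) :
    ∃ x ∈ W, σ.Extremal S x := by
  classical
  by_contra hcon
  push Not at hcon
  have hidx : (W.subgroupOf (S : Subgroup G)).index = 2 := by
    have h1 := Subgroup.card_mul_index (W.subgroupOf (S : Subgroup G))
    rw [Nat.card_congr (Subgroup.subgroupOfEquivOfLe hW.1).toEquiv, hW.card (hTS σ.t_mem_T),
      mul_comm 2] at h1
    exact Nat.eq_of_mul_eq_mul_left Nat.card_pos h1
  let φ : (S : Subgroup G) →* Multiplicative (ZMod 2) :=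
    MonoidHom.mk' (fun x => if x ∈ W.subgroupOf (S : Subgroup G) then 1 else flag) fun a b => by
      have h := Subgroup.mul_mem_iff_of_index_two hidx (a := a) (b := b)
      by_cases ha : a ∈ W.subgroupOf (S : Subgroup G) <;> by_cases hb : b ∈ W.subgroupOf (S : Subgroup G) <;>
        simp [h, ha, hb, flag_mul]
  have h1 := transfer_eq_of_extremal S φ σ.invo σ.T_two σ.t_mem_T (fun y hy => σ.T_comm_t hy) flag
    (fun g hg h => by
      have hx : ¬ g⁻¹ * σ.t * g ∈ W := fun hmem => hcon _ hmem (by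
        have := σ.extremal_of_le S.isPGroup' (g := g⁻¹) (fun y hy => by rw [inv_inv]; exact hg y hy)
        rwa [inv_inv] at this)
      show (if (⟨_, h⟩ : (S : Subgroup G)) ∈ W.subgroupOf (S : Subgroup G) then (1 : Multiplicative (ZMod 2)) else flag) = flag
      rw [if_neg]
      simpa [Subgroup.mem_subgroupOf] using hx)
  exact flag_ne (h1.symm.trans (hom_eq_one hG _ _))

end Setting

end CfsgLib.Core.TwoTimesPSL
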