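import Cfsg.Agent.Lib.Core.TwoTimesPSL.LevelMain
import Cfsg.Agent.Lib.Core.TwoTimesPSL.Transfer
import Cfsg.Agent.Lib.Core.TwoTimesPSL.Tournament

/-!
# The elementary case

In a simple group, if `T = ⟨t⟩ × V` is elementary then `T` is a Sylow subgroup of order `8`.
-/

set_option autoImplicit false
set_option linter.unusedSectionVars false

namespace CfsgLib.Core.TwoTimesPSL

universe u

variable {G : Type u} [Group G]

namespace Setting

variable (σ : Setting G)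

include σ

theorem outer_iff {x : G} (hx : x ∈ σ.T) : σ.t * x ∈ σ.V ↔ x ∉ σ.V := by
  refine ⟨fun h hxV => σ.not_mem ?_, fun h => hx.resolve_left h⟩
  have := σ.V.mul_mem h (σ.V.inv_mem hxV)
  rwa [mul_inv_cancel_right] at this

theorem w_pow_norm (k : ℕ) : ∀ v ∈ σ.V, σ.w ^ k * v * (σ.w ^ k)⁻¹ ∈ σ.V := by
  induction k with
  | zero => intro v hv; simpa using hv
  | succ k ih =>
    intro v hv
    rw [pow_succ', show σ.w * σ.w ^ k * v * (σ.w * σ.w ^ k)⁻¹ = σ.w * (σ.w ^ k * v * (σ.w ^ k)⁻¹) * σ.w⁻¹ by group]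
    exact σ.w_norm _ (ih v hv)

theorem w_mem_normalizer [Finite G] : σ.w ∈ Subgroup.normalizer (σ.T : Set G) := by
  have hf : ∀ x ∈ σ.T, σ.w * x * σ.w⁻¹ ∈ σ.T := by
    intro x hx
    rcases hx with hx | hx
    · exact Or.inl (σ.w_norm x hx)
    · refine Or.inr ?_
      rw [show σ.t * (σ.w * x * σ.w⁻¹) = σ.t * σ.w * x * σ.w⁻¹ by group, ← σ.w_cent.eq, mul_assoc σ.w σ.t x]
      exact σ.w_norm _ hx
  let f : σ.T → σ.T := fun x => ⟨_, hf x.1 x.2⟩
  have hs : Function.Surjective f := Finite.injective_iff_surjective.1 fun a b e =>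
    Subtype.ext (mul_left_cancel (mul_right_cancel (congrArg Subtype.val e :)))
  rw [Subgroup.mem_normalizer_iff]
  refine fun x => ⟨hf x, fun hx => ?_⟩
  obtain ⟨a, ha⟩ := hs ⟨_, hx⟩
  have : (a : G) = x := mul_left_cancel (mul_right_cancel (congrArg Subtype.val ha :))
  exact this ▸ a.2

/-- An element of `C(t)` of `2`-power order normalising `T` lies in `T`. -/
theorem mem_T_of_normalizer [Finite G] {g : G} {k : ℕ} (hk : g ^ 2 ^ k = 1)
    (hg : g ∈ Subgroup.normalizer (σ.T : Set G)) (hgt : Commute g σ.t) : g ∈ σ.T := by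
  have hz : IsPGroup 2 (Subgroup.zpowers g) := by
    obtain ⟨i, -, hi⟩ := (Nat.dvd_prime_pow Nat.prime_two).1 (orderOf_dvd_of_pow_eq_one hk)
    exact IsPGroup.of_card (by rw [Nat.card_zpowers, hi])
  have hP := IsPGroup.to_sup_of_normal_right' hz σ.T_two ((Subgroup.zpowers_le).2 hg)
  exact σ.mem_T_of_two_group hP (fun v hv => Subgroup.mem_sup_right (σ.V_le_T hv))
    (Subgroup.mem_sup_right σ.t_mem_T) (Subgroup.mem_sup_left (Subgroup.mem_zpowers g)) hgt

/-- If `t` is not moved inside `T`, the orbit hypothesis or a transfer contradiction follows. -/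
theorem false_of_not_moved [Finite G] [IsSimpleGroup G] (hG : ¬ IsMulCommutative G)
    (hA : ∀ g ∈ Subgroup.normalizer (σ.T : Set G), g * σ.t * g⁻¹ ∉ σ.V) : False := by
  have hTcase : ∀ g ∈ Subgroup.normalizer (σ.T : Set G), σ.t * (g * σ.t * g⁻¹) ∈ σ.V := fun g hg =>
    (σ.outer_iff ((Subgroup.mem_normalizer_iff.1 hg _).1 σ.t_mem_T)).2 (hA g hg)
  by_cases hB : ∃ g ∈ Subgroup.normalizer (σ.T : Set G), g * σ.t * g⁻¹ ≠ σ.t
  · -- the orbit is `tV`
    obtain ⟨g, hg, hne⟩ := hB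
    have horb : σ.Orbit := ⟨hTcase, fun v hv => by
      rcases eq_or_ne v 1 with rfl | hv1
      · exact ⟨1, one_mem _, by simp [σ.invo]⟩
      · obtain ⟨k, hk⟩ := σ.w_trans _ (hTcase g hg) (fun e => hne (by
          have := congrArg (σ.t * ·) e
          simpa [σ.t_mul_mul] using this)) v hv hv1
        refine ⟨σ.w ^ k * g, mul_mem (pow_mem σ.w_mem_normalizer k) hg, ?_⟩
        rw [← hk, show σ.t * (σ.w ^ k * g * σ.t * (σ.w ^ k * g)⁻¹) = σ.t * σ.w ^ k * (g * σ.t * g⁻¹) * (σ.w ^ k)⁻¹ by group,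
          ← (σ.w_cent.pow_left k).eq]
        group⟩
    obtain ⟨S, hTS, hout⟩ := σ.structure_theorem horb
    rcases hout with ⟨K, hK, hVK, hab, hct, hor⟩ | ⟨M, K, j, hj, -, -, -, -, -, -, hK, hMK, -, -, -, hext⟩ | ⟨-, W, hW, hext⟩
    · obtain ⟨x, hx, hxe⟩ := σ.exists_extremal_of_indexTwo hG S hTS hK
      have hle : Nat.card K ≤ Nat.card {y : G // y ∈ (S : Subgroup G) ∧ Commute y x} :=
        Nat.card_le_card_of_injective (fun y : K => ⟨y.1, hK.1 y.2, hab _ y.2 _ hx⟩)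
          fun a b e => Subtype.ext (congrArg Subtype.val e :)
      rw [σ.extremal_card hxe] at hle
      have h4 := σ.four_le
      have hcard : Nat.card σ.V ^ 2 ≤ Nat.card K := by
        rcases hor with ⟨j, hj, -, -, e⟩ | ⟨-, e⟩
        · rw [e]; exact Nat.pow_le_pow_right (by omega) hj
        · rw [e]
      have : 4 * Nat.card σ.V ≤ Nat.card σ.V ^ 2 := by rw [pow_two]; exact Nat.mul_le_mul_right _ h4
      omega
    · obtain ⟨x, hx, hxe⟩ := σ.exists_extremal_of_indexTwo hG S hTS hK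
      refine hK.2.1 ?_
      have := K.mul_mem (hMK (hext x (hK.1 hx) hxe)) (K.inv_mem hx)
      rwa [mul_inv_cancel_right] at this
    · obtain ⟨x, hx, hxe⟩ := σ.exists_extremal_of_indexTwo hG S hTS hW
      exact hext x hx hxe
  · -- `N(T)` centralises `t`
    push Not at hB
    obtain ⟨S, hS⟩ := exists_sylow_eq σ.T_two fun P hP hle => by
      by_contra hne
      obtain ⟨g, hgP, hgT, hgN⟩ := exists_normalizer_mem hP hle hne
      obtain ⟨k, hk⟩ := hP ⟨g, hgP⟩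
      exact hgT (σ.mem_T_of_normalizer (congrArg Subtype.val hk :) hgN (mul_inv_eq_iff_eq_mul.1 (hB g hgN)))
    have hW : σ.IndexTwo (S : Subgroup G) σ.V := by
      rw [hS]
      exact ⟨σ.V_le_T, σ.not_mem, fun x hx => hx⟩
    obtain ⟨x, hx, g, hgx, hg⟩ := σ.exists_extremal_of_indexTwo hG S (hS ▸ le_rfl) hW
    have hxT : ∀ y ∈ σ.T, Commute y x := fun y hy => by
      rcases hy with hy | hy
      · exact σ.v_comm hy hx
      · rw [← σ.t_mul_mul y]
        exact (σ.cent x hx).mul_left (σ.v_comm hy hx)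
    have hgN : g ∈ Subgroup.normalizer (σ.T : Set G) := by
      have hf : ∀ y ∈ σ.T, g⁻¹ * y * g ∈ σ.T := fun y hy => (hg y).1 ⟨hS ▸ hy, hxT y hy⟩
      rw [Subgroup.mem_normalizer_iff'']
      refine fun y => ⟨hf y, fun hy => ?_⟩
      exact hS ▸ ((hg y).2 hy).1
    exact hA g hgN (hgx ▸ hx)

/-- The elementary case. -/
theorem card_eq_eight [Finite G] [IsSimpleGroup G] (hG : ¬ IsMulCommutative G) (S : Sylow 2 G) :
    Nat.card (S : Subgroup G) = 8 ∧ ∀ x ∈ (S : Subgroup G), x ^ 2 = 1 := by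
  classical
  obtain ⟨g, hg, hgV⟩ : ∃ g ∈ Subgroup.normalizer (σ.T : Set G), g * σ.t * g⁻¹ ∈ σ.V := by
    by_contra hcon
    push Not at hcon
    exact σ.false_of_not_moved hG hcon
  set N := Subgroup.normalizer (σ.T : Set G)
  have hwtr : ∀ {u v : G}, u ∈ σ.V → u ≠ 1 → v ∈ σ.V → v ≠ 1 → ∃ h ∈ N, Commute h σ.t ∧ h * u * h⁻¹ = v :=
    fun {u v} hu hu1 hv hv1 => (σ.w_trans u hu hu1 v hv hv1).elim fun k hk =>
      ⟨σ.w ^ k, pow_mem σ.w_mem_normalizer k, σ.w_cent.pow_left k, hk⟩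
  have hne1 : ∀ {h : G}, h * σ.t * h⁻¹ ≠ 1 := fun e => σ.t_ne_one (conj_eq_one_iff.1 e)
  have horbV : ∀ v ∈ σ.V, v ≠ 1 → ∃ h ∈ N, h * σ.t * h⁻¹ = v := by
    intro v hv hv1
    obtain ⟨h, hh, -, he⟩ := hwtr hgV hne1 hv hv1
    exact ⟨h * g, mul_mem hh hg, by rw [← he]; group⟩
  -- some conjugate in `tV` other than `t`
  obtain ⟨g', hg', hg'o, hg't⟩ : ∃ g' ∈ N, g' * σ.t * g'⁻¹ ∉ σ.V ∧ g' * σ.t * g'⁻¹ ≠ σ.t := by
    by_contra hcon
    push Not at hcon
    set v := g * σ.t * g⁻¹ with hv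
    obtain ⟨v', hv', hv'1, hv'v⟩ : ∃ v' ∈ σ.V, v' ≠ 1 ∧ v' ≠ v := by
      by_contra hc
      push Not at hc
      have hle : Nat.card σ.V ≤ Nat.card (Fin 2) := by
        refine Nat.card_le_card_of_injective (fun b : σ.V => if b.1 = 1 then (0 : Fin 2) else 1) fun b b' e => ?_
        by_cases hb : b.1 = 1 <;> by_cases hb' : b'.1 = 1 <;> simp [hb, hb'] at e
        · exact Subtype.ext (hb.trans hb'.symm)
        · exact Subtype.ext ((hc _ b.2 hb).trans (hc _ b'.2 hb').symm)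
      rw [Nat.card_fin] at hle
      have := σ.four_le
      omega
    obtain ⟨h1, hh1, he1⟩ := horbV v' hv' hv'1
    have hvv : v * v' ∈ σ.V := σ.V.mul_mem hgV hv'
    have hvv1 : v * v' ≠ 1 := fun e => hv'v (by
      rw [← σ.v_inv hv']
      exact (eq_inv_of_mul_eq_one_left e).symm)
    obtain ⟨h2, hh2, he2⟩ := horbV _ hvv hvv1
    -- pull back by `g`
    have e1 := hcon (g⁻¹ * h1) (mul_mem (inv_mem hg) hh1)
    have e2 := hcon (g⁻¹ * h2) (mul_mem (inv_mem hg) hh2)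
    have f1 : g⁻¹ * h1 * σ.t * (g⁻¹ * h1)⁻¹ = g⁻¹ * v' * g := by rw [← he1]; group
    have f2 : g⁻¹ * h2 * σ.t * (g⁻¹ * h2)⁻¹ = σ.t * (g⁻¹ * v' * g) := by
      calc g⁻¹ * h2 * σ.t * (g⁻¹ * h2)⁻¹ = g⁻¹ * (v * v') * g := by rw [← he2]; group
        _ = g⁻¹ * v * g * (g⁻¹ * v' * g) := by group
        _ = _ := by rw [hv]; group
    rw [f1] at e1
    rw [f2] at e2
    have hy1 : g⁻¹ * v' * g ∈ σ.V := by
      by_contra hc
      exact hv'v (by rw [hv, ← e1 hc]; group)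
    have hy2 : σ.t * (g⁻¹ * v' * g) ∉ σ.V := fun h => σ.not_mem (by
      have := σ.V.mul_mem h (σ.V.inv_mem hy1)
      rwa [mul_inv_cancel_right] at this)
    have := e2 hy2
    rw [mul_eq_left] at this
    exact hv'1 (by rw [show v' = g * (g⁻¹ * v' * g) * g⁻¹ by group, this]; group)
  have hg'out : σ.t * (g' * σ.t * g'⁻¹) ∈ σ.V :=
    (σ.outer_iff ((Subgroup.mem_normalizer_iff.1 hg' _).1 σ.t_mem_T)).2 hg'o
  have horb : ∀ x ∈ σ.T, x ≠ 1 → ∃ h ∈ N, h * σ.t * h⁻¹ = x := by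
    intro x hx hx1
    rcases hx with hx | hx
    · exact horbV x hx hx1
    rcases eq_or_ne x σ.t with rfl | hxt
    · exact ⟨1, one_mem _, by group⟩
    have hv1 : σ.t * (g' * σ.t * g'⁻¹) ≠ 1 := fun e => hg't (by
      have := congrArg (σ.t * ·) e
      simpa [σ.t_mul_mul] using this)
    have hv1' : σ.t * x ≠ 1 := fun e => hxt (by
      have := congrArg (σ.t * ·) e
      simpa [σ.t_mul_mul] using this)
    obtain ⟨h, hh, hht, he⟩ := hwtr hg'out hv1 hx hv1'
    refine ⟨h * g', mul_mem hh hg', ?_⟩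
    apply mul_left_cancel (a := σ.t)
    rw [← he, show σ.t * (h * g' * σ.t * (h * g')⁻¹) = σ.t * h * (g' * σ.t * g'⁻¹) * h⁻¹ by group, ← hht.eq]
    group
  -- a 2-element normalising `T` lies in `T`
  have htwo : ∀ {x : G} {k : ℕ}, x ^ 2 ^ k = 1 → x ∈ N → x ∈ σ.T := by
    intro x k hk hxN
    obtain ⟨i, -, hi⟩ := (Nat.dvd_prime_pow Nat.prime_two).1 (orderOf_dvd_of_pow_eq_one hk)
    have : Fact (Nat.Prime 2) := ⟨Nat.prime_two⟩
    have hz : IsPGroup 2 (Subgroup.zpowers (⟨x, hxN⟩ : N)) :=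
      IsPGroup.of_card (by rw [Nat.card_zpowers, ← Subgroup.orderOf_coe]; exact hi)
    let _ : MulAction (Subgroup.zpowers (⟨x, hxN⟩ : N)) σ.T :=
      MulAction.compHom σ.T (((σ.T.normalizerMonoidHom)).comp (Subgroup.subtype _))
    have hmod := hz.card_modEq_card_fixedPoints σ.T
    have hcT := σ.card_T
    obtain ⟨u, hu, hu1⟩ : ∃ u : σ.T, u ∈ MulAction.fixedPoints (Subgroup.zpowers (⟨x, hxN⟩ : N)) σ.T ∧ u ≠ 1 := by
      by_contra hcon
      push Not at hcon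
      have hle : Nat.card (MulAction.fixedPoints (Subgroup.zpowers (⟨x, hxN⟩ : N)) σ.T) = 1 := by
        rw [Nat.card_eq_one_iff_unique]
        refine ⟨⟨fun a b => Subtype.ext ((hcon _ a.2).trans (hcon _ b.2).symm)⟩, ⟨⟨1, fun y => ?_⟩⟩⟩
        show σ.T.normalizerMonoidHom y.1 1 = 1
        exact map_one _
      rw [hle, hcT] at hmod
      simp [Nat.ModEq] at hmod
    have hfix : x * (u : G) * x⁻¹ = u := congrArg Subtype.val (hu ⟨_, Subgroup.mem_zpowers _⟩ :)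
    obtain ⟨h, hh, hhu⟩ := horb u u.2 fun e => hu1 (Subtype.ext e)
    have h1 : h⁻¹ * x * h ∈ σ.T := by
      refine σ.mem_T_of_normalizer (k := k) ?_ (mul_mem (mul_mem (inv_mem hh) hxN) hh) ?_
      · rw [show h⁻¹ * x * h = h⁻¹ * x * h⁻¹⁻¹ by group, conj_pow, hk]; group
      · show h⁻¹ * x * h * σ.t = σ.t * (h⁻¹ * x * h)
        calc h⁻¹ * x * h * σ.t = h⁻¹ * (x * (u : G) * x⁻¹) * x * h := by rw [← hhu]; group
          _ = _ := by rw [hfix, ← hhu]; group
    have := (Subgroup.mem_normalizer_iff.1 hh _).1 h1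
    rwa [show h * (h⁻¹ * x * h) * h⁻¹ = x by group] at this
  -- `T` is a Sylow subgroup
  obtain ⟨S0, hS0⟩ := exists_sylow_eq σ.T_two fun P hP hle => by
    by_contra hne
    obtain ⟨x, hxP, hxT, hxN⟩ := exists_normalizer_mem hP hle hne
    obtain ⟨k, hk⟩ := hP ⟨x, hxP⟩
    exact hxT (htwo (congrArg Subtype.val hk :) hxN)
  -- tournament
  let _ : CommGroup σ.T :=
    { (inferInstance : Group σ.T) with
      mul_comm := fun a b => by
        have h : ∀ z : σ.T, z * z = 1 := fun z => Subtype.ext (σ.T_sq z.2)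
        have h3 := inv_eq_of_mul_eq_one_right (h (a * b))
        rw [mul_inv_rev, inv_eq_of_mul_eq_one_right (h a), inv_eq_of_mul_eq_one_right (h b)] at h3
        exact h3.symm }
  let r : N →* MulAut σ.T := σ.T.normalizerMonoidHom
  have hcard4 := card_le_four_of_tournament r.range.subtype (fun a => by
      obtain ⟨n, hn⟩ := a.2
      obtain ⟨i, o, ho, hord⟩ := Nat.exists_eq_two_pow_mul_odd (orderOf_pos (n : G)).ne'
      have hmem : (n : G) ^ o ∈ σ.T := htwo (k := i) (by rw [← pow_mul, mul_comm, ← hord, pow_orderOf_eq_one]) (pow_mem n.2 o)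
      have h1 : r (n ^ o) = 1 := MulEquiv.ext fun z => Subtype.ext (by
        show ((n ^ o : N) : G) * z * ((n ^ o : N) : G)⁻¹ = z
        rw [SubmonoidClass.coe_pow]
        have hc := congrArg Subtype.val (mul_comm (⟨_, hmem⟩ : σ.T) z)
        rw [Subgroup.coe_mul, Subgroup.coe_mul] at hc
        rw [hc, mul_inv_cancel_right])
      rw [← Subgroup.orderOf_coe, ← hn]
      exact ho.of_dvd_nat (orderOf_dvd_of_pow_eq_one (by rw [← map_pow, h1])))
    (fun x => Subtype.ext (σ.T_sq x.2)) (σ.V.subgroupOf σ.T) ⟨σ.t, σ.t_mem_T⟩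
    (fun h => σ.not_mem (Subgroup.mem_subgroupOf.1 h))
    (fun x => x.2.imp (fun h => Subgroup.mem_subgroupOf.2 h) (fun h => Subgroup.mem_subgroupOf.2 h))
    (fun x hx => by
      obtain ⟨h, hh, he⟩ := horb x x.2 fun e => hx (Subtype.ext e)
      exact ⟨⟨r ⟨h, hh⟩, _, rfl⟩, Subtype.ext he⟩)
    (fun a ha v hv => by
      obtain ⟨n, hn⟩ := a.2
      rw [Subgroup.coe_subtype, ← hn] at ha ⊢
      refine Subgroup.mem_subgroupOf.2 ?_
      have hfix : (n : G) * σ.t * (n : G)⁻¹ = σ.t := congrArg Subtype.val ha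
      exact σ.inv (n : G) (mul_inv_eq_iff_eq_mul.1 hfix)
        (fun z hz => (Subgroup.mem_normalizer_iff.1 n.2 z).1 hz) v (Subgroup.mem_subgroupOf.1 hv))
    (fun u hu hu1 v hv hv1 => by
      obtain ⟨h, hh, hht, he⟩ := hwtr (Subgroup.mem_subgroupOf.1 hu) (fun e => hu1 (Subtype.ext e))
        (Subgroup.mem_subgroupOf.1 hv) (fun e => hv1 (Subtype.ext e))
      exact ⟨⟨r ⟨h, hh⟩, _, rfl⟩, Subtype.ext (show h * σ.t * h⁻¹ = σ.t by rw [hht.eq, mul_inv_cancel_right]),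
        Subtype.ext he⟩)
  rw [Nat.card_congr (Subgroup.subgroupOfEquivOfLe σ.V_le_T).toEquiv] at hcard4
  have hV4 : Nat.card σ.V = 4 := le_antisymm hcard4 σ.four_le
  have : Fact (Nat.Prime 2) := ⟨Nat.prime_two⟩
  obtain ⟨h, hh⟩ := MulAction.exists_smul_eq G S0 S
  have hmap : (S : Subgroup G) = σ.T.map (MulAut.conj h).toMonoidHom := by
    rw [← hh, Sylow.coe_subgroup_smul, hS0]; rfl
  refine ⟨?_, fun x hx => ?_⟩
  · rw [hmap, Subgroup.card_map_of_injective (MulAut.conj h).injective, σ.card_T, hV4]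
  · rw [hmap] at hx
    obtain ⟨y, hy, rfl⟩ := hx
    rw [pow_two, ← map_mul, σ.T_sq hy, map_one]

end Setting

end CfsgLib.Core.TwoTimesPSL
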