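import Cfsg.Agent.Lib.Core.TwoTimesPSL.DihEightBase

/-!
# The dihedral case with `|S| ≥ 4|T|` is impossible
-/

set_option autoImplicit false
set_option linter.unusedSectionVars false

namespace CfsgLib.Core.TwoTimesPSL

universe u v

theorem card_le_mul_of_fibres {α : Type u} {β : Type v} [Finite α] (f : α → β) {n : ℕ}
    (h : ∀ a₀, Nat.card {a // f a = f a₀} ≤ n) : Nat.card α ≤ n * Nat.card (Set.range f) := by
  classical
  have := Fintype.ofFinite α
  have h1 := Finset.card_le_mul_card_image (f := f) (Finset.univ : Finset α) n fun b hb => by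
    obtain ⟨a₀, -, rfl⟩ := Finset.mem_image.1 hb
    refine le_of_eq_of_le ?_ (h a₀)
    rw [Nat.card_eq_fintype_card, Fintype.card_subtype]
  rw [Finset.card_univ, ← Nat.card_eq_fintype_card] at h1
  refine h1.trans_eq ?_
  rw [Nat.card_coe_set_eq, show Set.range f = ↑(Finset.univ.image f) by simp, Set.ncard_coe_finset]

variable {G : Type u} [Group G]

theorem card_eq_ker_mul_range {A : Type u} {B : Type v} [Group A] [Group B] (f : A →* B) :
    Nat.card A = Nat.card f.ker * Nat.card f.range := by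
  rw [← Subgroup.index_ker, Subgroup.card_mul_index]

theorem card_le_two_of_pair [Finite G] {A : Subgroup G} {z : G} (h : ∀ x ∈ A, x = 1 ∨ x = z) :
    Nat.card A ≤ 2 := by
  classical
  rw [← Nat.card_fin 2]
  refine Nat.card_le_card_of_injective (fun b : A => if b.1 = 1 then (0 : Fin 2) else 1) fun b b' e => ?_
  by_cases hb : b.1 = 1 <;> by_cases hb' : b'.1 = 1 <;> simp [hb, hb'] at e
  · exact Subtype.ext (hb.trans hb'.symm)
  · exact Subtype.ext (((h _ b.2).resolve_left hb).trans ((h _ b'.2).resolve_left hb').symm)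

/-- An abelian 2-group with at most two square roots of `1` and exponent `2 ^ j`. -/
theorem card_le_two_pow [Finite G] {z : G} : ∀ {j : ℕ} {A : Subgroup G},
    (∀ a ∈ A, ∀ b ∈ A, Commute a b) → (∀ x ∈ A, x ^ 2 ^ j = 1) →
    (∀ x ∈ A, x * x = 1 → x = 1 ∨ x = z) → Nat.card A ≤ 2 ^ j := by
  intro j
  induction j with
  | zero =>
    intro A _ hexp _
    have h : A = ⊥ := (Subgroup.eq_bot_iff_forall A).2 fun x hx => by simpa using hexp x hx
    rw [h, Subgroup.card_bot, pow_zero]
  | succ j ih =>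
    intro A hab hexp hinv
    let f : A →* G := MonoidHom.mk' (fun a => (a : G) * a) fun a b => by
      show (a : G) * b * ((a : G) * b) = (a : G) * a * ((b : G) * b)
      exact (hab b b.2 a a.2).mul_mul_mul_comm (a := (a : G)) (d := (b : G))
    have hle : f.range ≤ A := by
      rintro _ ⟨a, rfl⟩
      exact A.mul_mem a.2 a.2
    have h1 : Nat.card f.range ≤ 2 ^ j := ih (fun a ha b hb => hab a (hle ha) b (hle hb))
      (by
        rintro _ ⟨a, rfl⟩
        show ((a : G) * a) ^ 2 ^ j = 1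
        rw [← pow_two, ← pow_mul, ← pow_succ']
        exact hexp a a.2)
      fun x hx => hinv x (hle hx)
    have h2 : Nat.card f.ker ≤ 2 := by
      refine (Subgroup.card_map_of_injective (Subgroup.subtype_injective A)).symm.trans_le
        (card_le_two_of_pair (z := z) ?_)
      rintro _ ⟨a, ha, rfl⟩
      exact hinv a a.2 ha
    rw [card_eq_ker_mul_range f, pow_succ']
    exact Nat.mul_le_mul h2 h1

namespace DihSetting

variable (σ : DihSetting G) [Finite G] [IsSimpleGroup G] (hG : ¬ IsMulCommutative G) (S : Sylow 2 G)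
  (hTS : σ.T ≤ (S : Subgroup G)) {E W : Subgroup G} {d : G} (h : σ.EightData S E W d)

include σ hG hTS h

theorem eight_d_mem : d ∈ (S : Subgroup G) := hTS (σ.D_le h.d_mem)

theorem eight_d_t : Commute d σ.t := σ.cent d (σ.D_le h.d_mem)

theorem eight_conj_W {x : G} (hx : x ∈ W) : d * x * d ∈ W := by
  by_contra hc
  have hd := σ.eight_d_mem hG S hTS h
  have h1 := (h.half.2.2 _ ((S : Subgroup G).mul_mem ((S : Subgroup G).mul_mem hd (h.half.1 hx)) hd)).resolve_left hc
  rw [← mul_assoc, ← mul_assoc, h.d_sq, one_mul] at h1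
  refine h.half.2.1 ?_
  have := W.mul_mem (W.inv_mem hx) h1
  rwa [inv_mul_cancel_left] at this

theorem eight_fix {v : G} (hv : v ∈ E) (hdv : d * v * d = v) : v = 1 ∨ v = σ.z := by
  refine h.outer d (σ.eight_d_mem hG S hTS h) h.half.2.1 v hv ?_
  show d * v = v * d
  conv_rhs => rw [← hdv, mul_assoc, h.d_sq, mul_one]

/-- The abelian subgroup of index two is normal in `S`. -/
theorem eightA_normal {K : Subgroup G} (hK : HalfOf σ.t W K) (hab : ∀ a ∈ K, ∀ b ∈ K, Commute a b)
    (hct : ∀ x ∈ K, Commute x σ.t → x ∈ E) (h16 : 16 ≤ Nat.card K) : ∀ x ∈ K, d * x * d ∈ K := by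
  classical
  intro x hx
  by_contra hu
  set u := d * x * d with hudef
  have huW : u ∈ W := σ.eight_conj_W hG S hTS h (hK.1 hx)
  have hdi : d⁻¹ = d := inv_eq_of_mul_eq_one_right h.d_sq
  set K'' := K.map (MulAut.conj d).toMonoidHom with hK''
  have hK''mem : ∀ {y : G}, y ∈ K'' → ∃ k ∈ K, d * k * d = y := by
    rintro _ ⟨k, hk, rfl⟩
    exact ⟨k, hk, by show d * k * d = MulAut.conj d k; rw [MulAut.conj_apply, hdi]⟩
  have huK'' : u ∈ K'' := ⟨x, hx, by show MulAut.conj d x = u; rw [MulAut.conj_apply, hdi]⟩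
  have hK''W : K'' ≤ W := fun y hy => by
    obtain ⟨k, hk, rfl⟩ := hK''mem hy
    exact σ.eight_conj_W hG S hTS h (hK.1 hk)
  have hK''ab : ∀ a ∈ K'', ∀ b ∈ K'', Commute a b := by
    rintro _ ⟨a, ha, rfl⟩ _ ⟨b, hb, rfl⟩
    exact (hab a ha b hb).map _
  have htu : σ.t * u ∈ K := (hK.2.2 u huW).resolve_left hu
  have hI : ∀ y ∈ K ⊓ K'', y ∈ E := by
    intro y hy
    refine hct y hy.1 ?_
    have h1 := (hab y hy.1 _ htu).mul_right (hK''ab y hy.2 u huK'').inv_right
    rwa [mul_inv_cancel_right] at h1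
  have hidx : (K.subgroupOf W).index = 2 := by
    have h1 := Subgroup.card_mul_index (K.subgroupOf W)
    rw [Nat.card_congr (Subgroup.subgroupOfEquivOfLe hK.1).toEquiv, hK.card σ.invo h.t_W,
      mul_comm 2] at h1
    exact Nat.eq_of_mul_eq_mul_left Nat.card_pos h1
  have hout : ∀ y ∈ K'', y ∉ K → y * u⁻¹ ∈ K := fun y hy hyK => by
    have := (Subgroup.mul_mem_iff_of_index_two hidx (a := ⟨y, hK''W hy⟩) (b := (⟨u, huW⟩ : W)⁻¹))
    simp only [Subgroup.mem_subgroupOf, Subgroup.coe_mul, Subgroup.coe_inv, inv_mem_iff] at this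
    exact this.2 (iff_of_false hyK hu)
  have hle : Nat.card K'' ≤ Nat.card (Fin 2 × E) := by
    refine Nat.card_le_card_of_injective (fun y : K'' =>
      if hy : (y : G) ∈ K then ((0 : Fin 2), (⟨y, hI _ ⟨hy, y.2⟩⟩ : E))
      else (1, ⟨y * u⁻¹, hI _ ⟨hout _ y.2 hy, K''.mul_mem y.2 (K''.inv_mem huK'')⟩⟩)) fun y y' e => ?_
    by_cases hy : (y : G) ∈ K <;> by_cases hy' : (y' : G) ∈ K <;> simp [hy, hy'] at e
    · exact e
    · exact e
  rw [hK'', Subgroup.card_map_of_injective (MulAut.conj d).injective, Nat.card_prod, Nat.card_fin,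
    h.card_E] at hle
  omega

theorem eightA_false (hA : σ.EightA E W) : False := by
  classical
  obtain ⟨K, hK, hEK, hab, hct, hor⟩ := hA
  have h16 : 16 ≤ Nat.card K := by
    rcases hor with ⟨j, hj, -, -, e⟩ | ⟨-, e⟩
    · rw [e]; exact Nat.pow_le_pow_right (show 0 < 4 by norm_num) hj
    · rw [e]
  have hKd := σ.eightA_normal hG S hTS h hK hab hct h16
  have hdS := σ.eight_d_mem hG S hTS h
  have hdt := σ.eight_d_t hG S hTS h
  have hdi : d⁻¹ = d := inv_eq_of_mul_eq_one_right h.d_sq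
  have hddd : ∀ y : G, d * (d * y) = y := fun y => by rw [← mul_assoc, h.d_sq, one_mul]
  have hidx : (K.subgroupOf W).index = 2 := by
    have h1 := Subgroup.card_mul_index (K.subgroupOf W)
    rw [Nat.card_congr (Subgroup.subgroupOfEquivOfLe hK.1).toEquiv, hK.card σ.invo h.t_W,
      mul_comm 2] at h1
    exact Nat.eq_of_mul_eq_mul_left Nat.card_pos h1
  have hKt : ∀ y ∈ K, σ.t * y * σ.t ∈ K := fun y hy => by
    have := (Subgroup.normal_of_index_eq_two hidx).conj_mem ⟨y, hK.1 hy⟩ hy ⟨σ.t, h.t_W⟩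
    simpa [Subgroup.mem_subgroupOf, σ.t_inv] using this
  let W'' : Subgroup G :=
    { carrier := {y | y ∈ K ∨ d * y ∈ K}
      one_mem' := Or.inl K.one_mem
      mul_mem' := fun {a b} ha hb => by
        rcases ha with ha | ha <;> rcases hb with hb | hb
        · exact Or.inl (K.mul_mem ha hb)
        · refine Or.inr ?_
          rw [show d * (a * b) = (d * a * d) * (d * b) by simp only [mul_assoc, hddd]]
          exact K.mul_mem (hKd a ha) hb
        · exact Or.inr (by rw [← mul_assoc]; exact K.mul_mem ha hb)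
        · refine Or.inl ?_
          rw [show a * b = (d * (d * a) * d) * (d * b) by simp only [mul_assoc, hddd]]
          exact K.mul_mem (hKd _ ha) hb
      inv_mem' := fun {a} ha => by
        rcases ha with ha | ha
        · exact Or.inl (K.inv_mem ha)
        · refine Or.inr ?_
          have h1 := hKd _ (K.inv_mem ha)
          rwa [show d * (d * a)⁻¹ * d = d * a⁻¹ * (d⁻¹ * d) by group, inv_mul_cancel, mul_one] at h1 }
  have hW'' : HalfOf σ.t (S : Subgroup G) W'' := by
    refine ⟨?_, ?_, ?_⟩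
    · rintro y (hy | hy)
      · exact h.half.1 (hK.1 hy)
      · rw [← hddd y]
        exact (S : Subgroup G).mul_mem hdS (h.half.1 (hK.1 hy))
    · rintro (ht | ht)
      · exact hK.2.1 ht
      · refine h.half.2.1 ?_
        have := W.mul_mem (hK.1 ht) h.t_W
        rwa [mul_assoc, σ.invo, mul_one] at this
    · intro y hy
      rcases h.half.2.2 y hy with hyW | hyW
      · exact (hK.2.2 y hyW).imp Or.inl Or.inl
      · rcases hK.2.2 _ hyW with h1 | h1
        · exact Or.inl (Or.inr h1)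
        · exact Or.inr (Or.inr (by rwa [← mul_assoc, hdt.eq, mul_assoc]))
  obtain ⟨x, hx, hxe⟩ := σ.exists_ext hG S hTS hW''
  rcases hx with hxK | hxK
  · -- `x ∈ K`
    obtain ⟨g, -, hg⟩ := σ.ext_mem S.isPGroup' hxe
    have hle : K.map (MulAut.conj g⁻¹).toMonoidHom ≤ σ.T := by
      rintro _ ⟨y, hy, rfl⟩
      show MulAut.conj g⁻¹ y ∈ σ.T
      rw [MulAut.conj_apply, inv_inv]
      exact (hg y).1 ⟨h.half.1 (hK.1 hy), hab y hy x hxK⟩
    have heq := Subgroup.eq_of_le_of_card_ge hle (by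
      rw [Subgroup.card_map_of_injective (MulAut.conj g⁻¹).injective, σ.card_T, h.card_D]
      exact h16)
    obtain ⟨a, ha, ha1, haz⟩ := exists_ne_ne h.card_E σ.z
    obtain ⟨k, hk, hk'⟩ := heq.ge (σ.D_le h.d_mem)
    obtain ⟨l, hl, hl'⟩ := heq.ge (σ.D_le (h.E_le ha))
    have hc : Commute d a := by
      rw [← hk', ← hl']
      exact (hab k hk l hl).map _
    exact (h.outer d hdS h.half.2.1 a ha hc).elim ha1 haz
  · -- `x ∈ dK`
    set k := d * x with hk
    have hxk : x = d * k := (hddd x).symm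
    have hinvk : d * k * d = k⁻¹ := by
      have h2 := σ.isT_sq (σ.ext_isT hxe)
      rw [hxk] at h2
      rw [eq_inv_iff_mul_eq_one, mul_assoc]
      exact h2
    have hKdd : ∀ y : G, d * (d * y * d) * d = y := fun y => by simp only [mul_assoc, hddd, h.d_sq, mul_one]
    let F : Subgroup G :=
      { carrier := {y | y ∈ K ∧ d * y * d = y}
        one_mem' := ⟨K.one_mem, by rw [mul_one, h.d_sq]⟩
        mul_mem' := fun {a b} ha hb => ⟨K.mul_mem ha.1 hb.1, by
          conv_rhs => rw [← ha.2, ← hb.2]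
          simp only [mul_assoc, hddd]⟩
        inv_mem' := fun {a} ha => ⟨K.inv_mem ha.1, by
          conv_rhs => rw [← ha.2]
          rw [mul_inv_rev, mul_inv_rev, hdi, mul_assoc]⟩ }
    let N : Subgroup G :=
      { carrier := {y | y ∈ K ∧ d * y * d = y⁻¹}
        one_mem' := ⟨K.one_mem, by rw [mul_one, h.d_sq, inv_one]⟩
        mul_mem' := fun {a b} ha hb => ⟨K.mul_mem ha.1 hb.1, by
          rw [show d * (a * b) * d = d * a * d * (d * b * d) by simp only [mul_assoc, hddd], ha.2, hb.2,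
            (hab _ (K.inv_mem ha.1) _ (K.inv_mem hb.1)).eq, mul_inv_rev]⟩
        inv_mem' := fun {a} ha => ⟨K.inv_mem ha.1, by
          conv_lhs => rw [← ha.2]
          rw [hKdd, inv_inv]⟩ }
    have hkN : k ∈ N := ⟨hxK, hinvk⟩
    have hprod : Nat.card N * Nat.card F ≤ Nat.card K := by
      rcases hor with ⟨j, -, hexp, hom, e⟩ | ⟨hel, e⟩
      · rw [e, show (4 : ℕ) = 2 * 2 from rfl, mul_pow]
        refine Nat.mul_le_mul (card_le_two_pow (z := σ.z) (fun a ha b hb => hab a ha.1 b hb.1) (fun y hy => hexp y hy.1) ?_)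
          (card_le_two_pow (z := σ.z) (fun a ha b hb => hab a ha.1 b hb.1) (fun y hy => hexp y hy.1) ?_)
        · intro y hy h2
          exact σ.eight_fix hG S hTS h (hom y hy.1 h2) (hy.2.trans (inv_eq_of_mul_eq_one_right h2))
        · intro y hy h2
          exact σ.eight_fix hG S hTS h (hom y hy.1 h2) hy.2
      · have hNF : N = F := by
          ext y
          show (y ∈ K ∧ d * y * d = y⁻¹) ↔ (y ∈ K ∧ d * y * d = y)
          refine and_congr_right fun hy => ?_
          rw [inv_eq_of_mul_eq_one_right (hel y hy)]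
        have hF4 : Nat.card F ≤ 4 := by
          let γ : F →* G := MonoidHom.mk' (fun a => σ.t * (a : G) * σ.t * a) fun a b => by
            show σ.t * ((a : G) * b) * σ.t * ((a : G) * b) = σ.t * a * σ.t * a * (σ.t * b * σ.t * b)
            have hc := hab a a.2.1 (σ.t * b * σ.t) (hKt b b.2.1)
            calc σ.t * ((a : G) * b) * σ.t * ((a : G) * b)
                = σ.t * a * (σ.t * σ.t) * b * σ.t * (a * b) := by rw [σ.invo]; simp only [mul_assoc, one_mul]
              _ = σ.t * a * σ.t * ((σ.t * b * σ.t) * a) * b := by simp only [mul_assoc]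
              _ = σ.t * a * σ.t * (a * (σ.t * b * σ.t)) * b := by rw [hc.eq]
              _ = _ := by simp only [mul_assoc]
          have hker : Nat.card γ.ker ≤ 2 := by
            refine (Subgroup.card_map_of_injective (Subgroup.subtype_injective F)).symm.trans_le
              (card_le_two_of_pair (z := σ.z) ?_)
            rintro _ ⟨a, ha, rfl⟩
            refine σ.eight_fix hG S hTS h (hct a a.2.1 ?_) a.2.2
            have h1 : σ.t * (a : G) * σ.t = (a : G)⁻¹ := eq_inv_of_mul_eq_one_left ha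
            rw [inv_eq_of_mul_eq_one_right (hel a a.2.1)] at h1
            show (a : G) * σ.t = σ.t * a
            conv_lhs => rw [← h1]
            rw [mul_assoc (σ.t * a), σ.invo, mul_one]
          have hrange : Nat.card γ.range ≤ 2 := by
            refine card_le_two_of_pair (z := σ.z) ?_
            rintro _ ⟨a, rfl⟩
            show σ.t * (a : G) * σ.t * a = 1 ∨ _
            refine σ.eight_fix hG S hTS h (hct _ (K.mul_mem (hKt a a.2.1) a.2.1) ?_) ?_
            · have hc := hab _ (hKt a a.2.1) a a.2.1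
              show σ.t * (a : G) * σ.t * a * σ.t = σ.t * (σ.t * (a : G) * σ.t * a)
              calc σ.t * (a : G) * σ.t * a * σ.t
                  = σ.t * ((a : G) * (σ.t * a * σ.t)) := by simp only [mul_assoc]
                _ = σ.t * (σ.t * (a : G) * σ.t * a) := by rw [hc.symm.eq]
            · calc d * (σ.t * (a : G) * σ.t * a) * d
                  = (d * σ.t) * a * σ.t * a * d := by simp only [mul_assoc]
                _ = (σ.t * d) * a * σ.t * a * d := by rw [hdt.eq]
                _ = σ.t * (d * a * d) * (d * σ.t * d) * (d * a * d) := by simp only [mul_assoc, hddd]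
                _ = σ.t * a * σ.t * a := by
                  rw [a.2.2, hdt.eq, mul_assoc σ.t d d, h.d_sq, mul_one]
          rw [card_eq_ker_mul_range γ]
          exact Nat.mul_le_mul hker hrange
        rw [hNF, e]
        exact Nat.mul_le_mul hF4 hF4
    let β : K →* G := MonoidHom.mk' (fun m => d * (m : G) * d * (m : G)⁻¹) fun a b => by
      show d * ((a : G) * b) * d * ((a : G) * b)⁻¹ = d * a * d * (a : G)⁻¹ * (d * b * d * (b : G)⁻¹)
      have hc := hab (a : G)⁻¹ (K.inv_mem a.2) (d * b * d * (b : G)⁻¹) (K.mul_mem (hKd b b.2) (K.inv_mem b.2))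
      rw [mul_assoc (d * a * d) ((a : G)⁻¹), hc.eq]
      simp only [mul_assoc, mul_inv_rev, hddd]
    have hkerle : Nat.card β.ker ≤ Nat.card F := by
      refine Nat.card_le_card_of_injective (fun a => (⟨(a.1 : G), a.1.2, ?_⟩ : F)) fun a b e =>
        Subtype.ext (Subtype.ext (congrArg Subtype.val e :))
      exact mul_inv_eq_one.1 (show d * (a.1 : G) * d * (a.1 : G)⁻¹ = 1 from a.2)
    have hrange : β.range ≤ N := by
      rintro _ ⟨m, rfl⟩
      refine ⟨K.mul_mem (hKd m m.2) (K.inv_mem m.2), ?_⟩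
      show d * (d * (m : G) * d * (m : G)⁻¹) * d = (d * (m : G) * d * (m : G)⁻¹)⁻¹
      rw [mul_inv_rev, mul_inv_rev, mul_inv_rev, inv_inv, hdi]
      simp only [mul_assoc, hddd]
    have heq : β.range = N := Subgroup.eq_of_le_of_card_ge hrange (by
      have h1 := card_eq_ker_mul_range β
      have h2 : Nat.card β.ker * Nat.card N ≤ Nat.card β.ker * Nat.card β.range := by
        rw [← h1]
        exact (Nat.mul_le_mul_right _ hkerle).trans ((mul_comm _ _).trans_le hprod)
      exact Nat.le_of_mul_le_mul_left h2 Nat.card_pos)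
    obtain ⟨m, hm⟩ := heq.ge hkN
    have hxd : x = (m : G) * d * (m : G)⁻¹ := by
      rw [hxk, ← hm]
      show d * (d * (m : G) * d * (m : G)⁻¹) = _
      simp only [mul_assoc, hddd]
    have hT := σ.isT_conj (σ.ext_isT hxe) (m : G)⁻¹
    rw [hxd, show (m : G)⁻¹ * ((m : G) * d * (m : G)⁻¹) * (m : G)⁻¹⁻¹ = d by group] at hT
    exact σ.not_isT_D hG S hTS h.d_mem hT

theorem eightB_false (hB : σ.EightB E W) : False := by
  classical
  obtain ⟨M, j, hj, hEM, hMW, hMab, -, hMom, hMexp, hMcard, hWcard, hsq, hMn, hcl⟩ := hB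
  have hdS := σ.eight_d_mem hG S hTS h
  have hdt := σ.eight_d_t hG S hTS h
  have hddd : ∀ y : G, d * (d * y) = y := fun y => by rw [← mul_assoc, h.d_sq, one_mul]
  have hC8 : ∀ {y : G}, y ∈ W → Commute y σ.t → y ∈ E ∨ σ.t * y ∈ E := fun hy => h.cent_t _ hy
  -- the class of `t` in `W` is `tM`
  let Φ : W → G := fun w => σ.t * ((w : G) * σ.t * (w : G)⁻¹)
  have hΦ : Set.range Φ = (M : Set G) := by
    have hsub : Set.range Φ ⊆ (M : Set G) := Set.range_subset_iff.2 fun w => hcl w w.2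
    have hfib : ∀ w₀, Nat.card {w // Φ w = Φ w₀} ≤ 8 := by
      intro w₀
      let e : {w // Φ w = Φ w₀} → Fin 2 × E := fun w =>
        if hy : ((w₀ : G)⁻¹ * (w.1 : G)) ∈ E then (0, ⟨_, hy⟩) else (1, ⟨σ.t * ((w₀ : G)⁻¹ * (w.1 : G)),
          (hC8 (W.mul_mem (W.inv_mem w₀.2) w.1.2) (by
            have h1 : (w.1 : G) * σ.t * (w.1 : G)⁻¹ = (w₀ : G) * σ.t * (w₀ : G)⁻¹ := mul_left_cancel w.2
            show (w₀ : G)⁻¹ * (w.1 : G) * σ.t = σ.t * ((w₀ : G)⁻¹ * (w.1 : G))
            calc (w₀ : G)⁻¹ * (w.1 : G) * σ.t = (w₀ : G)⁻¹ * ((w.1 : G) * σ.t * (w.1 : G)⁻¹) * w.1 := by group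
              _ = _ := by rw [h1]; group)).resolve_left hy⟩)
      have he : Function.Injective e := by
        intro a b hab'
        simp only [e] at hab'
        by_cases ha : ((w₀ : G)⁻¹ * (a.1 : G)) ∈ E <;> by_cases hb : ((w₀ : G)⁻¹ * (b.1 : G)) ∈ E <;>
          simp [ha, hb] at hab'
        · exact Subtype.ext hab'
        · exact Subtype.ext hab'
      have := Nat.card_le_card_of_injective e he
      rwa [Nat.card_prod, Nat.card_fin, h.card_E] at this
    refine Set.eq_of_subset_of_ncard_le hsub ?_ (Set.toFinite _)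
    have h1 := card_le_mul_of_fibres Φ hfib
    rw [hWcard] at h1
    rw [← Nat.card_coe_set_eq, ← Nat.card_coe_set_eq]
    exact Nat.le_of_mul_le_mul_left h1 (by norm_num)
  have hMd : ∀ m ∈ M, d * m * d ∈ M := by
    intro m hm
    obtain ⟨w, rfl⟩ : m ∈ Set.range Φ := hΦ ▸ hm
    have hw' := hcl _ (σ.eight_conj_W hG S hTS h w.2)
    have e1 : d * σ.t * d = σ.t := by rw [hdt.eq, mul_assoc, h.d_sq, mul_one]
    show d * (σ.t * ((w : G) * σ.t * (w : G)⁻¹)) * d ∈ M
    have e2 : d * (σ.t * ((w : G) * σ.t * (w : G)⁻¹)) * d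
        = σ.t * (d * w * d * σ.t * (d * (w : G) * d)⁻¹) := by
      calc d * (σ.t * ((w : G) * σ.t * (w : G)⁻¹)) * d
          = (d * σ.t * d) * (d * w * d) * (d * σ.t * d) * (d * (w : G)⁻¹ * d) := by simp only [mul_assoc, hddd]
        _ = σ.t * (d * w * d) * σ.t * (d * (w : G)⁻¹ * d) := by rw [e1]
        _ = _ := by
          rw [mul_inv_rev, mul_inv_rev, inv_eq_of_mul_eq_one_right h.d_sq]
          simp only [mul_assoc]
    rwa [e2]
  -- the class of `x = t d`
  set x := σ.t * d with hx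
  have hxT : x ∈ σ.T := σ.T.mul_mem σ.t_mem (σ.D_le h.d_mem)
  have hxx : x * x = 1 := by rw [hx, σ.outer_sq (σ.D_le h.d_mem), h.d_sq]
  have hxxx : ∀ y : G, x * (x * y) = y := fun y => by rw [← mul_assoc, hxx, one_mul]
  have hxW : x ∉ W := fun h' => h.half.2.1 (by
    have := W.mul_mem h.t_W h'
    rwa [hx, σ.t_mul_mul] at this)
  have hxisT : σ.IsT x := (σ.isT_iff hG S hTS hxT hxx).2 (by rw [hx, σ.t_mul_mul]; exact h.d_mem)
  have hxconjW : ∀ y ∈ W, x * y * x ∈ W := fun y hy => by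
    rw [show x * y * x = σ.t * (d * y * d) * σ.t by
      rw [hx]; simp only [mul_assoc]; rw [← hdt.eq]]
    exact W.mul_mem (W.mul_mem h.t_W (σ.eight_conj_W hG S hTS h hy)) h.t_W
  have hxM : ∀ m ∈ M, x * m * x ∈ M := fun m hm => by
    have h1 := hMn σ.t h.t_W _ (hMd m hm)
    rw [σ.t_inv] at h1
    rwa [show x * m * x = σ.t * (d * m * d) * σ.t by rw [hx]; simp only [mul_assoc]; rw [← hdt.eq]]
  let C : Subgroup G := (S : Subgroup G) ⊓ Subgroup.centralizer ({x} : Set G)
  have hC : Nat.card C ≤ Nat.card σ.T := σ.card_le_of_isT hxisT (S.isPGroup'.to_le inf_le_left)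
    fun y hy => Subgroup.mem_centralizer_singleton_iff.1 hy.2
  let CW : Subgroup G := W ⊓ Subgroup.centralizer ({x} : Set G)
  have hCW : Nat.card CW ≤ 8 := by
    have hhalf : HalfOf x C CW := by
      refine ⟨inf_le_inf_right _ h.half.1, fun h' => hxW h'.1, fun y hy => ?_⟩
      have hxc : x ∈ Subgroup.centralizer ({x} : Set G) := Subgroup.mem_centralizer_singleton_iff.2 rfl
      rcases h.half.2.2 y hy.1 with h' | h'
      · exact Or.inl ⟨h', hy.2⟩
      · refine Or.inr ⟨?_, (Subgroup.centralizer ({x} : Set G)).mul_mem hxc hy.2⟩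
        rw [hx, mul_assoc]
        exact W.mul_mem h.t_W h'
    have h1 := hhalf.card hxx ⟨hTS hxT, Subgroup.mem_centralizer_singleton_iff.2 rfl⟩
    rw [h1, σ.card_T, h.card_D] at hC
    omega
  let Ψ : W → G := fun w => (w : G) * x * (w : G)⁻¹
  have hfibΨ : ∀ w₀, Nat.card {w // Ψ w = Ψ w₀} ≤ 8 := by
    intro w₀
    refine le_trans ?_ hCW
    refine Nat.card_le_card_of_injective (fun w => (⟨(w₀ : G)⁻¹ * (w.1 : G),
      W.mul_mem (W.inv_mem w₀.2) w.1.2, Subgroup.mem_centralizer_singleton_iff.2 ?_⟩ : CW)) fun a b e =>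
        Subtype.ext (Subtype.ext (mul_left_cancel (congrArg Subtype.val e :)))
    have h1 : (w.1 : G) * x * (w.1 : G)⁻¹ = (w₀ : G) * x * (w₀ : G)⁻¹ := w.2
    calc (w₀ : G)⁻¹ * (w.1 : G) * x = (w₀ : G)⁻¹ * ((w.1 : G) * x * (w.1 : G)⁻¹) * w.1 := by group
      _ = _ := by rw [h1]; group
  have horbit : Nat.card M ≤ Nat.card (Set.range Ψ) := by
    have h1 := card_le_mul_of_fibres Ψ hfibΨ
    rw [hWcard] at h1
    exact Nat.le_of_mul_le_mul_left h1 (by norm_num)
  -- the quotient `W/M`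
  set M' := M.subgroupOf W with hM'
  have hM'n : M'.Normal := ⟨fun n hn g => Subgroup.mem_subgroupOf.2 (by
    simpa using hMn g g.2 n (Subgroup.mem_subgroupOf.1 hn))⟩
  have hQsq : ∀ q : W ⧸ M', q * q = 1 := by
    intro q
    obtain ⟨w, rfl⟩ := QuotientGroup.mk'_surjective M' q
    rw [← map_mul, QuotientGroup.mk'_apply, QuotientGroup.eq_one_iff]
    exact Subgroup.mem_subgroupOf.2 (hsq w w.2)
  have hQc : ∀ p q : W ⧸ M', p * q = q * p := fun p q => by
    have h3 := inv_eq_of_mul_eq_one_right (hQsq (p * q))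
    rw [mul_inv_rev, inv_eq_of_mul_eq_one_right (hQsq p), inv_eq_of_mul_eq_one_right (hQsq q)] at h3
    exact h3.symm
  let c : W → W := fun w => ⟨(w : G) * (x * (w : G)⁻¹ * x), W.mul_mem w.2 (hxconjW _ (W.inv_mem w.2))⟩
  let f : W →* W ⧸ M' := MonoidHom.mk' (fun w => QuotientGroup.mk' M' (c w)) fun a b => by
    have e : c (a * b) = a * c b * a⁻¹ * c a := Subtype.ext (by
      show (a : G) * b * (x * ((a : G) * b)⁻¹ * x)
        = (a : G) * ((b : G) * (x * (b : G)⁻¹ * x)) * (a : G)⁻¹ * ((a : G) * (x * (a : G)⁻¹ * x))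
      simp only [mul_inv_rev, mul_assoc, inv_mul_cancel_left, hxxx])
    show QuotientGroup.mk' M' (c (a * b)) = QuotientGroup.mk' M' (c a) * QuotientGroup.mk' M' (c b)
    rw [e, map_mul, map_mul, map_mul, map_inv, hQc _ (QuotientGroup.mk' M' (c b)), mul_inv_cancel_right,
      hQc]
  have hMker : M' ≤ f.ker := by
    intro m hm
    rw [MonoidHom.mem_ker]
    show QuotientGroup.mk' M' (c m) = 1
    rw [QuotientGroup.mk'_apply, QuotientGroup.eq_one_iff]
    exact Subgroup.mem_subgroupOf.2 (M.mul_mem (Subgroup.mem_subgroupOf.1 hm)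
      (hxM _ (M.inv_mem (Subgroup.mem_subgroupOf.1 hm))))
  let L : f.ker →* W ⧸ M' := (QuotientGroup.mk' M').comp f.ker.subtype
  have hrangeL : f.range ≤ L.range := by
    rintro _ ⟨w, rfl⟩
    refine ⟨⟨c w, ?_⟩, rfl⟩
    rw [MonoidHom.mem_ker]
    show QuotientGroup.mk' M' (c (c w)) = 1
    rw [QuotientGroup.mk'_apply, QuotientGroup.eq_one_iff]
    refine Subgroup.mem_subgroupOf.2 ?_
    have h2 := hsq _ (c w).2
    have e : ((c (c w) : W) : G) = (c w : G) * (c w : G) := by
      show (w : G) * (x * (w : G)⁻¹ * x) * (x * ((w : G) * (x * (w : G)⁻¹ * x))⁻¹ * x)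
        = (w : G) * (x * (w : G)⁻¹ * x) * ((w : G) * (x * (w : G)⁻¹ * x))
      simp only [mul_inv_rev, inv_inv, inv_eq_of_mul_eq_one_right hxx, mul_assoc, hxxx]
    rwa [e]
  have hr2 : Nat.card f.range ≤ 2 := by
    have h1 := card_eq_ker_mul_range f
    have h2 := card_eq_ker_mul_range L
    have h3 : Nat.card M ≤ Nat.card L.ker := by
      refine Nat.card_le_card_of_injective (fun m : M => (⟨⟨⟨m, hMW m.2⟩, hMker (Subgroup.mem_subgroupOf.2 m.2)⟩, ?_⟩ : L.ker))
        fun a b e => Subtype.ext (congrArg (fun q : L.ker => ((q.1.1 : W) : G)) e :)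
      rw [MonoidHom.mem_ker]
      show QuotientGroup.mk' M' ⟨m, hMW m.2⟩ = 1
      rw [QuotientGroup.mk'_apply, QuotientGroup.eq_one_iff]
      exact Subgroup.mem_subgroupOf.2 m.2
    have h4 := Nat.card_le_card_of_injective _ (Subgroup.inclusion_injective hrangeL)
    have h5 : Nat.card M * (Nat.card f.range * Nat.card f.range) ≤ Nat.card M * 8 := by
      rw [← mul_assoc, mul_comm _ 8, ← hWcard, h1, h2]
      exact Nat.mul_le_mul_right _ (Nat.mul_le_mul h3 h4)
    have h6 := Nat.le_of_mul_le_mul_left h5 Nat.card_pos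
    by_contra h7
    have h8 := Nat.mul_le_mul (show 3 ≤ Nat.card f.range by omega) (show 3 ≤ Nat.card f.range by omega)
    omega
  -- at most two cosets, at most `2 ^ j` involutions in each
  have hOW : ∀ y : Set.range Ψ, (y : G) * x ∈ W := by
    rintro ⟨_, w, rfl⟩
    show (w : G) * x * (w : G)⁻¹ * x ∈ W
    rw [mul_assoc (w : G), mul_assoc (w : G)]
    exact W.mul_mem w.2 (hxconjW _ (W.inv_mem w.2))
  let q : Set.range Ψ → W ⧸ M' := fun y => QuotientGroup.mk' M' ⟨(y : G) * x, hOW y⟩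
  have hy2 : ∀ y : Set.range Ψ, (y : G) * y = 1 := by
    rintro ⟨_, w, rfl⟩
    show (w : G) * x * (w : G)⁻¹ * ((w : G) * x * (w : G)⁻¹) = 1
    rw [show (w : G) * x * (w : G)⁻¹ * ((w : G) * x * (w : G)⁻¹) = (w : G) * (x * x) * (w : G)⁻¹ by group, hxx,
      mul_one, mul_inv_cancel]
  have hyW : ∀ y : Set.range Ψ, (y : G) ∉ W := fun y hy => hxW (by
    have := W.mul_mem (W.inv_mem hy) (hOW y)
    rwa [inv_mul_cancel_left] at this)
  have hyS : ∀ y : Set.range Ψ, (y : G) ∈ (S : Subgroup G) := fun y => by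
    have := (S : Subgroup G).mul_mem (h.half.1 (hOW y)) ((S : Subgroup G).inv_mem (hTS hxT))
    rwa [mul_inv_cancel_right] at this
  have hfibq : ∀ y₀, Nat.card {y // q y = q y₀} ≤ 2 ^ j := by
    intro y₀
    set z₀ := (y₀ : G) with hz0
    have hz00 : z₀ * z₀ = 1 := hy2 y₀
    have h00 : ∀ y : G, z₀ * (z₀ * y) = y := fun y => by rw [← mul_assoc, hz00, one_mul]
    let N : Subgroup G :=
      { carrier := {m | m ∈ M ∧ z₀ * m * z₀ = m⁻¹}
        one_mem' := ⟨M.one_mem, by rw [mul_one, hz00, inv_one]⟩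
        mul_mem' := fun {a b} ha hb => ⟨M.mul_mem ha.1 hb.1, by
          rw [show z₀ * (a * b) * z₀ = z₀ * a * z₀ * (z₀ * b * z₀) by simp only [mul_assoc, h00], ha.2, hb.2,
            (hMab _ (M.inv_mem ha.1) _ (M.inv_mem hb.1)).eq, mul_inv_rev]⟩
        inv_mem' := fun {a} ha => ⟨M.inv_mem ha.1, by
          conv_lhs => rw [← ha.2]
          simp only [mul_assoc, h00, hz00, mul_one, inv_inv]⟩ }
    refine le_trans ?_ (card_le_two_pow (A := N) (z := σ.z) (fun a ha b hb => hMab a ha.1 b hb.1)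
      (fun m hm => hMexp m hm.1) fun m hm h2 => ?_)
    · refine Nat.card_le_card_of_injective (fun y => (⟨z₀ * (y.1 : G), ?_, ?_⟩ : N)) fun a b e =>
        Subtype.ext (Subtype.ext (mul_left_cancel (congrArg Subtype.val e :)))
      · have h1 := QuotientGroup.eq.1 (show ((⟨z₀ * x, hOW y₀⟩ : W) : W ⧸ M') = ((⟨(y.1 : G) * x, hOW y.1⟩ : W) : W ⧸ M') from y.2.symm)
        have h2 := hxM _ (Subgroup.mem_subgroupOf.1 h1)
        simp only [Subgroup.coe_mul, Subgroup.coe_inv, mul_inv_rev, inv_eq_of_mul_eq_one_right hxx,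
          inv_eq_of_mul_eq_one_right (hz00), mul_assoc, hxxx, hxx, mul_one] at h2
        exact h2
      · rw [mul_inv_rev, inv_eq_of_mul_eq_one_right (hy2 y.1), inv_eq_of_mul_eq_one_right (hz00), h00]
    · refine h.outer z₀ (hyS y₀) (hyW y₀) m (hMom m hm.1 h2) ?_
      show z₀ * m = m * z₀
      have h3 := hm.2
      rw [inv_eq_of_mul_eq_one_right h2] at h3
      conv_rhs => rw [← h3, mul_assoc, hz00, mul_one]
  have hqr : Set.range q ⊆ (f.range : Set (W ⧸ M')) := by
    rintro _ ⟨⟨_, w, rfl⟩, rfl⟩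
    refine ⟨w, congrArg (QuotientGroup.mk' M') (Subtype.ext ?_)⟩
    show (w : G) * (x * (w : G)⁻¹ * x) = (w : G) * x * (w : G)⁻¹ * x
    simp only [mul_assoc]
  have h1 := card_le_mul_of_fibres q hfibq
  have h2 : Nat.card (Set.range q) ≤ 2 := (Nat.card_mono (Set.toFinite _) hqr).trans hr2
  have h3 : Nat.card M ≤ 2 ^ j * 2 := horbit.trans (h1.trans (Nat.mul_le_mul_left _ h2))
  rw [hMcard, show (4 : ℕ) = 2 * 2 from rfl, mul_pow] at h3
  have := Nat.le_of_mul_le_mul_left h3 (by positivity)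
  have : 4 ≤ 2 ^ j := by simpa using Nat.pow_le_pow_right two_pos hj
  omega

end DihSetting

namespace DihSetting

variable (σ : DihSetting G) [Finite G] [IsSimpleGroup G]

include σ

/-- No simple group has the dihedral configuration with `|S| ≥ 4|T|`. -/
theorem eight_false (hG : ¬ IsMulCommutative G) (S : Sylow 2 G) (hTS : σ.T ≤ (S : Subgroup G))
    (hbig : Nat.card (S : Subgroup G) ≠ 2 * Nat.card σ.T) : False := by
  obtain ⟨S', E, W, d, hTS', h, hA | hB⟩ := σ.exists_eightData hG S hTS hbig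
  · exact σ.eightA_false hG S' hTS' h hA
  · exact σ.eightB_false hG S' hTS' h hB

end DihSetting

end CfsgLib.Core.TwoTimesPSL
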