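import Cfsg.Agent.Lib.Core.TwoTimesPSL.DihBasic

/-!
# The dihedral case with `|S| = 2|T|`

No simple group has this configuration.
-/

set_option autoImplicit false
set_option linter.unusedSectionVars false

namespace CfsgLib.Core.TwoTimesPSL

universe u

variable {G : Type u} [Group G]

namespace DihSetting

variable (σ : DihSetting G) [Finite G] [IsSimpleGroup G] (hG : ¬ IsMulCommutative G) (S : Sylow 2 G)
  (hTS : σ.T ≤ (S : Subgroup G)) (hS2 : Nat.card (S : Subgroup G) = 2 * Nat.card σ.T)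

include σ hG hTS hS2

theorem small_T_normal {g : G} (hg : g ∈ (S : Subgroup G)) : ∀ x ∈ σ.T, g * x * g⁻¹ ∈ σ.T := by
  intro x hx
  have hidx : (σ.T.subgroupOf (S : Subgroup G)).index = 2 := by
    have h1 := Subgroup.card_mul_index (σ.T.subgroupOf (S : Subgroup G))
    rw [Nat.card_congr (Subgroup.subgroupOfEquivOfLe hTS).toEquiv, hS2, mul_comm 2] at h1
    exact Nat.eq_of_mul_eq_mul_left Nat.card_pos h1
  have := Subgroup.normal_of_index_eq_two hidx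
  exact this.conj_mem ⟨x, hTS hx⟩ hx ⟨g, hg⟩

theorem small_coset {v x : G} (hv : v ∈ (S : Subgroup G)) (hvT : v ∉ σ.T) (hx : x ∈ (S : Subgroup G))
    (hxT : x ∉ σ.T) : v * x ∈ σ.T := by
  have hidx : (σ.T.subgroupOf (S : Subgroup G)).index = 2 := by
    have h1 := Subgroup.card_mul_index (σ.T.subgroupOf (S : Subgroup G))
    rw [Nat.card_congr (Subgroup.subgroupOfEquivOfLe hTS).toEquiv, hS2, mul_comm 2] at h1
    exact Nat.eq_of_mul_eq_mul_left Nat.card_pos h1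
  have := Subgroup.mul_mem_iff_of_index_two hidx (a := ⟨v, hv⟩) (b := ⟨x, hx⟩)
  simp only [Subgroup.mem_subgroupOf] at this
  exact this.2 (iff_of_false hvT hxT)

/-- An extremal conjugate outside `T` centralises `D` up to `z`. -/
theorem small_twist {w : G} (hw : σ.Ext S w) (hwT : w ∉ σ.T) (hwS : w ∈ (S : Subgroup G)) {d : G}
    (hd : d ∈ σ.D) : w * d * w⁻¹ = d ∨ w * d * w⁻¹ = d * σ.z := by
  have hm : w * σ.t * w⁻¹ = σ.t * σ.z := σ.moved_mem hG S hTS hwS hwT (by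
    rw [Subgroup.mem_normalizer_iff]
    refine fun x => ⟨σ.small_T_normal hG S hTS hS2 hwS x, fun h => ?_⟩
    have := σ.small_T_normal hG S hTS hS2 (inv_mem hwS) _ h
    rwa [show w⁻¹ * (w * x * w⁻¹) * w⁻¹⁻¹ = x by group] at this)
  let C : Subgroup G := (S : Subgroup G) ⊓ Subgroup.centralizer ({w} : Set G)
  have hC : Nat.card C = Nat.card σ.T := by
    rw [← σ.ext_card S.isPGroup' hw]
    exact Nat.card_congr
      { toFun := fun y => ⟨y.1, y.2.1, Subgroup.mem_centralizer_singleton_iff.1 y.2.2⟩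
        invFun := fun y => ⟨y.1, y.2.1, Subgroup.mem_centralizer_singleton_iff.2 y.2.2⟩
        left_inv := fun _ => rfl
        right_inv := fun _ => rfl }
  have hwC : w ∈ C := ⟨hwS, Subgroup.mem_centralizer_singleton_iff.2 rfl⟩
  have hCT : HalfOf w C (σ.T ⊓ C) :=
    ⟨inf_le_right, fun h => hwT h.1, fun x hx => by
      by_cases h : x ∈ σ.T
      · exact Or.inl ⟨h, hx⟩
      · exact Or.inr ⟨σ.small_coset hG S hTS hS2 hwS hwT hx.1 h, C.mul_mem hwC hx⟩⟩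
  have h1 := hCT.card (σ.isT_sq (σ.ext_isT hw)) hwC
  have htC : σ.t ∉ C := fun h => σ.tz_ne_t (by
    rw [← hm, ← (show Commute σ.t w from Subgroup.mem_centralizer_singleton_iff.1 h.2).eq, mul_inv_cancel_right])
  have hidx : ((σ.T ⊓ C).subgroupOf σ.T).index = 2 := by
    have h2 := Subgroup.card_mul_index ((σ.T ⊓ C).subgroupOf σ.T)
    rw [Nat.card_congr (Subgroup.subgroupOfEquivOfLe (inf_le_left : σ.T ⊓ C ≤ σ.T)).toEquiv, ← hC, h1,
      mul_comm 2] at h2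
    exact Nat.eq_of_mul_eq_mul_left Nat.card_pos h2
  by_cases hdC : d ∈ C
  · left
    rw [← (show Commute d w from Subgroup.mem_centralizer_singleton_iff.1 hdC.2).eq, mul_inv_cancel_right]
  · right
    have := Subgroup.mul_mem_iff_of_index_two hidx (a := ⟨σ.t, σ.t_mem⟩) (b := ⟨d, σ.D_le hd⟩)
    simp only [Subgroup.mem_subgroupOf] at this
    have htd : Commute (σ.t * d) w :=
      Subgroup.mem_centralizer_singleton_iff.1 (this.2 (iff_of_false (fun h => htC h.2) fun h => hdC h.2)).2.2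
    have e : σ.t * σ.z * (w * d * w⁻¹) = σ.t * d := by
      rw [← hm, show w * σ.t * w⁻¹ * (w * d * w⁻¹) = w * (σ.t * d) * w⁻¹ by group, ← htd.eq, mul_inv_cancel_right]
    apply mul_left_cancel (a := σ.t * σ.z)
    rw [e, (σ.z_comm d hd).eq, mul_assoc σ.t σ.z (σ.z * d), ← mul_assoc σ.z σ.z d, σ.z_sq, one_mul]

omit hG hTS hS2 in
theorem small_sq {w1 w2 d0 : G} (hw1 : σ.Ext S w1) (hw2 : σ.Ext S w2) (hw12 : w2 = w1 * (σ.t * d0))
    (hd0c : Commute w1 d0) (hd0 : d0 ∈ σ.D) (hwt : w1 * σ.t * w1⁻¹ = σ.t * σ.z) : d0 * d0 = σ.z := by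
  have h := σ.isT_sq (σ.ext_isT hw2)
  have hi : w1⁻¹ = w1 := inv_eq_of_mul_eq_one_right (σ.isT_sq (σ.ext_isT hw1))
  rw [hw12] at h
  have e : w1 * (σ.t * d0) * (w1 * (σ.t * d0)) = σ.z * (d0 * d0) :=
    calc w1 * (σ.t * d0) * (w1 * (σ.t * d0)) = w1 * σ.t * (d0 * w1) * σ.t * d0 := by simp only [mul_assoc]
      _ = w1 * σ.t * w1 * (d0 * σ.t) * d0 := by rw [← hd0c.eq]; simp only [mul_assoc]
      _ = w1 * σ.t * w1⁻¹ * (σ.t * d0) * d0 := by rw [(σ.cent _ (σ.D_le hd0)).eq, hi]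
      _ = σ.t * σ.z * σ.t * (d0 * d0) := by rw [hwt]; simp only [mul_assoc]
      _ = σ.z * (d0 * d0) := by rw [mul_assoc σ.t σ.z σ.t, (σ.cent _ σ.z_mem_T).eq, σ.t_mul_mul]
  rw [e] at h
  rw [← σ.z_inv]
  exact eq_inv_of_mul_eq_one_right h

/-- The contradiction from two extremal conjugates outside `T` in different cosets of `D`. -/
theorem small_key {w1 w2 d0 e : G} (hw1 : σ.Ext S w1) (hw2 : σ.Ext S w2) (hS1 : w1 ∈ (S : Subgroup G))
    (hw12 : w2 = w1 * (σ.t * d0)) (hd0 : d0 ∈ σ.D)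
    (hd0c : Commute w1 d0) (he : e ∈ σ.D) (he2 : e * e = 1) (hde : d0 * e * d0⁻¹ = e * σ.z)
    (hwe : Commute w1 e) (hwt : w1 * σ.t * w1⁻¹ = σ.t * σ.z) : False := by
  have hne : e ≠ 1 := by
    rintro rfl
    rw [mul_one, mul_inv_cancel, one_mul] at hde
    exact σ.z_ne hde.symm
  have hz1 : Commute w1 σ.z := (σ.z_central hG S hTS _ hS1).symm
  have h1 : σ.IsT (w1 * e) := by
    by_contra h
    exact σ.not_isT_D hG S hTS he ((σ.ext_mul hG S hTS hw1 (hTS (σ.D_le he)) hwe.symm he2).2 h)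
  have h00 : d0 * e = e * σ.z * d0 := by rw [← hde]; group
  set e' := d0 * e with he'
  have he'2 : e' * e' = 1 := by
    calc e' * e' = d0 * e * (d0 * e) := rfl
      _ = e * σ.z * d0 * (d0 * e) := by rw [← h00]
      _ = e * (σ.z * (d0 * d0)) * e := by simp only [mul_assoc]
      _ = 1 := by rw [σ.small_sq S hw1 hw2 hw12 hd0c hd0 hwt, σ.z_sq, mul_one, he2]
  have hwe' : Commute w1 e' := hd0c.mul_right hwe
  have he'D : e' ∈ σ.D := σ.D.mul_mem hd0 he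
  have h2 : σ.IsT (w1 * e') := by
    by_contra h
    exact σ.not_isT_D hG S hTS he'D ((σ.ext_mul hG S hTS hw1 (hTS (σ.D_le he'D)) hwe'.symm he'2).2 h)
  -- `w2` commutes with `t e`
  have hwet : w1 * (σ.t * d0 * (σ.t * e) * (σ.t * d0)⁻¹) * w1⁻¹ = σ.t * e := by
    have e1 : σ.t * d0 * (σ.t * e) * (σ.t * d0)⁻¹ = σ.t * (e * σ.z) := by
      calc σ.t * d0 * (σ.t * e) * (σ.t * d0)⁻¹ = σ.t * (d0 * σ.t) * e * d0⁻¹ * σ.t⁻¹ := by group
        _ = σ.t * σ.t * (d0 * e * d0⁻¹) * σ.t⁻¹ := by rw [(σ.cent _ (σ.D_le hd0)).eq]; group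
        _ = e * σ.z * σ.t := by rw [σ.invo, one_mul, hde, σ.t_inv]
        _ = σ.t * (e * σ.z) := (σ.cent _ (σ.T.mul_mem (σ.D_le he) σ.z_mem_T)).eq
    rw [e1, show w1 * (σ.t * (e * σ.z)) * w1⁻¹ = w1 * σ.t * w1⁻¹ * (w1 * e * w1⁻¹) * (w1 * σ.z * w1⁻¹) by group,
      hwt, hwe.eq, hz1.eq, mul_inv_cancel_right, mul_inv_cancel_right,
      mul_assoc σ.t σ.z e, ← (σ.z_comm e he).eq, ← mul_assoc σ.t e, mul_assoc _ σ.z σ.z, σ.z_sq, mul_one]
  have hc2 : Commute (σ.t * e) w2 := by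
    show σ.t * e * w2 = w2 * (σ.t * e)
    calc σ.t * e * w2 = w1 * (σ.t * d0 * (σ.t * e) * (σ.t * d0)⁻¹) * w1⁻¹ * w2 := by rw [hwet]
      _ = w2 * (σ.t * e) := by rw [hw12]; group
  have hteT : σ.IsT (σ.t * e) := (σ.isT_iff hG S hTS (σ.T.mul_mem σ.t_mem (σ.D_le he))
    (by rw [σ.outer_sq (σ.D_le he), he2])).2 (by rw [σ.t_mul_mul]; exact he)
  refine (σ.ext_mul hG S hTS hw2 (hTS (σ.T.mul_mem σ.t_mem (σ.D_le he))) hc2
    (by rw [σ.outer_sq (σ.D_le he), he2])).1 hteT ?_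
  have e2 : w2 * (σ.t * e) = w1 * e' := by
    rw [hw12, he', mul_assoc w1]
    congr 1
    rw [mul_assoc σ.t d0, ← mul_assoc d0 σ.t e, (σ.cent _ (σ.D_le hd0)).eq, mul_assoc σ.t d0 e, σ.t_mul_mul]
  rw [e2]; exact h2

/-- `|S| ≠ 2|T|`. -/
theorem small_false : False := by
  classical
  have hcard : Nat.card (S : Subgroup G) = 4 * Nat.card σ.D := by rw [hS2, σ.card_T]; ring
  have hDn : ∀ g ∈ (S : Subgroup G), ∀ d ∈ σ.D, g * d * g⁻¹ ∈ σ.D := fun g hg d hd =>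
    σ.conj_D hG S hTS (σ.small_T_normal hG S hTS hS2 hg) hd
  by_cases hu : ∃ u ∈ (S : Subgroup G), u ∉ σ.T ∧ u * u = 1
  swap
  · -- transfer into `S / D`
    push Not at hu
    have : Fact (Nat.Prime 2) := ⟨Nat.prime_two⟩
    have : (σ.D.subgroupOf (S : Subgroup G)).Normal :=
      ⟨fun d hd g => Subgroup.mem_subgroupOf.2 (hDn g g.2 d (Subgroup.mem_subgroupOf.1 hd))⟩
    have hq : Nat.card ((S : Subgroup G) ⧸ σ.D.subgroupOf (S : Subgroup G)) = 2 ^ 2 := by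
      have h := Subgroup.card_eq_card_quotient_mul_card_subgroup (σ.D.subgroupOf (S : Subgroup G))
      rw [Nat.card_congr (Subgroup.subgroupOfEquivOfLe (σ.D_le.trans hTS)).toEquiv, hcard] at h
      exact (Nat.eq_of_mul_eq_mul_right Nat.card_pos h).symm
    have := IsPGroup.isMulCommutative_of_card_eq_prime_sq hq
    let _ : CommGroup ((S : Subgroup G) ⧸ σ.D.subgroupOf (S : Subgroup G)) :=
      { (inferInstance : Group ((S : Subgroup G) ⧸ σ.D.subgroupOf (S : Subgroup G))) with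
        mul_comm := this.is_comm.comm }
    let φ : (S : Subgroup G) →* (S : Subgroup G) ⧸ σ.D.subgroupOf (S : Subgroup G) := QuotientGroup.mk' _
    have h1 := transfer_eq_of_extremal S φ σ.invo σ.two σ.t_mem (fun y hy => σ.cent y hy)
      (φ ⟨σ.t, hTS σ.t_mem⟩) fun g _ h => by
        have hx : σ.IsT (g⁻¹ * σ.t * g) := ⟨g⁻¹, by rw [inv_inv]⟩
        have hxT : g⁻¹ * σ.t * g ∈ σ.T := by
          by_contra hn
          exact hu _ h hn (σ.isT_sq hx)
        refine (QuotientGroup.eq).2 (Subgroup.mem_subgroupOf.2 ?_)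
        show (g⁻¹ * σ.t * g)⁻¹ * σ.t ∈ σ.D
        rw [inv_eq_of_mul_eq_one_right (σ.isT_sq hx), (σ.cent _ hxT).eq]
        exact (σ.isT_iff hG S hTS hxT (σ.isT_sq hx)).1 hx
    rw [hom_eq_one hG] at h1
    exact σ.t_not_mem (Subgroup.mem_subgroupOf.1 ((QuotientGroup.eq_one_iff _).1 h1.symm) : σ.t ∈ σ.D)
  obtain ⟨u, hu, huT, hu2⟩ := hu
  have huinv : u⁻¹ = u := inv_eq_of_mul_eq_one_right hu2
  -- index two subgroups through `v`
  have hex : ∀ v ∈ (S : Subgroup G), v ∉ σ.T → v * v ∈ σ.D →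
      ∃ w, σ.Ext S w ∧ w ∈ (S : Subgroup G) ∧ w ∉ σ.T ∧ v * w ∈ σ.D := by
    intro v hv hvT hvv
    have hvD : ∀ d ∈ σ.D, v * d * v⁻¹ ∈ σ.D := hDn v hv
    let W : Subgroup G :=
      { carrier := {x | x ∈ σ.D ∨ (x ∈ (S : Subgroup G) ∧ v * x ∈ σ.D)}
        one_mem' := Or.inl σ.D.one_mem
        mul_mem' := fun {a b} ha hb => by
          rcases ha with ha | ha <;> rcases hb with hb | hb
          · exact Or.inl (σ.D.mul_mem ha hb)
          · refine Or.inr ⟨mul_mem (hTS (σ.D_le ha)) hb.1, ?_⟩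
            rw [show v * (a * b) = v * a * v⁻¹ * (v * b) by group]
            exact σ.D.mul_mem (hvD a ha) hb.2
          · exact Or.inr ⟨mul_mem ha.1 (hTS (σ.D_le hb)), by rw [← mul_assoc]; exact σ.D.mul_mem ha.2 hb⟩
          · refine Or.inl ?_
            have h1 : v * (v * a) * v⁻¹ * (v * b) = v * v * (a * b) := by group
            have h2 := σ.D.mul_mem (σ.D.inv_mem hvv) (σ.D.mul_mem (hvD _ ha.2) hb.2)
            rwa [h1, inv_mul_cancel_left] at h2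
        inv_mem' := fun {a} ha => by
          rcases ha with ha | ha
          · exact Or.inl (σ.D.inv_mem ha)
          · refine Or.inr ⟨inv_mem ha.1, ?_⟩
            rw [show v * a⁻¹ = v * ((v * a)⁻¹ * (v * v)) * v⁻¹ by group]
            exact hvD _ (σ.D.mul_mem (σ.D.inv_mem ha.2) hvv) }
    have hmem : ∀ {x : G}, x ∈ W ↔ x ∈ σ.D ∨ (x ∈ (S : Subgroup G) ∧ v * x ∈ σ.D) := Iff.rfl
    have hhalf : HalfOf σ.t (S : Subgroup G) W := by
      refine ⟨fun x hx => (hmem.1 hx).elim (fun h => hTS (σ.D_le h)) fun h => h.1, fun h => ?_, fun x hx => ?_⟩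
      · rcases hmem.1 h with h | h
        · exact σ.t_not_mem h
        · refine hvT ?_
          have := σ.T.mul_mem (σ.D_le h.2) σ.t_mem
          rwa [mul_assoc, σ.invo, mul_one] at this
      · by_cases hxT : x ∈ σ.T
        · exact (σ.dec x hxT).imp (fun h => hmem.2 (Or.inl h)) fun h => hmem.2 (Or.inl h)
        · have hvx := σ.small_coset hG S hTS hS2 hv hvT hx hxT
          rcases σ.dec _ hvx with h | h
          · exact Or.inl (hmem.2 (Or.inr ⟨hx, h⟩))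
          · refine Or.inr (hmem.2 (Or.inr ⟨mul_mem (hTS σ.t_mem) hx, ?_⟩))
            have hm := σ.moved_mem hG S hTS hv hvT (by
              rw [Subgroup.mem_normalizer_iff]
              refine fun y => ⟨σ.small_T_normal hG S hTS hS2 hv y, fun h => ?_⟩
              have := σ.small_T_normal hG S hTS hS2 (inv_mem hv) _ h
              rwa [show v⁻¹ * (v * y * v⁻¹) * v⁻¹⁻¹ = y by group] at this)
            rw [show v * (σ.t * x) = v * σ.t * v⁻¹ * (v * x) by group, hm, mul_assoc σ.t σ.z,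
              ← (σ.z_comm_T hvx).eq, ← mul_assoc σ.t (v * x) σ.z]
            exact σ.D.mul_mem h σ.z_mem
    obtain ⟨w, hw, hwe⟩ := σ.exists_ext hG S hTS hhalf
    rcases hmem.1 hw with h | h
    · exact absurd (σ.ext_isT hwe) (σ.not_isT_D hG S hTS h)
    · refine ⟨w, hwe, h.1, fun hwT => hvT ?_, h.2⟩
      have := σ.T.mul_mem (σ.D_le h.2) (σ.T.inv_mem hwT)
      rwa [mul_inv_cancel_right] at this
  have hnorm : ∀ {g : G}, g ∈ (S : Subgroup G) → g ∉ σ.T → g * σ.t * g⁻¹ = σ.t * σ.z := fun {g} hg hgT =>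
    σ.moved_mem hG S hTS hg hgT (by
      rw [Subgroup.mem_normalizer_iff]
      refine fun x => ⟨σ.small_T_normal hG S hTS hS2 hg x, fun h => ?_⟩
      have := σ.small_T_normal hG S hTS hS2 (inv_mem hg) _ h
      rwa [show g⁻¹ * (g * x * g⁻¹) * g⁻¹⁻¹ = x by group] at this)
  obtain ⟨w1, hw1, hw1S, hw1T, hw1D⟩ := hex u hu huT (by rw [hu2]; exact σ.D.one_mem)
  have hutS : u * σ.t ∈ (S : Subgroup G) := mul_mem hu (hTS σ.t_mem)
  have hutT : u * σ.t ∉ σ.T := fun h => huT (by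
    have := σ.T.mul_mem h σ.t_mem
    rwa [mul_assoc, σ.invo, mul_one] at this)
  have hut2 : u * σ.t * (u * σ.t) ∈ σ.D := by
    have h := hnorm hu huT
    rw [huinv] at h
    rw [← mul_assoc, h, mul_assoc, (σ.cent _ σ.z_mem_T).eq, σ.t_mul_mul]
    exact σ.z_mem
  obtain ⟨w2, hw2, hw2S, hw2T, hw2D⟩ := hex (u * σ.t) hutS hutT hut2
  set d0 := σ.t * (w1⁻¹ * w2) with hd0
  have hd0D : d0 ∈ σ.D := by
    set a := u * w1 with ha
    set b := u * σ.t * w2 with hb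
    have e : d0 = (σ.t * a⁻¹ * σ.t⁻¹) * (σ.z * b) := by
      have ew1 : w1 = u⁻¹ * a := by rw [ha]; group
      have ew2 : w2 = σ.t⁻¹ * u⁻¹ * b := by rw [hb]; group
      calc d0 = σ.t * ((u⁻¹ * a)⁻¹ * (σ.t⁻¹ * u⁻¹ * b)) := by rw [hd0, ew1, ew2]
        _ = σ.t * (a⁻¹ * (u * σ.t⁻¹ * u⁻¹)) * b := by group
        _ = σ.t * (a⁻¹ * (σ.t * σ.z)) * b := by rw [σ.t_inv, hnorm hu huT]
        _ = _ := by rw [σ.t_inv]; simp only [mul_assoc]
    rw [e, σ.t_inv]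
    refine σ.D.mul_mem ?_ (σ.D.mul_mem σ.z_mem hw2D)
    have ha' := σ.D.inv_mem hw1D
    rw [← (σ.cent _ (σ.D_le ha')).eq, mul_assoc, σ.invo, mul_one]
    exact ha'
  have hw12 : w2 = w1 * (σ.t * d0) := by rw [hd0, σ.t_mul_mul, mul_inv_cancel_left]
  have hwt := hnorm hw1S hw1T
  have hi1 : w1⁻¹ = w1 := inv_eq_of_mul_eq_one_right (σ.isT_sq (σ.ext_isT hw1))
  -- the square of `w2`
  have hsq : σ.z * ((w1 * d0 * w1⁻¹) * d0) = 1 := by
    have h := σ.isT_sq (σ.ext_isT hw2)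
    rw [hw12] at h
    have e : w1 * (σ.t * d0) * (w1 * (σ.t * d0)) = σ.z * ((w1 * d0 * w1⁻¹) * d0) :=
      calc w1 * (σ.t * d0) * (w1 * (σ.t * d0)) = w1 * (σ.t * d0) * (w1⁻¹ * (σ.t * d0)) := by rw [hi1]
        _ = (w1 * σ.t * w1⁻¹) * (w1 * d0 * w1⁻¹) * σ.t * d0 := by group
        _ = σ.t * σ.z * (w1 * d0 * w1⁻¹ * σ.t) * d0 := by rw [hwt]; simp only [mul_assoc]
        _ = σ.t * σ.z * (σ.t * (w1 * d0 * w1⁻¹)) * d0 := by rw [(σ.cent _ (σ.D_le (hDn w1 hw1S _ hd0D))).eq]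
        _ = (σ.t * (σ.z * σ.t)) * (w1 * d0 * w1⁻¹ * d0) := by simp only [mul_assoc]
        _ = σ.z * (w1 * d0 * w1⁻¹ * d0) := by rw [(σ.cent _ σ.z_mem_T).eq, σ.t_mul_mul]
    rwa [e] at h
  have hzD : ∀ {x : G}, x ∈ σ.D → Commute σ.z x := fun hx => (σ.z_comm _ hx).symm
  rcases σ.small_twist hG S hTS hS2 hw1 hw1T hw1S hd0D with h | h
  · have hd0c : Commute w1 d0 := mul_inv_eq_iff_eq_mul.1 h
    rw [h] at hsq
    have hd02 : d0 * d0 = σ.z := by rw [← σ.z_inv]; exact eq_inv_of_mul_eq_one_right hsq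
    obtain ⟨e, he, he2, hde⟩ := σ.rot d0 hd0D hd02
    rcases σ.small_twist hG S hTS hS2 hw1 hw1T hw1S he with hwe | hwe
    · exact σ.small_key hG S hTS hS2 hw1 hw2 hw1S hw12 hd0D hd0c he he2 hde (mul_inv_eq_iff_eq_mul.1 hwe) hwt
    · have hwd : Commute w1 d0⁻¹ := hd0c.inv_right
      have hw2e : Commute w2 e := by
        refine mul_inv_eq_iff_eq_mul.1 ?_
        calc w2 * e * w2⁻¹ = w1 * (σ.t * (d0 * e * d0⁻¹) * σ.t⁻¹) * w1⁻¹ := by rw [hw12]; group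
          _ = w1 * (e * σ.z) * w1⁻¹ := by
              rw [hde, σ.t_inv, ← (σ.cent _ (σ.T.mul_mem (σ.D_le he) σ.z_mem_T)).eq, mul_assoc (e * σ.z) σ.t σ.t, σ.invo, mul_one]
          _ = w1 * e * w1⁻¹ * (w1 * σ.z * w1⁻¹) := by group
          _ = e := by
              rw [hwe, ← (σ.z_central hG S hTS _ hw1S).eq, mul_inv_cancel_right, mul_assoc, σ.z_sq, mul_one]
      have hw21 : w1 = w2 * (σ.t * d0⁻¹) := by
        rw [hw12, mul_assoc w1]
        rw [show σ.t * d0 * (σ.t * d0⁻¹) = σ.t * (d0 * σ.t) * d0⁻¹ by group, (σ.cent _ (σ.D_le hd0D)).eq,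
          σ.t_mul_mul, mul_inv_cancel, mul_one]
      refine σ.small_key hG S hTS hS2 hw2 hw1 hw2S hw21 (σ.D.inv_mem hd0D) ?_ he he2 ?_ hw2e (hnorm hw2S hw2T)
      · show w2 * d0⁻¹ = d0⁻¹ * w2
        rw [hw12]
        calc w1 * (σ.t * d0) * d0⁻¹ = w1 * σ.t := by group
          _ = w1 * (d0⁻¹ * σ.t * d0) := by
              rw [(σ.cent _ (σ.T.inv_mem (σ.D_le hd0D))).eq, mul_assoc, inv_mul_cancel, mul_one]
          _ = (w1 * d0⁻¹) * (σ.t * d0) := by group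
          _ = d0⁻¹ * (w1 * (σ.t * d0)) := by rw [hwd.eq, mul_assoc]
      · rw [inv_inv]
        calc d0⁻¹ * e * d0 = d0⁻¹ * (e * σ.z * d0) * σ.z := by
              rw [mul_assoc e σ.z d0, (hzD hd0D).eq, show d0⁻¹ * (e * (d0 * σ.z)) * σ.z = d0⁻¹ * e * d0 * (σ.z * σ.z) by group,
                σ.z_sq, mul_one]
          _ = e * σ.z := by rw [show e * σ.z * d0 = d0 * e by rw [← hde]; group]; group
  · rw [h] at hsq
    have hd02 : d0 * d0 = 1 := by
      rwa [show σ.z * (d0 * σ.z * d0) = σ.z * d0 * (σ.z * d0) by group, (hzD hd0D).eq,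
        show d0 * σ.z * (d0 * σ.z) = d0 * (σ.z * d0) * σ.z by group, (hzD hd0D).eq,
        show d0 * (d0 * σ.z) * σ.z = d0 * d0 * (σ.z * σ.z) by group, σ.z_sq, mul_one] at hsq
    have hd01 : d0 ≠ 1 := by
      intro e1
      rw [e1, mul_one, mul_inv_cancel, one_mul] at h
      exact σ.z_ne h.symm
    have htd : σ.t * d0 ∈ σ.T := σ.T.mul_mem σ.t_mem (σ.D_le hd0D)
    have htd2 : σ.t * d0 * (σ.t * d0) = 1 := by rw [σ.outer_sq (σ.D_le hd0D), hd02]
    have hc : Commute (σ.t * d0) w1 := by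
      refine (mul_inv_eq_iff_eq_mul.1 ?_).symm
      rw [show w1 * (σ.t * d0) * w1⁻¹ = w1 * σ.t * w1⁻¹ * (w1 * d0 * w1⁻¹) by group, hwt, h,
        mul_assoc σ.t σ.z, ← mul_assoc σ.z d0, (hzD hd0D).eq, mul_assoc d0, σ.z_sq, mul_one]
    have hIs : σ.IsT (σ.t * d0) := (σ.isT_iff hG S hTS htd htd2).2 (by rw [σ.t_mul_mul]; exact hd0D)
    exact (σ.ext_mul hG S hTS hw1 (hTS htd) hc htd2).1 hIs (hw12 ▸ σ.ext_isT hw2)

end DihSetting

end CfsgLib.Core.TwoTimesPSL
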