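import Mathlib

/-!
# Groups acting on an elementary abelian `2`-group as transitive affine groups

A finite group `A` acts faithfully on an elementary abelian `2`-group `T`, leaving the subgroup `V`
of index `2` invariant and transitively permuting the coset `tV`; the stabiliser of `t` has odd
order and contains an element `w` whose powers are transitive on `V ∖ 1`.

* `AffData.isConj_involution`: all involutions of `A` are conjugate
* `AffData.fixes_of_translation`: if one involution is trivial on `V`, then every `2`-element is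
-/

set_option autoImplicit false
set_option linter.unusedSectionVars false

namespace CfsgLib.Core.TwoTimesPSL

universe u v

theorem orderOf_conj {A : Type u} [Group A] (b a : A) : orderOf (b * a * b⁻¹) = orderOf a := by
  have h := MulEquiv.orderOf_eq (MulAut.conj b) a
  rwa [MulAut.conj_apply] at h

/-- A transitive affine action with odd point stabiliser and a transitive cyclic subgroup in it. -/
structure AffData (A : Type u) (T : Type v) [Group A] [CommGroup T] where
  ρ : A →* MulAut T
  faithful : Function.Injective ρ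
  V : Subgroup T
  t : T
  w : A
  two : ∀ x : T, x * x = 1
  not_mem : t ∉ V
  dec : ∀ x : T, x ∈ V ∨ t * x ∈ V
  inv : ∀ a : A, ∀ v ∈ V, ρ a v ∈ V
  trans : ∀ v ∈ V, ∃ a : A, ρ a t = t * v
  stab_odd : ∀ a : A, ρ a t = t → Odd (orderOf a)
  w_fix : ρ w t = t
  w_trans : ∀ u ∈ V, u ≠ 1 → ∀ v ∈ V, v ≠ 1 → ∃ k : ℕ, ρ (w ^ k) u = v
  w_normal : ∀ a : A, ρ a t = t → ∃ k : ℕ, a * w * a⁻¹ = w ^ k

namespace AffData

variable {A : Type u} {T : Type v} [Group A] [CommGroup T] (D : AffData A T)

include D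

theorem inv_eq_self (x : T) : x⁻¹ = x := inv_eq_of_mul_eq_one_right (D.two x)

theorem mul_mul_cancel (x y : T) : x * (x * y) = y := by rw [← mul_assoc, D.two, one_mul]

theorem orderOf_eq_two {x : T} (hx : x ≠ 1) : orderOf x = 2 :=
  orderOf_eq_prime (by rw [pow_two, D.two]) hx

/-- The displacement of `t` under `a`. -/
def disp (a : A) : T := D.t * D.ρ a D.t

theorem rho_t (a : A) : D.ρ a D.t = D.t * D.disp a := (D.mul_mul_cancel _ _).symm

theorem disp_mem (a : A) : D.disp a ∈ D.V := by
  refine (D.dec (D.ρ a D.t)).resolve_left fun h => D.not_mem ?_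
  have := D.inv a⁻¹ _ h
  rwa [← MulAut.mul_apply, ← map_mul, inv_mul_cancel, map_one, MulAut.one_apply] at this

theorem disp_eq_one_iff (a : A) : D.disp a = 1 ↔ D.ρ a D.t = D.t := by
  rw [rho_t D a]
  simp

theorem disp_mul (a b : A) : D.disp (a * b) = D.disp a * D.ρ a (D.disp b) := by
  apply mul_left_cancel (a := D.t)
  rw [← rho_t, ← mul_assoc, ← rho_t, ← map_mul (D.ρ a), ← rho_t, map_mul, MulAut.mul_apply]

theorem rho_mul (a b : A) (x : T) : D.ρ (a * b) x = D.ρ a (D.ρ b x) := by
  rw [map_mul, MulAut.mul_apply]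

theorem rho_inv_apply (a : A) (x : T) : D.ρ a⁻¹ (D.ρ a x) = x := by
  rw [← D.rho_mul, inv_mul_cancel, map_one, MulAut.one_apply]

theorem rho_apply_inv (a : A) (x : T) : D.ρ a (D.ρ a⁻¹ x) = x := by
  rw [← D.rho_mul, mul_inv_cancel, map_one, MulAut.one_apply]

/-- An element is determined by its displacement and its action on `V`. -/
theorem ext_on {a b : A} (ht : D.disp a = D.disp b) (hV : ∀ v ∈ D.V, D.ρ a v = D.ρ b v) : a = b := by
  apply D.faithful
  ext x
  rcases D.dec x with h | h
  · exact hV x h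
  · have key := hV _ h
    rw [map_mul, map_mul, rho_t, rho_t, ht] at key
    exact mul_left_cancel key

theorem pow_w_fix (k : ℕ) : D.ρ (D.w ^ k) D.t = D.t := by
  induction k with
  | zero => simp
  | succ k ih => rw [pow_succ, rho_mul, D.w_fix, ih]

theorem disp_w_conj (k : ℕ) (a : A) :
    D.disp (D.w ^ k * a * (D.w ^ k)⁻¹) = D.ρ (D.w ^ k) (D.disp a) := by
  have h : D.ρ (D.w ^ k)⁻¹ D.t = D.t := by
    nth_rw 1 [← D.pow_w_fix k]; rw [D.rho_inv_apply]
  have h1 : D.disp (D.w ^ k) = 1 := (D.disp_eq_one_iff _).2 (D.pow_w_fix k)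
  have h2 : D.disp (D.w ^ k)⁻¹ = 1 := (D.disp_eq_one_iff _).2 h
  rw [disp_mul, disp_mul, h1, h2, one_mul, map_one, mul_one]

/-- An involution moves `t`. -/
theorem involution_disp_ne {i : A} (hi : orderOf i = 2) : D.disp i ≠ 1 := fun h => by
  have := D.stab_odd i ((D.disp_eq_one_iff i).1 h)
  rw [hi] at this
  exact absurd this (by decide)

theorem involution_fix_disp {i : A} (hi : orderOf i = 2) : D.ρ i (D.disp i) = D.disp i := by
  have hii : i * i = 1 := by rw [← pow_two, ← hi]; exact pow_orderOf_eq_one i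
  have h := D.disp_mul i i
  rw [hii, (D.disp_eq_one_iff 1).2 (by simp)] at h
  exact (eq_inv_of_mul_eq_one_right h.symm).trans (D.inv_eq_self _)

theorem conj_of_disp_eq {i j : A} (hi : orderOf i = 2) (hj : orderOf j = 2) (h : D.disp i = D.disp j) :
    IsConj i j := by
  have hii : i * i = 1 := by rw [← pow_two, ← hi]; exact pow_orderOf_eq_one i
  have hjj : j * j = 1 := by rw [← pow_two, ← hj]; exact pow_orderOf_eq_one j
  set d := i * j with hd
  have hdt : D.ρ d D.t = D.t := by
    rw [← D.disp_eq_one_iff, hd, disp_mul, ← h, involution_fix_disp D hi, D.two]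
  obtain ⟨m, hm⟩ := D.stab_odd d hdt
  set e := d ^ (m + 1)
  have hidi : i * d * i⁻¹ = d⁻¹ := by
    rw [hd, inv_eq_of_mul_eq_one_right hii, mul_inv_rev, inv_eq_of_mul_eq_one_right hjj,
      inv_eq_of_mul_eq_one_right hii]
    simp [mul_assoc, ← mul_assoc i i, hii]
  have hie : i * e * i⁻¹ = e⁻¹ := by rw [← conj_pow, hidi, inv_pow]
  have hee : e * e = d := by
    rw [← pow_add, show (m + 1) + (m + 1) = (2 * m + 1) + 1 by ring, pow_succ, ← hm,
      pow_orderOf_eq_one, one_mul]
  refine isConj_iff.2 ⟨e⁻¹, ?_⟩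
  calc e⁻¹ * i * e⁻¹⁻¹ = (i * e * i⁻¹) * i * e := by rw [hie, inv_inv]
    _ = i * (e * e) := by group
    _ = j := by rw [hee, hd, ← mul_assoc, hii, one_mul]

/-- All involutions of `A` are conjugate. -/
theorem isConj_involution {i j : A} (hi : orderOf i = 2) (hj : orderOf j = 2) : IsConj i j := by
  obtain ⟨k, hk⟩ := D.w_trans _ (D.disp_mem i) (D.involution_disp_ne hi) _ (D.disp_mem j)
    (D.involution_disp_ne hj)
  have h1 : IsConj i (D.w ^ k * i * (D.w ^ k)⁻¹) := isConj_iff.2 ⟨_, rfl⟩
  exact h1.trans (D.conj_of_disp_eq (by rw [orderOf_conj, hi]) hj (by rw [disp_w_conj, hk]))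

/-- An element acts trivially on `V`. -/
def IsTranslation (a : A) : Prop := ∀ v ∈ D.V, D.ρ a v = v

theorem IsTranslation.conj {a : A} (h : D.IsTranslation a) (b : A) :
    D.IsTranslation (b * a * b⁻¹) := fun v hv => by
  rw [rho_mul, rho_mul, h _ (D.inv b⁻¹ v hv), rho_apply_inv]

theorem translation_of_one {i j : A} (hi : orderOf i = 2) (hit : D.IsTranslation i)
    (hj : orderOf j = 2) : D.IsTranslation j := by
  obtain ⟨c, rfl⟩ := isConj_iff.1 (D.isConj_involution hi hj)
  exact hit.conj D c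

variable [Finite A]

theorem card_eq : Nat.card A = Nat.card D.V * Nat.card {a : A // D.ρ a D.t = D.t} := by
  rw [← Nat.card_prod]
  choose g hg using fun v : D.V => D.trans v v.2
  refine (Nat.card_congr (Equiv.ofBijective
    (fun p : D.V × {a : A // D.ρ a D.t = D.t} => g p.1 * p.2.1) ⟨?_, ?_⟩)).symm
  · rintro ⟨v, a, ha⟩ ⟨v', a', ha'⟩ h
    have h2 := congrArg (fun x => D.ρ x D.t) h
    simp only [rho_mul, ha, ha', hg] at h2
    have hv : v = v' := Subtype.ext (mul_left_cancel h2)
    subst hv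
    simp only [mul_right_inj] at h
    subst h
    rfl
  · intro x
    refine ⟨⟨⟨D.disp x, D.disp_mem x⟩, (g ⟨D.disp x, D.disp_mem x⟩)⁻¹ * x, ?_⟩, by simp⟩
    have h1 : D.ρ (g ⟨D.disp x, D.disp_mem x⟩) D.t = D.t * D.disp x := hg ⟨_, D.disp_mem x⟩
    rw [rho_mul, D.rho_t x, ← h1, rho_inv_apply]

theorem card_V_dvd : Nat.card D.V ∣ Nat.card A := ⟨_, D.card_eq⟩

variable [Finite T]

theorem even_card_V (hV : D.V ≠ ⊥) : 2 ∣ Nat.card D.V := by
  obtain ⟨v, hv, hv1⟩ := (Subgroup.bot_or_exists_ne_one D.V).resolve_left hV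
  rw [← D.orderOf_eq_two hv1]
  exact Subgroup.orderOf_dvd_natCard _ hv

theorem exists_involution (hV : D.V ≠ ⊥) : ∃ i : A, orderOf i = 2 := by
  have : Fact (Nat.Prime 2) := ⟨Nat.prime_two⟩
  exact exists_prime_orderOf_dvd_card' 2 ((D.even_card_V hV).trans D.card_V_dvd)

/-- Every displacement is realised by an involution. -/
theorem exists_involution_disp (hV : D.V ≠ ⊥) {v : T} (hv : v ∈ D.V) (hv1 : v ≠ 1) :
    ∃ i : A, orderOf i = 2 ∧ D.disp i = v := by
  obtain ⟨i, hi⟩ := D.exists_involution hV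
  obtain ⟨k, hk⟩ := D.w_trans _ (D.disp_mem i) (D.involution_disp_ne hi) v hv hv1
  exact ⟨D.w ^ k * i * (D.w ^ k)⁻¹, by rw [orderOf_conj, hi], by rw [disp_w_conj, hk]⟩

/-- The subgroup of translations. -/
def translations : Subgroup A where
  carrier := {a | D.IsTranslation a}
  mul_mem' := fun {a b} ha hb v hv => by rw [rho_mul, hb v hv, ha v hv]
  one_mem' := fun v _ => by simp
  inv_mem' := fun {a} ha v hv => by nth_rw 1 [← ha v hv]; rw [rho_inv_apply]

theorem mem_translations {a : A} : a ∈ D.translations ↔ D.IsTranslation a := Iff.rfl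

theorem translations_normal : D.translations.Normal := ⟨fun _ ha b => IsTranslation.conj D ha b⟩

theorem translation_disp_inj {a b : A} (ha : D.IsTranslation a) (hb : D.IsTranslation b)
    (h : D.disp a = D.disp b) : a = b :=
  D.ext_on h fun v hv => by rw [ha v hv, hb v hv]

theorem card_translations {i : A} (hi : orderOf i = 2) (hit : D.IsTranslation i) :
    Nat.card D.translations = Nat.card D.V := by
  have hV : D.V ≠ ⊥ := fun h => D.involution_disp_ne hi ((Subgroup.eq_bot_iff_forall _).1 h _ (D.disp_mem i))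
  refine Nat.card_congr (Equiv.ofBijective
    (fun a : D.translations => (⟨D.disp a.1, D.disp_mem a.1⟩ : D.V)) ⟨?_, ?_⟩)
  · rintro ⟨a, ha⟩ ⟨b, hb⟩ h
    exact Subtype.ext (D.translation_disp_inj ha hb (Subtype.ext_iff.1 h))
  · rintro ⟨v, hv⟩
    rcases eq_or_ne v 1 with rfl | hv1
    · exact ⟨1, Subtype.ext ((D.disp_eq_one_iff 1).2 (by simp))⟩
    · obtain ⟨j, hj, hjv⟩ := D.exists_involution_disp hV hv hv1
      exact ⟨⟨j, D.translation_of_one hi hit hj⟩, Subtype.ext hjv⟩

theorem card_two_group {P : Subgroup A} (hP : IsPGroup 2 P) : Nat.card P ∣ Nat.card D.V := by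
  have : Fact (Nat.Prime 2) := ⟨Nat.prime_two⟩
  have hodd : ¬ 2 ∣ Nat.card {a : A // D.ρ a D.t = D.t} := by
    intro h
    let St : Subgroup A :=
      { carrier := {a | D.ρ a D.t = D.t}
        mul_mem' := fun {a b} ha hb => by
          show D.ρ (a * b) D.t = D.t
          rw [rho_mul, Set.mem_setOf.1 hb, Set.mem_setOf.1 ha]
        one_mem' := by simp
        inv_mem' := fun {a} ha => by
          show D.ρ a⁻¹ D.t = D.t
          nth_rw 1 [← Set.mem_setOf.1 ha]; rw [rho_inv_apply] }
    have hc : Nat.card St = Nat.card {a : A // D.ρ a D.t = D.t} := rfl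
    obtain ⟨a, ha⟩ := exists_prime_orderOf_dvd_card' (G := St) 2 (hc ▸ h)
    rw [← Subgroup.orderOf_coe] at ha
    have := D.stab_odd a.1 a.2
    rw [ha] at this
    exact absurd this (by decide)
  obtain ⟨n, hn⟩ := IsPGroup.iff_card.1 hP
  rw [hn]
  refine (Nat.Coprime.pow_left n ?_).dvd_of_dvd_mul_right
    (hn ▸ D.card_eq ▸ Subgroup.card_subgroup_dvd_card P)
  exact (Nat.Prime.coprime_iff_not_dvd Nat.prime_two).2 hodd

/-- If one involution is a translation then so is every element of `2`-power order. -/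
theorem fixes_of_translation {i : A} (hi : orderOf i = 2) (hit : D.IsTranslation i) {a : A} {k : ℕ}
    (ha : orderOf a = 2 ^ k) : D.IsTranslation a := by
  have := D.translations_normal
  have : Fact (Nat.Prime 2) := ⟨Nat.prime_two⟩
  by_contra hna
  have hV2 : IsPGroup 2 D.V := fun v => ⟨1, Subtype.ext (by simpa [pow_two] using D.two v.1)⟩
  obtain ⟨n, hn⟩ := IsPGroup.iff_card.1 hV2
  have hN : IsPGroup 2 D.translations := IsPGroup.of_card ((D.card_translations hi hit).trans hn)
  have hz : IsPGroup 2 (Subgroup.zpowers a) :=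
    IsPGroup.of_card (by rw [Nat.card_zpowers, ha])
  have hdvd := D.card_two_group (IsPGroup.to_sup_of_normal_left hN hz)
  have hlt : D.translations < D.translations ⊔ Subgroup.zpowers a :=
    SetLike.lt_iff_le_and_exists.2 ⟨le_sup_left, a,
      Subgroup.mem_sup_right (Subgroup.mem_zpowers a), hna⟩
  have h1 := Nat.le_of_dvd Nat.card_pos hdvd
  rw [← D.card_translations hi hit] at h1
  exact hlt.ne (Subgroup.eq_of_le_of_card_ge hlt.le h1)

end AffData

end CfsgLib.Core.TwoTimesPSL
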