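import Cfsg.Agent.Lib.Core.TwoTimesPSL.AffineStab
import Cfsg.Agent.Lib.Core.Cores
import Cfsg.Agent.Lib.Char.Burnside

/-!
# Translation-free affine groups with inverted two-point stabilisers

When the involution interchanging `t` and `tp` inverts the stabiliser of both points and no
involution is a translation, then `|V| = 8` and the Sylow `2`-subgroups are dihedral of order `8`.
-/

set_option autoImplicit false
set_option linter.unusedSectionVars false

open scoped commutatorElement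

namespace CfsgLib.Core.TwoTimesPSL

universe u v

namespace AffData

variable {A : Type u} {T : Type v} [Group A] [CommGroup T] (D : AffData A T) [Finite A] [Finite T]

include D

/-- The setting: a translation-free group whose swap `i` inverts the two-point stabiliser. -/
structure Inverted (i : A) (n : ℕ) : Prop where
  card_V : Nat.card D.V = 2 ^ n
  noTrans : ∀ j : A, orderOf j = 2 → ¬ D.IsTranslation j
  involution : orderOf i = 2
  inverts : ∀ f ∈ D.pairStab (D.disp i), i * f * i⁻¹ = f⁻¹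

variable {D} {i : A} {n : ℕ} (h : D.Inverted i n)

include h

theorem Inverted.p_mem : D.disp i ∈ D.V := D.disp_mem i

theorem Inverted.p_ne : D.disp i ≠ 1 := D.involution_disp_ne h.involution

theorem Inverted.V_ne_bot : D.V ≠ ⊥ :=
  fun e => h.p_ne ((Subgroup.eq_bot_iff_forall _).1 e _ h.p_mem)

theorem Inverted.rho_i_p : D.ρ i (D.disp i) = D.disp i := D.involution_fix_disp h.involution

theorem Inverted.odd {f : A} (hf : f ∈ D.pairStab (D.disp i)) : Odd (orderOf f) := D.stab_odd f hf.1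

theorem Inverted.eq_one_of_sq {f : A} (hf : f ∈ D.pairStab (D.disp i)) (h2 : f = f⁻¹) : f = 1 := by
  have h3 : f ^ 2 = 1 := by rw [pow_two]; nth_rw 2 [h2]; exact mul_inv_cancel f
  have hd := orderOf_dvd_of_pow_eq_one h3
  rcases (Nat.dvd_prime Nat.prime_two).1 hd with h1 | h1
  · exact orderOf_eq_one_iff.1 h1
  · have := h.odd hf; rw [h1] at this; exact absurd this (by decide)

/-- A non-trivial element of the two-point stabiliser fixes just `1` and `p` in `V`. -/
theorem Inverted.fixed {f : A} (hf : f ∈ D.pairStab (D.disp i)) (hf1 : f ≠ 1) {v : T} (hv : v ∈ D.V)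
    (hfv : D.ρ f v = v) : v = 1 ∨ v = D.disp i := by
  by_contra hne
  obtain ⟨hv1, hvp⟩ := not_or.1 hne
  set p := D.disp i with hp
  obtain ⟨k, hk⟩ := D.w_trans p h.p_mem h.p_ne v hv hv1
  have hck : Commute f (D.w ^ k) := D.commute_of_fixed h.p_mem h.p_ne hf (by rw [hk, hfv])
  -- the conjugates of `i` inverting `f`
  have hinv : ∀ m : ℕ, Commute f (D.w ^ m) →
      (D.w ^ m * i * (D.w ^ m)⁻¹) * f * (D.w ^ m * i * (D.w ^ m)⁻¹)⁻¹ = f⁻¹ := by
    intro m hm
    have h1 : (D.w ^ m)⁻¹ * f * D.w ^ m = f := by rw [mul_assoc, hm.eq, inv_mul_cancel_left]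
    calc (D.w ^ m * i * (D.w ^ m)⁻¹) * f * (D.w ^ m * i * (D.w ^ m)⁻¹)⁻¹
        = D.w ^ m * (i * ((D.w ^ m)⁻¹ * f * D.w ^ m) * i⁻¹) * (D.w ^ m)⁻¹ := by group
      _ = D.w ^ m * f⁻¹ * (D.w ^ m)⁻¹ := by rw [h1, h.inverts f hf]
      _ = f⁻¹ := by rw [← hm.inv_left.eq, mul_inv_cancel_right]
  set j := D.w ^ k * i * (D.w ^ k)⁻¹
  have hj : orderOf j = 2 := by rw [orderOf_conj, h.involution]
  have hjd : D.disp j = v := by rw [disp_w_conj, hk]
  have hij : D.disp (i * j) = p * D.ρ i v := by rw [disp_mul, hjd]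
  have hv3ne : p * D.ρ i v ≠ 1 := fun e => hvp (by
    have h1 : D.ρ i v = p := by
      rw [← inv_inv (D.ρ i v), ← eq_inv_of_mul_eq_one_left e, D.inv_eq_self]
    exact (D.ρ i).injective (h1.trans h.rho_i_p.symm))
  have hv3fix : D.ρ f (p * D.ρ i v) = p * D.ρ i v := by
    have h1 : f * i = i * f⁻¹ := by
      have h2 := h.inverts f hf
      rw [← h2, ← mul_assoc, ← mul_assoc]
      have hii : i * i = 1 := by rw [← pow_two, ← h.involution]; exact pow_orderOf_eq_one i
      rw [hii, one_mul, inv_eq_of_mul_eq_one_right hii]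
    rw [map_mul, D.mem_fixV.1 hf.2, ← rho_mul, h1, rho_mul]
    congr 2
    nth_rw 1 [← hfv]
    rw [rho_inv_apply]
  have hv3 : p * D.ρ i v ∈ D.V := D.V.mul_mem h.p_mem (D.inv i v hv)
  obtain ⟨l, hl⟩ := D.w_trans p h.p_mem h.p_ne _ hv3 hv3ne
  have hcl : Commute f (D.w ^ l) := D.commute_of_fixed h.p_mem h.p_ne hf (by rw [hl, hv3fix])
  set m := D.w ^ l * i * (D.w ^ l)⁻¹ with hm
  set d := m * (i * j) with hd
  have hdt : d ∈ D.stabT := by
    have hm2 : orderOf m = 2 := by rw [orderOf_conj, h.involution]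
    rw [mem_stabT, ← disp_eq_one_iff, hd, disp_mul, hij]
    have hdm : D.disp m = p * D.ρ i v := by rw [hm, disp_w_conj, hl]
    rw [← hdm, D.involution_fix_disp hm2, D.two]
  have hdf : d * f * d⁻¹ = f⁻¹ := by
    have h1 : (i * j) * f * (i * j)⁻¹ = f := by
      rw [show (i * j) * f * (i * j)⁻¹ = i * (j * f * j⁻¹) * i⁻¹ by group, hinv k hck, ← conj_inv,
        h.inverts f hf, inv_inv]
    rw [show d * f * d⁻¹ = m * ((i * j) * f * (i * j)⁻¹) * m⁻¹ by rw [hd]; group, h1, hinv l hcl]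
  obtain ⟨a, g, hg, hdag⟩ := D.exists_pow_mul h.p_mem h.p_ne hdt
  have hgf : g * f * g⁻¹ = f := by
    rw [D.pairStab_comm h.p_mem h.p_ne hg hf, mul_inv_cancel_right]
  have hwf : D.w ^ a * f * (D.w ^ a)⁻¹ = f⁻¹ := by
    rw [← hdf, hdag, show D.w ^ a * g * f * (D.w ^ a * g)⁻¹ = D.w ^ a * (g * f * g⁻¹) * (D.w ^ a)⁻¹ by group,
      hgf]
  -- the preimage of `p` under `w ^ a`
  set u := D.ρ (D.w ^ a)⁻¹ p
  have hu : u ∈ D.V := D.inv _ _ h.p_mem
  have hau : D.ρ (D.w ^ a) u = p := D.rho_apply_inv _ _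
  have hfu : D.ρ f u = u := by
    apply (D.ρ (D.w ^ a)).injective
    have h1 : D.w ^ a * f = f⁻¹ * D.w ^ a := by rw [← hwf, inv_mul_cancel_right]
    rw [← rho_mul, h1, rho_mul, hau]
    exact D.mem_fixV.1 ((D.fixV p).inv_mem hf.2)
  have hu1 : u ≠ 1 := fun e => h.p_ne (by rw [← hp, ← hau, e, map_one])
  obtain ⟨b, hb⟩ := D.w_trans p h.p_mem h.p_ne u hu hu1
  have hcb : Commute f (D.w ^ b) := D.commute_of_fixed h.p_mem h.p_ne hf (by rw [hb, hfu])
  have hab : D.w ^ (a + b) = D.w ^ 0 := D.wpow_eq h.p_mem h.p_ne (by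
    rw [pow_add, rho_mul, hb, hau, pow_zero, map_one, MulAut.one_apply])
  rw [pow_zero, pow_add] at hab
  rw [eq_inv_of_mul_eq_one_left hab] at hwf
  rw [hcb.inv_right.eq.symm, inv_inv, inv_mul_cancel_right] at hwf
  exact hf1 (h.eq_one_of_sq hf hwf)

/-- The two-point stabiliser has prime order `n`. -/
theorem Inverted.card_F : n.Prime ∧ Odd n ∧ Nat.card (D.pairStab (D.disp i)) = n := by
  obtain ⟨-, hdvd, hord⟩ := D.pairStab_data h.p_mem h.p_ne h.card_V
  have hne := D.eq_bot_of_translationFree h.V_ne_bot h.noTrans h.p_mem h.p_ne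
  obtain ⟨f, hf, hf1⟩ := (Subgroup.bot_or_exists_ne_one _).resolve_left hne
  have hall : ∀ g ∈ D.pairStab (D.disp i), g ≠ 1 → orderOf g = n := fun g hg hg1 =>
    hord g hg fun v hv e => h.fixed hg hg1 hv e
  have hn0 : n ≠ 1 := fun e => hf1 (orderOf_eq_one_iff.1 ((hall f hf hf1).trans e))
  have hodd : Odd n := hall f hf hf1 ▸ h.odd hf
  have hcard : Nat.card (D.pairStab (D.disp i)) = n :=
    Nat.dvd_antisymm hdvd (hall f hf hf1 ▸ Subgroup.orderOf_dvd_natCard _ hf)
  refine ⟨Nat.prime_def_minFac.2 ⟨?_, ?_⟩, hodd, hcard⟩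
  · rcases hodd with ⟨m, rfl⟩; omega
  · have hr := Nat.minFac_prime hn0
    have : Fact n.minFac.Prime := ⟨hr⟩
    obtain ⟨g, hg⟩ := exists_prime_orderOf_dvd_card' (G := D.pairStab (D.disp i)) n.minFac
      (hcard ▸ Nat.minFac_dvd n)
    rw [← Subgroup.orderOf_coe] at hg
    rw [← hg]
    refine hall g g.2 fun e => hr.ne_one ?_
    rw [← hg, e, orderOf_one]

theorem Inverted.centralizes {f a : A} (hf : f ∈ D.pairStab (D.disp i)) (hf1 : f ≠ 1)
    (hc : a * f = f * a) : a ∈ D.pairStab (D.disp i) := by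
  have hfp : D.ρ f (D.ρ a (D.disp i)) = D.ρ a (D.disp i) := by
    rw [← rho_mul, ← hc, rho_mul, D.mem_fixV.1 hf.2]
  have hp : D.ρ a (D.disp i) = D.disp i := (h.fixed hf hf1 (D.inv a _ h.p_mem) hfp).resolve_left
    fun e => h.p_ne ((D.ρ a).injective (e.trans (map_one _).symm))
  have hfd : D.ρ f (D.disp a) = D.disp a := by
    rw [disp, map_mul, D.mem_stabT.1 hf.1, ← rho_mul, ← hc, rho_mul, D.mem_stabT.1 hf.1]
  rcases h.fixed hf hf1 (D.disp_mem a) hfd with e | e
  · exact ⟨(D.disp_eq_one_iff a).1 e, hp⟩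
  · have hii : i * i = 1 := by rw [← pow_two, ← h.involution]; exact pow_orderOf_eq_one i
    have hg : i * a ∈ D.pairStab (D.disp i) := by
      refine ⟨(D.disp_eq_one_iff _).1 ?_, ?_⟩
      · rw [disp_mul, e, h.rho_i_p, D.two]
      · show D.ρ (i * a) _ = _
        rw [rho_mul, hp, h.rho_i_p]
    exfalso
    refine hf1 (h.eq_one_of_sq hf ?_)
    have h1 : (i * a) * f * (i * a)⁻¹ = f := by
      rw [D.pairStab_comm h.p_mem h.p_ne hg hf, mul_inv_cancel_right]
    rw [show (i * a) * f * (i * a)⁻¹ = i * (a * f * a⁻¹) * i⁻¹ by group, hc, mul_inv_cancel_right,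
      h.inverts f hf] at h1
    exact h1.symm

theorem Inverted.normalizes {f a : A} (hf : f ∈ D.pairStab (D.disp i)) (hf1 : f ≠ 1)
    (ha : a * f * a⁻¹ ∈ D.pairStab (D.disp i)) :
    a ∈ D.pairStab (D.disp i) ∨ i * a ∈ D.pairStab (D.disp i) := by
  set g := a * f * a⁻¹ with hg
  have hg1 : g ≠ 1 := fun e => hf1 (conj_eq_one_iff.1 e)
  have hga : g * a = a * f := by rw [hg, inv_mul_cancel_right]
  have hgp : D.ρ g (D.ρ a (D.disp i)) = D.ρ a (D.disp i) := by
    rw [← rho_mul, hga, rho_mul, D.mem_fixV.1 hf.2]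
  have hp : D.ρ a (D.disp i) = D.disp i := (h.fixed ha hg1 (D.inv a _ h.p_mem) hgp).resolve_left
    fun e => h.p_ne ((D.ρ a).injective (e.trans (map_one _).symm))
  have hgd : D.ρ g (D.disp a) = D.disp a := by
    rw [disp, map_mul, D.mem_stabT.1 ha.1, ← rho_mul, hga, rho_mul, D.mem_stabT.1 hf.1]
  rcases h.fixed ha hg1 (D.disp_mem a) hgd with e | e
  · exact Or.inl ⟨(D.disp_eq_one_iff a).1 e, hp⟩
  · refine Or.inr ⟨(D.disp_eq_one_iff _).1 (by rw [disp_mul, e, h.rho_i_p, D.two]), ?_⟩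
    show D.ρ (i * a) _ = _
    rw [rho_mul, hp, h.rho_i_p]

/-- A Sylow `2`-subgroup is transitive on the coset. -/
theorem Inverted.transitive {P : Subgroup A} (hP : IsPGroup 2 P) (hcard : Nat.card P = 2 ^ n)
    {v : T} (hv : v ∈ D.V) : ∃ x ∈ P, D.disp x = v := by
  have hinj : Function.Injective (fun x : P => (⟨D.disp x, D.disp_mem x⟩ : D.V)) := by
    intro x y e
    have e' : D.disp x.1 = D.disp y.1 := Subtype.ext_iff.1 e
    have hst : (x.1)⁻¹ * y.1 ∈ D.stabT := by
      rw [mem_stabT, rho_mul, rho_t, ← e', ← rho_t, rho_inv_apply]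
    obtain ⟨k, hk⟩ := hP (x⁻¹ * y)
    have hodd := D.stab_odd _ hst
    have hd : orderOf (x.1⁻¹ * y.1) ∣ 2 ^ k := orderOf_dvd_of_pow_eq_one (by
      simpa using congrArg Subtype.val hk)
    have h1 : orderOf (x.1⁻¹ * y.1) = 1 :=
      Nat.Coprime.eq_one_of_dvd ((Nat.coprime_two_right.2 hodd).pow_right k) hd
    exact Subtype.ext (by rw [← inv_mul_eq_one, orderOf_eq_one_iff.1 h1])
  obtain ⟨x, hx⟩ := ((Nat.bijective_iff_injective_and_card _).2 ⟨hinj, by rw [hcard, h.card_V]⟩).2 ⟨v, hv⟩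
  exact ⟨x, x.2, Subtype.ext_iff.1 hx⟩

theorem Inverted.card_stab : Nat.card D.stabT = (2 ^ n - 1) * n ∧
    Nat.card A = 2 ^ n * ((2 ^ n - 1) * n) ∧ Nat.card (D.fixV (D.disp i)) = 2 ^ n * n := by
  obtain ⟨hn, -, hF⟩ := h.card_F
  have h1 := D.card_sub h.p_mem h.p_ne (B := D.stabT) D.w_mem_stabT
  have h2 := D.card_sub h.p_mem h.p_ne (B := ⊤) trivial
  rw [show D.stabT ⊓ D.fixV (D.disp i) = D.pairStab (D.disp i) from rfl, hF, h.card_V] at h1
  rw [top_inf_eq, Subgroup.card_top, h.card_V] at h2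
  have h3 : Nat.card A = Nat.card D.V * Nat.card D.stabT := D.card_eq
  have hs : Nat.card D.stabT = (2 ^ n - 1) * n := by rw [Nat.sub_mul, one_mul]; omega
  refine ⟨hs, by rw [h3, hs, h.card_V], ?_⟩
  rw [h3, hs, h.card_V] at h2
  have h4 : 2 ≤ 2 ^ n := Nat.le_self_pow hn.pos.ne' 2
  have key : (2 ^ n - 1) * Nat.card (D.fixV (D.disp i)) = (2 ^ n - 1) * (2 ^ n * n) := by
    rw [Nat.sub_mul, one_mul, ← h2, Nat.add_sub_cancel]; ring
  exact mul_left_cancel₀ (by omega) key

/-- A Sylow `2`-subgroup is self-normalising. -/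
theorem Inverted.normalizer_le {P : Subgroup A} (hP : IsPGroup 2 P) (hcard : Nat.card P = 2 ^ n) :
    Subgroup.normalizer (P : Set A) ≤ P := by
  classical
  obtain ⟨hn, hodd, hF⟩ := h.card_F
  obtain ⟨-, hA, -⟩ := h.card_stab
  have : Fact n.Prime := ⟨hn⟩
  have hn2 : n ≠ 2 := fun e => by rw [e] at hodd; exact absurd hodd (by decide)
  have hnq : ¬ n ∣ 2 ^ n - 1 := by
    intro hd
    have h1 : ((2 : ℕ) : ZMod n) ^ n = 2 := by rw [ZMod.pow_card]; rfl
    have h2 : ((2 ^ n : ℕ) : ZMod n) = ((1 : ℕ) : ZMod n) :=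
      (ZMod.natCast_eq_natCast_iff _ _ _).2 ((Nat.modEq_iff_dvd' Nat.one_le_two_pow).2 hd).symm
    rw [Nat.cast_pow, h1, Nat.cast_one] at h2
    exact one_ne_zero (by linear_combination h2 : (1 : ZMod n) = 0)
  by_contra hle
  set N := Subgroup.normalizer (P : Set A) with hN
  have hidx : ¬ 2 ∣ P.relIndex N := by
    intro hd
    have h1 : Nat.card N = 2 ^ n * P.relIndex N := by
      have h0 := (P.subgroupOf N).card_mul_index
      rw [Nat.card_congr (Subgroup.subgroupOfEquivOfLe (Subgroup.le_normalizer : P ≤ N)).toEquiv, hcard] at h0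
      exact h0.symm
    have h2 := Subgroup.card_subgroup_dvd_card N
    rw [h1, hA] at h2
    have h3 := hd.trans ((mul_dvd_mul_iff_left (pow_ne_zero n two_ne_zero)).1 h2)
    rcases (Nat.Prime.dvd_mul Nat.prime_two).1 h3 with h4 | h4
    · have : 2 ∣ 2 ^ n := dvd_pow_self 2 hn.pos.ne'
      have := Nat.one_le_two_pow (n := n)
      omega
    · exact hn2 ((Nat.prime_dvd_prime_iff_eq Nat.prime_two hn).1 h4).symm
  have hidx1 : P.relIndex N ≠ 1 := fun e => hle (Subgroup.relIndex_eq_one.1 e)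
  set r := (P.relIndex N).minFac
  have hr : r.Prime := Nat.minFac_prime hidx1
  have : Fact r.Prime := ⟨hr⟩
  have hr2 : r ≠ 2 := fun e => hidx (e ▸ Nat.minFac_dvd _)
  have hrN : r ∣ Nat.card N := (Nat.minFac_dvd _).trans ((P.subgroupOf N).index_dvd_card)
  obtain ⟨g, hg⟩ := exists_prime_orderOf_dvd_card' r hrN
  rw [← Subgroup.orderOf_coe] at hg
  have hgN : ∀ x, x ∈ P → (g : A) * x * (g : A)⁻¹ ∈ P := fun x hx =>
    (Subgroup.mem_normalizer_iff.1 g.2 x).1 hx
  have hrdvd : r ∣ (2 ^ n - 1) * n := by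
    have := hg ▸ orderOf_dvd_natCard (g : A)
    rw [hA] at this
    exact (hr.dvd_mul.1 this).resolve_left fun e =>
      hr2 ((Nat.prime_dvd_prime_iff_eq hr Nat.prime_two).1 (hr.dvd_of_dvd_pow e))
  rcases hr.dvd_mul.1 hrdvd with hrq | hrn
  · -- a power of a conjugate of `w` normalises a Sylow subgroup
    have hrn' : r ≠ n := fun e => hnq (e ▸ hrq)
    let _ : MulAction (Subgroup.zpowers (g : A)) T :=
      MulAction.compHom T (D.ρ.comp (Subgroup.zpowers (g : A)).subtype)
    have hg' : IsPGroup r (Subgroup.zpowers (g : A)) :=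
      IsPGroup.of_card (n := 1) (by rw [Nat.card_zpowers, hg, pow_one])
    let _ : MulAction (Subgroup.zpowers (g : A)) {x : T // D.t * x ∈ D.V} :=
      { smul := fun a x => ⟨D.ρ (a : A) x.1, by
          have : D.t * D.ρ (a : A) x.1 = D.disp (a : A) * D.ρ (a : A) (D.t * x.1) := by
            rw [map_mul, ← mul_assoc, disp, mul_assoc D.t (D.ρ (a:A) D.t), D.two, mul_one]
          rw [this]
          exact D.V.mul_mem (D.disp_mem _) (D.inv _ _ x.2)⟩
        one_smul := fun x => Subtype.ext (by show D.ρ 1 x.1 = x.1; simp)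
        mul_smul := fun a b x => Subtype.ext (D.rho_mul (a : A) (b : A) x.1) }
    have hcardX : Nat.card {x : T // D.t * x ∈ D.V} = 2 ^ n := by
      rw [← h.card_V]
      exact Nat.card_congr
        { toFun := fun x => ⟨D.t * x.1, x.2⟩
          invFun := fun v => ⟨D.t * v.1, by rw [D.mul_mul_cancel]; exact v.2⟩
          left_inv := fun x => Subtype.ext (D.mul_mul_cancel _ _)
          right_inv := fun v => Subtype.ext (D.mul_mul_cancel _ _) }
    have hnd : ¬ r ∣ Nat.card {x : T // D.t * x ∈ D.V} := by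
      rw [hcardX]
      exact fun e => hr2 ((Nat.prime_dvd_prime_iff_eq hr Nat.prime_two).1 (hr.dvd_of_dvd_pow e))
    obtain ⟨x, hx⟩ := hg'.nonempty_fixed_point_of_prime_not_dvd_card _ hnd
    have hgx : D.ρ (g : A) x.1 = x.1 := Subtype.ext_iff.1 (hx ⟨g, Subgroup.mem_zpowers _⟩)
    obtain ⟨c, hc⟩ := D.trans _ x.2
    rw [D.mul_mul_cancel] at hc
    set g' := c⁻¹ * (g : A) * c with hg'def
    have hg't : g' ∈ D.stabT := by rw [mem_stabT, hg'def, rho_mul, rho_mul, hc, hgx, ← hc, rho_inv_apply]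
    have hg'r : orderOf g' = r := by
      have := orderOf_conj c⁻¹ (g : A)
      rw [inv_inv] at this
      rw [hg'def, this, hg]
    obtain ⟨k, f, hf, hkf⟩ := D.exists_pow_mul h.p_mem h.p_ne hg't
    have hf1 : f = 1 := by
      by_contra hf1
      have hordf : orderOf f = n := by
        have h1 := Subgroup.orderOf_dvd_natCard _ hf
        rw [hF] at h1
        exact ((Nat.dvd_prime hn).1 h1).resolve_left (fun e => hf1 (orderOf_eq_one_iff.1 e))
      -- powers of `g'` keep the shape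
      have hpow : ∀ m : ℕ, ∃ l : ℕ, g' ^ m = D.w ^ l * f ^ m := by
        intro m
        induction m with
        | zero => exact ⟨0, by simp⟩
        | succ m ih =>
          obtain ⟨l, hl⟩ := ih
          obtain ⟨l', hl'⟩ := D.conj_pow_w (D.stabT.pow_mem hf.1 m) k
          refine ⟨l + l', ?_⟩
          rw [pow_succ, hl, hkf, pow_add, ← hl', pow_succ]
          group
      obtain ⟨l, hl⟩ := hpow r
      rw [← hg'r, pow_orderOf_eq_one, hg'r] at hl
      have h1 := D.pow_mul_inj h.p_mem h.p_ne (k := 0) (l := l) (one_mem _)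
        ((D.pairStab _).pow_mem hf r) (by rw [← hl]; simp)
      have h2 := orderOf_dvd_of_pow_eq_one h1.2.symm
      rw [hordf] at h2
      exact hrn' ((Nat.prime_dvd_prime_iff_eq hn hr).1 h2).symm
    rw [hf1, mul_one] at hkf
    -- the fixed vectors of the conjugate Sylow subgroup
    set P' := P.map (MulAut.conj c⁻¹).toMonoidHom with hP'
    have hP'2 : IsPGroup 2 P' := hP.map _
    have hmem : ∀ y ∈ P', g' * y * g'⁻¹ ∈ P' := by
      rintro y ⟨z, hz, rfl⟩
      refine ⟨(g : A) * z * (g : A)⁻¹, hgN z hz, ?_⟩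
      simp only [MulEquiv.coe_toMonoidHom, MulAut.conj_apply, hg'def]
      group
    let Y : Subgroup D.V :=
      { carrier := {v | ∀ y ∈ P', D.ρ y v = v}
        mul_mem' := fun {a b} ha hb y hy => by simp [ha y hy, hb y hy]
        one_mem' := fun y _ => by simp
        inv_mem' := fun {a} ha y hy => by simp [ha y hy] }
    have : Fact (Nat.Prime 2) := ⟨Nat.prime_two⟩
    let _ : MulAction P' D.V := MulAction.compHom D.V (D.rhoV.comp P'.subtype)
    obtain ⟨b, hb, hb1⟩ := hP'2.exists_fixed_point_of_prime_dvd_card_of_fixed_point D.V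
      (D.even_card_V h.V_ne_bot) (a := 1) (fun x => map_one (D.rhoV (x : A)))
    have hbY : b ∈ Y := fun y hy => Subtype.ext_iff.1 (hb ⟨y, hy⟩)
    have hgk : D.rhoV D.w ^ k ≠ 1 := by
      intro e
      have h1 : g' = 1 := by
        rw [hkf, ← pow_zero D.w]
        refine D.wpow_eq h.p_mem h.p_ne ?_
        have h2 := congrArg (fun φ => ((φ (⟨_, h.p_mem⟩ : D.V)) : T)) e
        simp only [← map_pow, rhoV_coe, MulAut.one_apply] at h2
        rw [h2]; simp
      rw [h1, orderOf_one] at hg'r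
      exact hr.ne_one hg'r.symm
    rcases irreducible_of_prime (w := D.rhoV D.w) (p := ⟨D.disp i, h.p_mem⟩)
      (fun e => h.p_ne (Subtype.ext_iff.1 e)) D.rhoV_trans (fun x => Subtype.ext (D.two x.1)) h.card_V hn
      hgk Y (fun v hv y hy => by
        rw [← map_pow, rhoV_coe, ← hkf]
        have h1 : g'⁻¹ * y * g' ∈ P' := by
          have hfin : IsOfFinOrder g' := isOfFinOrder_of_finite g'
          obtain ⟨m, hm⟩ : ∃ m : ℕ, g'⁻¹ = g' ^ m := by
            obtain ⟨m, hm⟩ := hfin.mem_powers_iff_mem_zpowers.2 (Subgroup.inv_mem _ (Subgroup.mem_zpowers g'))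
            exact ⟨m, hm.symm⟩
          have hiter : ∀ m : ℕ, ∀ z ∈ P', g' ^ m * z * (g' ^ m)⁻¹ ∈ P' := by
            intro m
            induction m with
            | zero => intro z hz; simpa using hz
            | succ m ih =>
              intro z hz
              rw [pow_succ, show g' ^ m * g' * z * (g' ^ m * g')⁻¹ =
                g' ^ m * (g' * z * g'⁻¹) * (g' ^ m)⁻¹ by group]
              exact ih _ (hmem z hz)
          have := hiter m y hy
          rwa [← hm, inv_inv] at this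
        have h5 := congrArg (D.ρ g') (hv _ h1)
        rw [← rho_mul, show g' * (g'⁻¹ * y * g') = y * g' by group, rho_mul] at h5
        exact h5) with hY | hY
    · exact hb1 ((Subgroup.eq_bot_iff_forall _).1 hY b hbY).symm
    · obtain ⟨z, hz⟩ : ∃ z : P', orderOf z = 2 := by
        refine exists_prime_orderOf_dvd_card' 2 ?_
        rw [Subgroup.card_map_of_injective (MulAut.conj c⁻¹).injective, hcard]
        exact dvd_pow_self 2 hn.pos.ne'
      rw [← Subgroup.orderOf_coe] at hz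
      exact h.noTrans _ hz fun v hv => (hY ▸ Subgroup.mem_top (⟨v, hv⟩ : D.V) : (⟨v, hv⟩ : D.V) ∈ Y) _ z.2
  · -- an element of order `n` normalises a Sylow subgroup
    have hrn' : r = n := (Nat.prime_dvd_prime_iff_eq hr hn).1 hrn
    obtain ⟨f, hf, hf1⟩ := (Subgroup.bot_or_exists_ne_one _).resolve_left
      (D.eq_bot_of_translationFree h.V_ne_bot h.noTrans h.p_mem h.p_ne)
    have hFcard : IsPGroup n (D.pairStab (D.disp i)) := IsPGroup.of_card (n := 1) (by rw [hF, pow_one])
    have hnd : ¬ n ∣ (D.pairStab (D.disp i)).index := by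
      intro hd
      have h1 := (D.pairStab (D.disp i)).card_mul_index
      rw [hF, hA] at h1
      have h2 : (D.pairStab (D.disp i)).index = 2 ^ n * (2 ^ n - 1) :=
        mul_left_cancel₀ hn.ne_zero (h1.trans (by ring))
      rw [h2] at hd
      rcases hn.dvd_mul.1 hd with h3 | h3
      · exact hn2 ((Nat.prime_dvd_prime_iff_eq hn Nat.prime_two).1 (hn.dvd_of_dvd_pow h3))
      · exact hnq h3
    let SF : Sylow n A := hFcard.toSylow hnd
    have hgz : IsPGroup n (Subgroup.zpowers (g : A)) :=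
      IsPGroup.of_card (n := 1) (by rw [Nat.card_zpowers, hg, hrn', pow_one])
    obtain ⟨SQ, hSQ⟩ := hgz.exists_le_sylow
    obtain ⟨c, hc⟩ := MulAction.exists_smul_eq A SQ SF
    have hcg : c * (g : A) * c⁻¹ ∈ D.pairStab (D.disp i) := by
      have h1 : c * (g : A) * c⁻¹ ∈ ((c • SQ : Sylow n A) : Subgroup A) := by
        rw [Sylow.smul_def]
        exact ⟨g, hSQ (Subgroup.mem_zpowers _), rfl⟩
      rw [hc] at h1
      exact h1
    set φ := c * (g : A) * c⁻¹ with hφ
    have hφ1 : φ ≠ 1 := fun e => hr.ne_one (by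
      rw [← hg, show (g : A) = 1 from conj_eq_one_iff.1 (hφ.symm.trans e), orderOf_one])
    set P' := P.map (MulAut.conj c).toMonoidHom
    have hP'2 : IsPGroup 2 P' := hP.map _
    have hP'card : Nat.card P' = 2 ^ n := by
      rw [Subgroup.card_map_of_injective (MulAut.conj c).injective, hcard]
    obtain ⟨π, hπ, hπd⟩ := h.transitive hP'2 hP'card h.p_mem
    have hπ' : φ * π * φ⁻¹ ∈ P' := by
      obtain ⟨z, hz, rfl⟩ := hπ
      refine ⟨(g : A) * z * (g : A)⁻¹, hgN z hz, ?_⟩
      simp only [MulEquiv.coe_toMonoidHom, MulAut.conj_apply, hφ]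
      group
    have heq : φ * π * φ⁻¹ = π := by
      have hd : D.disp (φ * π * φ⁻¹) = D.disp π := by
        have h1 : D.disp φ = 1 := (D.disp_eq_one_iff _).2 hcg.1
        have h2 : D.disp φ⁻¹ = 1 := (D.disp_eq_one_iff _).2 ((D.pairStab _).inv_mem hcg).1
        rw [disp_mul, disp_mul, h1, h2, map_one, mul_one, one_mul, hπd]
        exact D.mem_fixV.1 hcg.2
      have hst : π⁻¹ * (φ * π * φ⁻¹) ∈ D.stabT := by
        rw [mem_stabT, rho_mul, rho_t, hd, ← rho_t, rho_inv_apply]
      obtain ⟨k, hk⟩ := hP'2 ⟨_, P'.mul_mem (P'.inv_mem hπ) hπ'⟩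
      have hodd' := D.stab_odd _ hst
      have hd' : orderOf (π⁻¹ * (φ * π * φ⁻¹)) ∣ 2 ^ k := orderOf_dvd_of_pow_eq_one (by
        simpa using congrArg Subtype.val hk)
      have h1 : orderOf (π⁻¹ * (φ * π * φ⁻¹)) = 1 :=
        Nat.Coprime.eq_one_of_dvd ((Nat.coprime_two_right.2 hodd').pow_right k) hd'
      exact (inv_mul_eq_one.1 (orderOf_eq_one_iff.1 h1)).symm
    have hπF := h.centralizes hcg hφ1 (mul_inv_eq_iff_eq_mul.1 heq).symm
    exact h.p_ne (hπd ▸ (D.disp_eq_one_iff π).2 hπF.1)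

/-- The structure of a translation-free group with inverted two-point stabiliser. -/
theorem Inverted.main : Nat.card D.V = 8 ∧ ∀ P : Subgroup A, IsPGroup 2 P → Nat.card P = Nat.card D.V →
    ∃ a ∈ P, ∃ b ∈ P, orderOf a = 2 ∧ orderOf b = 2 ∧ Subgroup.closure {a, b} = P ∧ (a * b) ^ 4 = 1 := by
  classical
  have : Fact (Nat.Prime 2) := ⟨Nat.prime_two⟩
  obtain ⟨hn, hodd, hF⟩ := h.card_F
  obtain ⟨-, hA, hSp⟩ := h.card_stab
  have : Fact n.Prime := ⟨hn⟩
  have hn2 : n ≠ 2 := fun e => by rw [e] at hodd; exact absurd hodd (by decide)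
  have hn3 : 3 ≤ n := by have := hn.two_le; omega
  set p := D.disp i with hp
  set Sp := D.fixV p with hSpdef
  have hii : i * i = 1 := by rw [← pow_two, ← h.involution]; exact pow_orderOf_eq_one i
  have hiSp : i ∈ Sp := h.rho_i_p
  obtain ⟨f, hf, hf1⟩ := (Subgroup.bot_or_exists_ne_one _).resolve_left
    (D.eq_bot_of_translationFree h.V_ne_bot h.noTrans h.p_mem h.p_ne)
  have hfSp : f ∈ Sp := hf.2
  have hordf : orderOf f = n := by
    have h1 := Subgroup.orderOf_dvd_natCard _ hf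
    rw [hF] at h1
    exact ((Nat.dvd_prime hn).1 h1).resolve_left (fun e => hf1 (orderOf_eq_one_iff.1 e))
  have hfnot2 : ∀ B : Subgroup A, IsPGroup 2 B → f ∉ B := by
    intro B hB hmem
    obtain ⟨k, hk⟩ := hB ⟨f, hmem⟩
    have h1 : orderOf f ∣ 2 ^ k := orderOf_dvd_of_pow_eq_one (by simpa using congrArg Subtype.val hk)
    rw [hordf] at h1
    exact hn2 ((Nat.prime_dvd_prime_iff_eq hn Nat.prime_two).1 (hn.dvd_of_dvd_pow h1))
  -- the `2`-core of the stabiliser
  have hsol : Group.IsSolvable Sp := CfsgLib.Burnside.isSolvable_of_card_eq (p := 2) (q := n) (a := n) (b := 1)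
    Nat.prime_two hn (by rw [hSp, pow_one])
  set Q0 := Cfsg.pCore 2 Sp with hQ0
  set Q := Q0.map Sp.subtype with hQ
  have hQle : Q ≤ Sp := Subgroup.map_subtype_le Q0
  have hQ2 : IsPGroup 2 Q := (CfsgLib.Core.isPGroup_pCore 2 Sp).map _
  have hQn : ∀ x ∈ Sp, ∀ q ∈ Q, x * q * x⁻¹ ∈ Q := by
    rintro x hx _ ⟨q, hq, rfl⟩
    have hQ0n : Q0.Normal := inferInstance
    exact ⟨⟨x, hx⟩ * q * ⟨x, hx⟩⁻¹, hQ0n.conj_mem q hq _, rfl⟩
  -- Frattini: every element of the stabiliser is in `Q F` or `Q F i`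
  have hfrat : ∀ x ∈ Sp, ∃ q ∈ Q, (q⁻¹ * x ∈ D.pairStab p ∨ i * (q⁻¹ * x) ∈ D.pairStab p) := by
    let π := QuotientGroup.mk' Q0
    have hsol' : Group.IsSolvable (Sp ⧸ Q0) := Group.isSolvable_of_surjective (f := π) (QuotientGroup.mk'_surjective Q0)
    have hne : Nontrivial (Sp ⧸ Q0) := by
      rw [QuotientGroup.nontrivial_iff]
      intro e
      exact hfnot2 Q hQ2 ⟨⟨f, hfSp⟩, e ▸ Subgroup.mem_top _, rfl⟩
    -- a non-trivial normal subgroup of order prime to `2`
    have hex : ∃ k, derivedSeries (Sp ⧸ Q0) k = ⊥ := hsol'.solvable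
    set k0 := Nat.find hex
    have hk0 : k0 ≠ 0 := fun e => by
      have h0 := Nat.find_spec hex
      rw [show Nat.find hex = 0 from e, derivedSeries_zero] at h0
      exact top_ne_bot h0
    set M := derivedSeries (Sp ⧸ Q0) (k0 - 1) with hM
    have hMn : M.Normal := derivedSeries_normal _ _
    have hMne : M ≠ ⊥ := Nat.find_min hex (by omega)
    have hMab : ∀ x ∈ M, ∀ y ∈ M, x * y = y * x := fun x hx y hy => by
      have h1 : ⁅x, y⁆ ∈ derivedSeries (Sp ⧸ Q0) k0 := by
        rw [show k0 = k0 - 1 + 1 by omega, derivedSeries_succ]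
        exact Subgroup.commutator_mem_commutator hx hy
      rw [Nat.find_spec hex, Subgroup.mem_bot] at h1
      exact commutatorElement_eq_one_iff_mul_comm.1 h1
    obtain ⟨SF, hfS⟩ : ∃ SF : Sylow n Sp, ∀ x : Sp, x ∈ (SF : Subgroup Sp) ↔ (x : A) ∈ D.pairStab p := by
      have hp' : IsPGroup n ((D.pairStab p).subgroupOf Sp) := IsPGroup.of_card (n := 1) (by
        rw [Nat.card_congr (Subgroup.subgroupOfEquivOfLe (show D.pairStab p ≤ Sp from inf_le_right)).toEquiv, hF, pow_one])
      have hnd : ¬ n ∣ ((D.pairStab p).subgroupOf Sp).index := by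
        intro hd
        have h1 := ((D.pairStab p).subgroupOf Sp).card_mul_index
        rw [Nat.card_congr (Subgroup.subgroupOfEquivOfLe (show D.pairStab p ≤ Sp from inf_le_right)).toEquiv, hF, hSp, mul_comm (2 ^ n)] at h1
        rw [mul_left_cancel₀ hn.ne_zero h1] at hd
        exact hn2 ((Nat.prime_dvd_prime_iff_eq hn Nat.prime_two).1 (hn.dvd_of_dvd_pow hd))
      exact ⟨hp'.toSylow hnd, fun x => Iff.rfl⟩
    -- `M` is a group of order `n`
    have hM2 : ∀ y ∈ M, y * y = 1 → y = 1 := by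
      by_contra hcon
      obtain ⟨y0, hy0, hy0sq, hy01⟩ : ∃ y, y ∈ M ∧ y * y = 1 ∧ y ≠ 1 := by
        by_contra h'; exact hcon fun y hy hy2 => by_contra fun hy1 => h' ⟨y, hy, hy2, hy1⟩
      let Ω : Subgroup (Sp ⧸ Q0) :=
        { carrier := {y | y ∈ M ∧ y * y = 1}
          mul_mem' := fun {a b} ha hb => ⟨M.mul_mem ha.1 hb.1, by
            rw [show a * b * (a * b) = a * a * (b * b) by
              rw [mul_assoc, ← mul_assoc b, ← hMab a ha.1 b hb.1]; group, ha.2, hb.2, one_mul]⟩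
          one_mem' := ⟨M.one_mem, by simp⟩
          inv_mem' := fun {a} ha => ⟨M.inv_mem ha.1, by rw [← mul_inv_rev, ha.2, inv_one]⟩ }
      have hΩn : Ω.Normal := ⟨fun y hy x => ⟨hMn.conj_mem y hy.1 x, by
        rw [show x * y * x⁻¹ * (x * y * x⁻¹) = x * (y * y) * x⁻¹ by group, hy.2, mul_one, mul_inv_cancel]⟩⟩
      have hΩ2 : IsPGroup 2 Ω := fun y => ⟨1, Subtype.ext (by simpa [pow_two] using y.2.2)⟩
      have h1 : Ω ≤ ⊥ := (CfsgLib.Core.le_pCore hΩ2).trans (CfsgLib.Core.pCore_quotient_pCore 2 Sp).le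
      exact hy01 ((Subgroup.eq_bot_iff_forall _).1 (le_bot_iff.1 h1) _ ⟨hy0, hy0sq⟩)
    have hMF : M ≤ (SF : Subgroup Sp).map π := by
      have hcM : Nat.card M = n := by
        have h1 : Nat.card M ∣ 2 ^ n * n :=
          (Subgroup.card_subgroup_dvd_card M).trans (hSp ▸ Subgroup.card_quotient_dvd_card Q0)
        have h2 : ¬ 2 ∣ Nat.card M := fun e => by
          obtain ⟨y, hy⟩ := exists_prime_orderOf_dvd_card' (G := M) 2 e
          have hy2 : y * y = 1 := by rw [← pow_two]; exact orderOf_dvd_iff_pow_eq_one.1 hy.dvd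
          rw [show y = 1 from Subtype.ext (hM2 _ y.2 (by simpa using congrArg Subtype.val hy2)), orderOf_one] at hy
          omega
        have h3 : Nat.card M ∣ n := (Nat.Coprime.pow_right n
          ((Nat.prime_two.coprime_iff_not_dvd.2 h2).symm)).dvd_of_dvd_mul_left h1
        refine ((Nat.dvd_prime hn).1 h3).resolve_left fun e => hMne (Subgroup.card_eq_one.1 e)
      have hMp : IsPGroup n M := IsPGroup.of_card (n := 1) (by rw [hcM, pow_one])
      obtain ⟨SM, hSM⟩ := hMp.exists_le_sylow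
      obtain ⟨x, hx⟩ := MulAction.exists_smul_eq (Sp ⧸ Q0) SM (SF.mapSurjective (QuotientGroup.mk'_surjective Q0))
      intro y hy
      have h1 : x * (x⁻¹ * y * x) * x⁻¹ ∈ ((x • SM : Sylow n (Sp ⧸ Q0)) : Subgroup (Sp ⧸ Q0)) := by
        rw [Sylow.smul_def]
        refine ⟨x⁻¹ * y * x, hSM ?_, rfl⟩
        have := hMn.conj_mem y hy x⁻¹
        rwa [inv_inv] at this
      rw [hx, show x * (x⁻¹ * y * x) * x⁻¹ = y by group] at h1
      exact h1
    intro x hx
    let H := M.comap π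
    have : H.Normal := hMn.comap π
    have hFH : (SF : Subgroup Sp).map π ≤ M := by
      refine le_of_eq (Subgroup.eq_of_le_of_card_ge hMF ?_).symm
      refine Nat.le_of_dvd Nat.card_pos ?_
      refine (Subgroup.card_map_dvd _ _).trans ?_
      have h1 : Nat.card (SF : Subgroup Sp) = n := by
        refine Eq.trans ?_ hF
        exact Nat.card_congr
          { toFun := fun y => ⟨y.1.1, (hfS y.1).1 y.2⟩
            invFun := fun y => ⟨⟨y.1, y.2.2⟩, (hfS _).2 y.2⟩
            left_inv := fun _ => rfl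
            right_inv := fun _ => rfl }
      rw [h1]
      have h2 : Nat.card M ∣ Nat.card ((SF : Subgroup Sp).map π) := Subgroup.card_dvd_of_le hMF
      have h3 : Nat.card ((SF : Subgroup Sp).map π) ∣ n := (Subgroup.card_map_dvd _ _).trans h1.dvd
      rcases (Nat.dvd_prime hn).1 (h2.trans h3) with e | e
      · exact absurd (Subgroup.card_eq_one.1 e) hMne
      · rw [e]
    have hsup : (Subgroup.normalizer ((SF.subtype (show (SF : Subgroup Sp) ≤ H from
        fun y hy => hFH ⟨y, hy, rfl⟩)).map H.subtype : Set Sp)) ⊔ H = ⊤ :=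
      Sylow.normalizer_sup_eq_top _
    rw [Sylow.coe_subtype, Subgroup.map_subgroupOf_eq_of_le (show (SF : Subgroup Sp) ≤ H from
        fun y hy => hFH ⟨y, hy, rfl⟩), sup_comm] at hsup
    have hmem : (⟨x, hx⟩ : Sp) ∈ H ⊔ Subgroup.normalizer ((SF : Subgroup Sp) : Set Sp) :=
      hsup ▸ Subgroup.mem_top _
    rw [Subgroup.mem_sup_of_normal_left] at hmem
    obtain ⟨m, hm, ν, hν, hmν⟩ := hmem
    obtain ⟨φ, hφ, hφm⟩ := hMF hm
    have hq : (m * φ⁻¹ : Sp) ∈ Q0 := by
      rw [← QuotientGroup.eq_one_iff]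
      show π (m * φ⁻¹) = 1
      rw [map_mul, map_inv, hφm, mul_inv_cancel]
    refine ⟨((m * φ⁻¹ : Sp) : A), ⟨_, hq, rfl⟩, ?_⟩
    have hxx : ((m * φ⁻¹ : Sp) : A)⁻¹ * x = (φ : A) * (ν : A) := by
      have h1 : (m : A) * ν = x := congrArg Subtype.val hmν
      rw [← h1]
      push_cast
      group
    rw [hxx]
    have hνF : (ν : A) * f * (ν : A)⁻¹ ∈ D.pairStab p :=
      (hfS _).1 ((Subgroup.mem_normalizer_iff.1 hν ⟨f, hfSp⟩).1 ((hfS _).2 hf))
    have hφF : (φ : A) ∈ D.pairStab p := (hfS φ).1 hφ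
    rcases h.normalizes hf hf1 hνF with h1 | h1
    · exact Or.inl ((D.pairStab p).mul_mem hφF h1)
    · refine Or.inr ?_
      have h2 : i * ((φ : A) * ν) = (φ : A)⁻¹ * (i * ν) := by
        rw [← h.inverts _ hφF]; group
      rw [h2]
      exact (D.pairStab p).mul_mem ((D.pairStab p).inv_mem hφF) h1
  -- `P₀ = Q⟨i⟩`
  have hiQ : i ∉ Q := by
    intro hmem
    have h1 : f * i * f⁻¹ * i ∈ Q := Q.mul_mem (hQn f hfSp i hmem) hmem
    have h2 : f * i * f⁻¹ * i = f * f := by
      have := h.inverts _ ((D.pairStab p).inv_mem hf)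
      rw [inv_eq_of_mul_eq_one_right hii, inv_inv] at this
      rw [mul_assoc (f * i), mul_assoc f i, ← mul_assoc i, this]
    rw [h2] at h1
    obtain ⟨m, hm⟩ := hodd
    refine hfnot2 Q hQ2 ?_
    have h3 : f = (f * f) ^ (m + 1) := by
      rw [← pow_two, ← pow_mul, show 2 * (m + 1) = n + 1 by omega, pow_succ, ← hordf,
        pow_orderOf_eq_one, one_mul]
    rw [h3]
    exact Q.pow_mem h1 _
  have hQcard : 2 ^ n ≤ 2 * Nat.card Q := by
    have hsurj : Function.Surjective (fun y : Q × D.pairStab p × Fin 2 =>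
        (⟨y.1.1 * (i ^ y.2.2.1 * y.2.1.1), Sp.mul_mem (hQle y.1.2) (Sp.mul_mem (Sp.pow_mem hiSp _) y.2.1.2.2)⟩ : Sp)) := by
      rintro ⟨x, hx⟩
      obtain ⟨q, hq, h1 | h1⟩ := hfrat x hx
      · exact ⟨⟨⟨q, hq⟩, ⟨_, h1⟩, 0⟩, Subtype.ext (by simp)⟩
      · exact ⟨⟨⟨q, hq⟩, ⟨_, h1⟩, 1⟩, Subtype.ext (by simp [← mul_assoc, mul_assoc q i i, hii])⟩
    have h1 := Nat.card_le_card_of_surjective _ hsurj
    rw [hSp, Nat.card_prod, Nat.card_prod, hF, Nat.card_fin] at h1
    exact Nat.le_of_mul_le_mul_right (h1.trans (le_of_eq (by ring))) hn.pos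
  set P0 := Q ⊔ Subgroup.zpowers i with hP0
  have hzi : IsPGroup 2 (Subgroup.zpowers i) :=
    IsPGroup.of_card (n := 1) (by rw [Nat.card_zpowers, h.involution, pow_one])
  have hnorm : Subgroup.zpowers i ≤ Subgroup.normalizer (Q : Set A) := by
    rw [Subgroup.zpowers_le, Subgroup.mem_normalizer_iff]
    intro q
    refine ⟨hQn i hiSp q, fun hq => ?_⟩
    have := hQn i hiSp _ hq
    rwa [inv_eq_of_mul_eq_one_right hii, ← mul_assoc, ← mul_assoc, hii, one_mul, mul_assoc, hii, mul_one] at this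
  have hP02 : IsPGroup 2 P0 := by
    rw [hP0, sup_comm]
    exact IsPGroup.to_sup_of_normal_right' hzi hQ2 hnorm
  have hP0card : Nat.card P0 = 2 ^ n := by
    have h1 := D.card_two_group hP02
    rw [h.card_V] at h1
    have hlt : Nat.card Q < Nat.card P0 :=
      lt_of_le_of_ne (Subgroup.card_le_of_le le_sup_left) fun e => hiQ
        ((Subgroup.eq_of_le_of_card_ge le_sup_left e.ge).symm ▸
          Subgroup.mem_sup_right (Subgroup.mem_zpowers i))
    have h2 : Nat.card Q ∣ Nat.card P0 := Subgroup.card_dvd_of_le le_sup_left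
    obtain ⟨c, hc⟩ := h2
    have hc2 : 2 ≤ c := by
      by_contra hc2
      interval_cases c <;> omega
    have h3 : 2 ^ n ≤ Nat.card P0 := by
      rw [hc]
      exact hQcard.trans (by rw [mul_comm 2]; exact Nat.mul_le_mul_left _ hc2)
    exact le_antisymm (Nat.le_of_dvd (by positivity) h1) h3
  -- elementary central part of `Q`
  let U : Subgroup A :=
    { carrier := {u | u ∈ Q ∧ u * u = 1 ∧ ∀ q ∈ Q, q * u = u * q}
      mul_mem' := fun {a b} ha hb => ⟨Q.mul_mem ha.1 hb.1, by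
        rw [show a * b * (a * b) = a * (b * a) * b by group, ha.2.2 b hb.1,
          show a * (a * b) * b = a * a * (b * b) by group, ha.2.1, hb.2.1, one_mul],
        fun q hq => by rw [← mul_assoc, ha.2.2 q hq, mul_assoc, hb.2.2 q hq, mul_assoc]⟩
      one_mem' := ⟨Q.one_mem, by simp, fun q _ => by simp⟩
      inv_mem' := fun {a} ha => ⟨Q.inv_mem ha.1, by rw [← mul_inv_rev, ha.2.1, inv_one],
        fun q hq => (show Commute q a from ha.2.2 q hq).inv_right⟩ }
  have hUn : ∀ x ∈ Sp, ∀ u ∈ U, x * u * x⁻¹ ∈ U := fun x hx u hu =>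
    ⟨hQn x hx u hu.1, by
      rw [show x * u * x⁻¹ * (x * u * x⁻¹) = x * (u * u) * x⁻¹ by group, hu.2.1, mul_one, mul_inv_cancel], fun q hq => by
      have h1 : x⁻¹ * q * x ∈ Q := by
        have := hQn x⁻¹ (Sp.inv_mem hx) q hq
        rwa [inv_inv] at this
      have h2 := hu.2.2 _ h1
      calc q * (x * u * x⁻¹) = x * ((x⁻¹ * q * x) * u) * x⁻¹ := by group
        _ = x * (u * (x⁻¹ * q * x)) * x⁻¹ := by rw [h2]
        _ = x * u * x⁻¹ * q := by group⟩
  -- the centre of `P₀` has one involution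
  have hcentral : ∀ z z' : A, z ∈ P0 → z' ∈ P0 → orderOf z = 2 → orderOf z' = 2 →
      (∀ y ∈ P0, y * z = z * y) → (∀ y ∈ P0, y * z' = z' * y) → z = z' := by
    intro z z' _ _ hz hz' hzc hz'c
    have hnd : ¬ 2 ∣ P0.index := by
      intro hd
      have h1 := P0.card_mul_index
      rw [hP0card, hA] at h1
      rw [mul_left_cancel₀ (pow_ne_zero n two_ne_zero) h1] at hd
      rcases Nat.prime_two.dvd_mul.1 hd with h2 | h2
      · have : 2 ∣ 2 ^ n := dvd_pow_self 2 hn.pos.ne'
        have := Nat.one_le_two_pow (n := n)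
        omega
      · exact hn2 ((Nat.prime_dvd_prime_iff_eq Nat.prime_two hn).1 h2).symm
    obtain ⟨c, hc⟩ := isConj_iff.1 (D.isConj_involution hz hz')
    have hcc : c⁻¹⁻¹ * z * c⁻¹ = z' := by rw [inv_inv, hc]
    obtain ⟨m, hm, hmz⟩ := Sylow.conj_eq_normalizer_conj_of_mem_centralizer (hP02.toSylow hnd) z c⁻¹
      (Subgroup.mem_centralizer_iff.2 fun y hy => hzc y hy)
      (by rw [hcc]; exact Subgroup.mem_centralizer_iff.2 fun y hy => hz'c y hy)
    have hmP : m ∈ P0 := h.normalizer_le hP02 hP0card hm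
    rw [← hcc, hmz, mul_assoc, ← hzc m hmP, inv_mul_cancel_left]
  have hiinv : i⁻¹ = i := inv_eq_of_mul_eq_one_right hii
  have hUcomm : ∀ a ∈ U, ∀ b ∈ U, a * b = b * a := fun a ha b hb => (ha.2.2 b hb.1).symm
  have hUiP : ∀ u ∈ U, i * u = u * i → ∀ y ∈ P0, y * u = u * y := by
    intro u hu hiu y hy
    have : P0 ≤ Subgroup.centralizer ({u} : Set A) := sup_le (fun q hq => by
        rw [Subgroup.mem_centralizer_singleton_iff]; exact hu.2.2 q hq)
      (Subgroup.zpowers_le.2 (Subgroup.mem_centralizer_singleton_iff.2 hiu))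
    exact Subgroup.mem_centralizer_singleton_iff.1 (this hy)
  have hcfix : ∀ u u' : A, u ∈ U → u' ∈ U → u ≠ 1 → u' ≠ 1 → i * u = u * i → i * u' = u' * i → u = u' :=
    fun u u' hu hu' h1 h1' hiu hiu' => hcentral u u' (le_sup_left (a := Q) hu.1) (le_sup_left (a := Q) hu'.1)
      (orderOf_eq_prime (by rw [pow_two, hu.2.1]) h1) (orderOf_eq_prime (by rw [pow_two, hu'.2.1]) h1')
      (hUiP u hu hiu) (hUiP u' hu' hiu')
  have hiconj : ∀ u ∈ U, i * (u * (i * u * i)) = (u * (i * u * i)) * i := by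
    intro u hu
    have h2 : i * u * i ∈ U := by
      have := hUn i hiSp u hu
      rwa [hiinv] at this
    have h3 := hUcomm u hu _ h2
    calc i * (u * (i * u * i)) = (i * u * i) * u * i := by simp only [mul_assoc]
      _ = u * (i * u * i) * i := by rw [← h3]
  have hUne : U ≠ ⊥ := by
    have hQne : Nontrivial Q := by
      rw [← Finite.one_lt_card_iff_nontrivial]
      have : 8 ≤ 2 ^ n := by simpa using Nat.pow_le_pow_right (show 0 < 2 by norm_num) hn3
      omega
    obtain ⟨z, hz⟩ := exists_prime_orderOf_dvd_card' (G := Subgroup.center Q) 2 (by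
      have := hQ2.center_nontrivial
      obtain ⟨k, hk⟩ := IsPGroup.iff_card.1 (hQ2.to_subgroup (Subgroup.center Q))
      rw [hk]
      rcases k with _ | k
      · rw [pow_zero] at hk
        have := Finite.one_lt_card (α := Subgroup.center Q)
        omega
      · exact dvd_pow_self 2 k.succ_ne_zero)
    intro e
    have hzU : ((z : Q) : A) ∈ U := ⟨(z : Q).2, by
      have : z * z = 1 := by rw [← pow_two, ← hz]; exact pow_orderOf_eq_one z
      exact congrArg (fun y : Subgroup.center Q => ((y : Q) : A)) this,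
      fun q hq => congrArg Subtype.val (Subgroup.mem_center_iff.1 z.2 ⟨q, hq⟩)⟩
    rw [e, Subgroup.mem_bot] at hzU
    have : z = 1 := Subtype.ext (Subtype.ext hzU)
    rw [this, orderOf_one] at hz
    omega
  have hiconjmem : ∀ u ∈ U, u * (i * u * i) ∈ U := fun u hu => U.mul_mem hu (by
    have := hUn i hiSp u hu
    rwa [hiinv] at this)
  have hU4 : Nat.card U ≤ 4 := by
    let θ : U →* U :=
      { toFun := fun u => ⟨u * (i * u * i), hiconjmem u u.2⟩
        map_one' := Subtype.ext (by simp [hii])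
        map_mul' := fun u v => Subtype.ext (by
          show (u : A) * v * (i * ((u : A) * v) * i) = u * (i * u * i) * (v * (i * v * i))
          have h2 : i * u * i ∈ U := by
            have := hUn i hiSp u u.2
            rwa [hiinv] at this
          have h3 := hUcomm v v.2 _ h2
          rw [show i * ((u : A) * v) * i = i * u * i * (i * v * i) by
            simp only [mul_assoc, ← mul_assoc i i, hii, one_mul]]
          rw [mul_assoc (u : A) v, ← mul_assoc (v : A), h3]
          simp only [mul_assoc]) }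
    let Fix := {u : U // i * (u : A) = u * i}
    have hFix : Nat.card Fix ≤ 2 := by
      by_cases he : ∀ u : Fix, u.1 = 1
      · have : Subsingleton Fix := ⟨fun a b => Subtype.ext ((he a).trans (he b).symm)⟩
        exact (Finite.card_le_one_iff_subsingleton.2 this).trans one_le_two
      · obtain ⟨z, hz⟩ : ∃ z : Fix, z.1 ≠ 1 := by
          by_contra h'; exact he fun u => by_contra fun hu => h' ⟨u, hu⟩
        let g : Fix → Fin 2 := fun u => if u.1 = 1 then 0 else 1
        have hg : Function.Injective g := by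
          intro a b hab
          by_cases ha : a.1 = 1 <;> by_cases hb : b.1 = 1 <;> simp [g, ha, hb] at hab
          · exact Subtype.ext (ha.trans hb.symm)
          · exact Subtype.ext (Subtype.ext (hcfix _ _ a.1.2 b.1.2
              (fun e => ha (Subtype.ext e)) (fun e => hb (Subtype.ext e)) a.2 b.2))
        exact (Nat.card_le_card_of_injective g hg).trans (by simp)
    have h1 : Nat.card θ.ker ≤ 2 := by
      refine le_trans (Nat.card_le_card_of_injective (fun u : θ.ker => (⟨u.1, by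
        have h2 : (u.1 : A) * (i * u.1 * i) = 1 := congrArg Subtype.val (MonoidHom.mem_ker.1 u.2)
        have h3 : i * (u.1 : A) * i = u.1 := by
          rw [← inv_eq_of_mul_eq_one_right h2, inv_eq_of_mul_eq_one_right u.1.2.2.1]
        calc i * (u.1 : A) = i * u.1 * (i * i) := by rw [hii, mul_one]
          _ = (u.1 : A) * i := by rw [← mul_assoc, h3]⟩ : Fix)) ?_) hFix
      intro a b e
      exact Subtype.ext (congrArg (fun x : Fix => x.1) e)
    have h2 : Nat.card θ.range ≤ 2 := by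
      refine le_trans (Nat.card_le_card_of_injective (fun u : θ.range => (⟨u.1, by
        obtain ⟨v, hv⟩ := u.2
        rw [← hv]
        exact hiconj v v.2⟩ : Fix)) ?_) hFix
      intro a b e
      exact Subtype.ext (congrArg (fun x : Fix => x.1) e)
    calc Nat.card U = Nat.card θ.ker * θ.ker.index := (Subgroup.card_mul_index _).symm
      _ ≤ 2 * 2 := Nat.mul_le_mul h1 (by rw [Subgroup.index_ker]; exact h2)
  -- the orbit of `f`
  obtain ⟨u0, hu0, hu01⟩ := (Subgroup.bot_or_exists_ne_one U).resolve_left hUne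
  have hfix1 : ∀ u ∈ U, f * u = u * f → u = 1 := by
    intro u hu hc
    by_contra hu1
    have := h.centralizes hf hf1 hc.symm
    have h2 := D.stab_odd u this.1
    rw [orderOf_eq_prime (by rw [pow_two, hu.2.1]) hu1] at h2
    exact absurd h2 (by decide)
  have hn_eq : n = 3 := by
    have hinj : Function.Injective (fun k : Fin n => ((⟨⟨f ^ k.1 * u0 * (f ^ k.1)⁻¹,
        hUn _ (Sp.pow_mem hfSp _) u0 hu0⟩, fun e => hu01 (conj_eq_one_iff.1 (congrArg Subtype.val e))⟩) :
        {u : U // u ≠ 1})) := by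
      intro a b hab
      have h2 : f ^ a.1 * u0 * (f ^ a.1)⁻¹ = f ^ b.1 * u0 * (f ^ b.1)⁻¹ :=
        congrArg (fun x : {u : U // u ≠ 1} => (x.1 : A)) hab
      by_contra hne
      set φ := (f ^ b.1)⁻¹ * f ^ a.1 with hφ
      have hφF : φ ∈ D.pairStab p := (D.pairStab p).mul_mem ((D.pairStab p).inv_mem ((D.pairStab p).pow_mem hf _)) ((D.pairStab p).pow_mem hf _)
      have hφ1 : φ ≠ 1 := fun e => hne (Fin.ext (by
        have h3 := inv_mul_eq_one.1 e
        exact (pow_injOn_Iio_orderOf (by rw [Set.mem_Iio, hordf]; exact b.2)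
          (by rw [Set.mem_Iio, hordf]; exact a.2) h3).symm))
      have hcc : u0 * φ = φ * u0 := by
        have h3 : φ * u0 * φ⁻¹ = u0 := by
          rw [hφ, show (f ^ b.1)⁻¹ * f ^ a.1 * u0 * ((f ^ b.1)⁻¹ * f ^ a.1)⁻¹ =
            (f ^ b.1)⁻¹ * (f ^ a.1 * u0 * (f ^ a.1)⁻¹) * f ^ b.1 by group, h2]
          group
        exact (mul_inv_eq_iff_eq_mul.1 h3).symm
      have := h.centralizes hφF hφ1 hcc
      have h4 := D.stab_odd u0 this.1
      rw [orderOf_eq_prime (by rw [pow_two, hu0.2.1]) hu01] at h4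
      exact absurd h4 (by decide)
    have h1 := Nat.card_le_card_of_injective _ hinj
    have h2 : Nat.card {u : U // u ≠ 1} + 1 = Nat.card U := by
      rw [Nat.card_congr ((Equiv.sumCompl (fun v : U => v = 1)).symm), Nat.card_sum]
      simp [add_comm]
    rw [Nat.card_fin] at h1
    omega
  -- a generating pair of `P₀`
  have hPair : ∃ a ∈ P0, ∃ b ∈ P0, orderOf a = 2 ∧ orderOf b = 2 ∧ Subgroup.closure {a, b} = P0 ∧ (a * b) ^ 4 = 1 := by
    obtain ⟨u, hu, hui⟩ : ∃ u ∈ U, i * u ≠ u * i := by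
      by_contra hcon
      have hall : ∀ u ∈ U, i * u = u * i := fun u hu => by_contra fun e => hcon ⟨u, hu, e⟩
      have h2 := hUn f hfSp u0 hu0
      have h3 := hcfix u0 _ hu0 h2 hu01 (fun e => hu01 (conj_eq_one_iff.1 e)) (hall _ hu0) (hall _ h2)
      exact hu01 (hfix1 u0 hu0 (mul_inv_eq_iff_eq_mul.1 h3.symm))
    have hu1 : u ≠ 1 := fun e => hui (by rw [e]; simp)
    have huP : u ∈ P0 := le_sup_left (a := Q) hu.1
    have hiP : i ∈ P0 := le_sup_right (a := Q) (Subgroup.mem_zpowers i)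
    refine ⟨i, hiP, u, huP, h.involution, orderOf_eq_prime (by rw [pow_two, hu.2.1]) hu1, ?_, ?_⟩
    · refine Subgroup.eq_of_le_of_card_ge (by rw [Subgroup.closure_le]; rintro _ (rfl | rfl); exacts [hiP, huP]) ?_
      rw [hP0card, hn_eq]
      set Hc := Subgroup.closure ({i, u} : Set A)
      have hiH : i ∈ Hc := Subgroup.subset_closure (Or.inl rfl)
      have huH : u ∈ Hc := Subgroup.subset_closure (Or.inr rfl)
      let e : Fin 5 → Hc := ![⟨1, Hc.one_mem⟩, ⟨u, huH⟩, ⟨i * u * i, Hc.mul_mem (Hc.mul_mem hiH huH) hiH⟩,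
        ⟨u * (i * u * i), Hc.mul_mem huH (Hc.mul_mem (Hc.mul_mem hiH huH) hiH)⟩, ⟨i, hiH⟩]
      have hiU : i ∉ U := fun e => hiQ e.1
      have h2 : i * u * i ∈ U := by
        have := hUn i hiSp u hu
        rwa [hiinv] at this
      have hne1 : i * u * i ≠ 1 := fun e => hu1 (by
        have := congrArg (fun x => i * x * i) e
        simp only [mul_one, hii] at this
        simpa [mul_assoc, hii, ← mul_assoc i i] using this)
      have hne2 : u ≠ i * u * i := fun e => hui (by
        nth_rw 2 [e]; rw [mul_assoc, hii, mul_one])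
      have hne3 : u * (i * u * i) ≠ 1 := fun e => hne2 (by
        rw [← inv_eq_of_mul_eq_one_right e, inv_eq_of_mul_eq_one_right hu.2.1])
      have he : Function.Injective e := by
        intro a b hab
        have hab' := congrArg Subtype.val hab
        fin_cases a <;> fin_cases b <;> simp [e] at hab' ⊢
        all_goals first
          | exact hu1 hab' | exact hu1 hab'.symm | exact hne1 hab' | exact hne1 hab'.symm
          | exact hne2 hab' | exact hne2 hab'.symm | exact hne3 hab' | exact hne3 hab'.symm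
          | exact hiU (hab' ▸ hu) | exact hiU (hab'.symm ▸ hu) | exact hiU (hab' ▸ h2) | exact hiU (hab'.symm ▸ h2)
          | exact hiU (hab' ▸ U.mul_mem hu h2) | exact hiU (hab'.symm ▸ U.mul_mem hu h2)
          | exact hiU (hab' ▸ U.one_mem) | exact hiU (hab'.symm ▸ U.one_mem)
          | exact hiU (inv_eq_of_mul_eq_one_right hab' ▸ hu |> fun hh => by rwa [hiinv] at hh)
          | exact hiU (by have hh := hu; rw [← inv_eq_of_mul_eq_one_right hab', hiinv] at hh; exact hh)
      have h5 : 5 ≤ Nat.card Hc := by simpa using Nat.card_le_card_of_injective e he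
      have hdvd : Nat.card Hc ∣ 2 ^ 3 := by
        rw [← hn_eq, ← hP0card]
        refine Subgroup.card_dvd_of_le ?_
        rw [Subgroup.closure_le]; rintro _ (rfl | rfl); exacts [hiP, huP]
      have h8 : Nat.card Hc ≤ 8 := Nat.le_of_dvd (by norm_num) hdvd
      interval_cases (Nat.card Hc) <;> omega
    · have h2 : i * u * i ∈ U := by
        have := hUn i hiSp u hu
        rwa [hiinv] at this
      have h3 := U.mul_mem h2 hu
      calc (i * u) ^ 4 = ((i * u * i) * u) * ((i * u * i) * u) := by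
            simp only [pow_succ, pow_zero, one_mul, mul_assoc]
        _ = 1 := h3.2.1
  refine ⟨by rw [h.card_V, hn_eq]; norm_num, fun P hP hPc => ?_⟩
  obtain ⟨a, ha, b, hb, hao, hbo, hcl, h4⟩ := hPair
  rw [h.card_V] at hPc
  have hnd : ∀ B : Subgroup A, Nat.card B = 2 ^ n → ¬ 2 ∣ B.index := by
    intro B hB hd
    have h1 := B.card_mul_index
    rw [hB, hA] at h1
    rw [mul_left_cancel₀ (pow_ne_zero n two_ne_zero) h1, hn_eq] at hd
    norm_num at hd
  obtain ⟨c, hc⟩ := MulAction.exists_smul_eq A (hP02.toSylow (hnd _ hP0card)) (hP.toSylow (hnd _ hPc))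
  have hmap : P0.map (MulAut.conj c).toMonoidHom = P := congrArg Sylow.toSubgroup hc
  refine ⟨c * a * c⁻¹, hmap ▸ ⟨a, ha, rfl⟩, c * b * c⁻¹, hmap ▸ ⟨b, hb, rfl⟩,
    by rw [orderOf_conj, hao], by rw [orderOf_conj, hbo], ?_, ?_⟩
  · rw [← hmap, ← hcl, MonoidHom.map_closure]
    simp [Set.image_pair]
  · rw [conj_mul, conj_pow, h4, mul_one, mul_inv_cancel]

end AffData

end CfsgLib.Core.TwoTimesPSL
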