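import Cfsg.Agent.Lib.Core.TwoTimesPSL.AffineInverted
import Cfsg.Agent.Lib.TwoGroups.TransferControlled

/-!
# Transitive affine groups with odd stabiliser containing a regular cyclic subgroup

`AffData.dichotomy`: either every involution is a translation, or `|V| = 8` and the Sylow
`2`-subgroups are dihedral of order `8`.
-/

set_option autoImplicit false
set_option linter.unusedSectionVars false

namespace CfsgLib.Core.TwoTimesPSL

universe u v

namespace AffData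

variable {A : Type u} {T : Type v} [Group A] [CommGroup T] (D : AffData A T) [Finite A] [Finite T]

include D

/-- Restriction to a subgroup containing `w` and all involutions. -/
def restrict (B : Subgroup A) (hw : D.w ∈ B) (hinv : ∀ j : A, orderOf j = 2 → j ∈ B) (hV : D.V ≠ ⊥) :
    AffData B T where
  ρ := D.ρ.comp B.subtype
  faithful := D.faithful.comp B.subtype_injective
  V := D.V
  t := D.t
  w := ⟨D.w, hw⟩
  two := D.two
  not_mem := D.not_mem
  dec := D.dec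
  inv := fun a v hv => D.inv a v hv
  trans := fun v hv => by
    rcases eq_or_ne v 1 with rfl | hv1
    · exact ⟨1, by simp⟩
    · obtain ⟨i, hi, hid⟩ := D.exists_involution_disp hV hv hv1
      exact ⟨⟨i, hinv i hi⟩, by rw [← hid]; exact D.rho_t i⟩
  stab_odd := fun a ha => by
    rw [← Subgroup.orderOf_coe]
    exact D.stab_odd a ha
  w_fix := D.w_fix
  w_trans := fun a ha ha1 b hb hb1 => by
    obtain ⟨k, hk⟩ := D.w_trans a ha ha1 b hb hb1
    exact ⟨k, by simpa using hk⟩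
  w_normal := fun a ha => by
    obtain ⟨k, hk⟩ := D.w_normal a ha
    exact ⟨k, Subtype.ext (by simpa using hk)⟩

/-- The dichotomy. -/
theorem dichotomy (hV : D.V ≠ ⊥) :
    (∀ i : A, orderOf i = 2 → D.IsTranslation i) ∨
      (Nat.card D.V = 8 ∧ ∀ P : Subgroup A, IsPGroup 2 P → Nat.card P = Nat.card D.V →
        ∃ a ∈ P, ∃ b ∈ P, orderOf a = 2 ∧ orderOf b = 2 ∧ Subgroup.closure {a, b} = P ∧
          (a * b) ^ 4 = 1) := by
  classical
  by_cases hT : ∃ j : A, orderOf j = 2 ∧ D.IsTranslation j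
  · obtain ⟨j, hj, hjt⟩ := hT
    exact Or.inl fun i hi => D.translation_of_one hj hjt hi
  refine Or.inr ?_
  have hNT : ∀ j : A, orderOf j = 2 → ¬ D.IsTranslation j := fun j hj h => hT ⟨j, hj, h⟩
  have : Fact (Nat.Prime 2) := ⟨Nat.prime_two⟩
  obtain ⟨n, hn⟩ := D.exists_card_V
  obtain ⟨i, hi⟩ := D.exists_involution hV
  have hp := D.disp_mem i
  have hp1 := D.involution_disp_ne hi
  set p := D.disp i with hpdef
  have hip : D.ρ i p = p := D.involution_fix_disp hi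
  have hii : i * i = 1 := by rw [← pow_two, ← hi]; exact pow_orderOf_eq_one i
  have hiinv : i⁻¹ = i := inv_eq_of_mul_eq_one_right hii
  -- conjugation by `i` on the two-point stabiliser
  have hswap : ∀ f ∈ D.pairStab p, i * f * i⁻¹ ∈ D.pairStab p := by
    intro f hf
    have hit : D.ρ i D.t = D.t * p := D.rho_t i
    refine ⟨?_, ?_⟩
    · show D.ρ _ D.t = D.t
      rw [hiinv, rho_mul, rho_mul, hit, map_mul, D.mem_stabT.1 hf.1, D.mem_fixV.1 hf.2, map_mul, hit,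
        hip, mul_assoc, D.two, mul_one]
    · show D.ρ _ p = p
      rw [hiinv, rho_mul, rho_mul, hip, D.mem_fixV.1 hf.2, hip]
  let _ : CommGroup (D.pairStab p) :=
    { (inferInstance : Group (D.pairStab p)) with
      mul_comm := fun a b => Subtype.ext (D.pairStab_comm hp hp1 a.2 b.2) }
  -- the projection of `stab(t)` to the two-point stabiliser
  choose k f hf hkf using fun a : D.stabT => D.exists_pow_mul hp hp1 a.2
  let ν : D.stabT →* D.pairStab p :=
    { toFun := fun a => ⟨f a, hf a⟩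
      map_one' := Subtype.ext (D.pow_mul_inj hp hp1 (k := k 1) (l := 0) (hf 1) (one_mem _)
        (by rw [← hkf]; simp)).2
      map_mul' := fun a b => Subtype.ext (by
        obtain ⟨l, hl⟩ := D.conj_pow_w (hf a).1 (k b)
        refine (D.pow_mul_inj hp hp1 (k := k (a * b)) (l := k a + l) (hf _)
          ((D.pairStab p).mul_mem (hf a) (hf b)) ?_).2
        rw [← hkf, Subgroup.coe_mul, hkf a, hkf b, pow_add, ← hl]
        group) }
  have hνw : ∀ (m : ℕ) (hm : D.w ^ m ∈ D.stabT), ν ⟨D.w ^ m, hm⟩ = 1 := fun m hm =>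
    Subtype.ext (D.pow_mul_inj hp hp1 (k := k _) (l := m) (hf _) (one_mem _) (by rw [← hkf]; simp)).2
  have hνF : ∀ a : D.stabT, ∀ ha : (a : A) ∈ D.pairStab p, ν a = ⟨a, ha⟩ := fun a ha =>
    Subtype.ext (D.pow_mul_inj hp hp1 (k := k a) (l := 0) (hf a) ha (by rw [← hkf]; simp)).2
  let θ : D.pairStab p →* D.pairStab p :=
    { toFun := fun g => g * ⟨i * g * i⁻¹, hswap g g.2⟩
      map_one' := Subtype.ext (by simp)
      map_mul' := fun g g' => by
        rw [show (⟨i * (g * g' : D.pairStab p) * i⁻¹, hswap _ (g * g').2⟩ : D.pairStab p) =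
          ⟨i * g * i⁻¹, hswap g g.2⟩ * ⟨i * g' * i⁻¹, hswap g' g'.2⟩ from Subtype.ext (by simp [mul_assoc])]
        exact mul_mul_mul_comm g g' _ _ }
  -- conjugates in the stabiliser have the same image
  have hwt : ∀ m, D.w ^ m ∈ D.stabT := fun m => D.stabT.pow_mem D.w_mem_stabT m
  have hνconj : ∀ (m : ℕ) (y : D.stabT),
      ν ⟨D.w ^ m * y * (D.w ^ m)⁻¹, D.stabT.mul_mem (D.stabT.mul_mem (hwt m) y.2) (D.stabT.inv_mem (hwt m))⟩ = ν y := by
    intro m y
    rw [show (⟨D.w ^ m * y * (D.w ^ m)⁻¹, D.stabT.mul_mem (D.stabT.mul_mem (hwt m) y.2) (D.stabT.inv_mem (hwt m))⟩ : D.stabT) =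
      (⟨D.w ^ m, hwt m⟩ : D.stabT) * y * (⟨D.w ^ m, hwt m⟩ : D.stabT)⁻¹ from rfl, map_mul, map_mul,
      map_inv, hνw, one_mul, inv_one, mul_one]
  have hcontrol : ∀ (a : A) (y : D.stabT) (hy : a * y * a⁻¹ ∈ D.stabT),
      θ (ν ⟨a * y * a⁻¹, hy⟩) = θ (ν y) := by
    intro a y hy
    by_cases ha : a ∈ D.stabT
    · rw [show (⟨a * y * a⁻¹, hy⟩ : D.stabT) = (⟨a, ha⟩ : D.stabT) * y * (⟨a, ha⟩ : D.stabT)⁻¹ from rfl,
        ]
      simp only [map_mul, map_inv]
      rw [mul_comm (θ (ν ⟨a, ha⟩)) _, mul_inv_cancel_right]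
    have hu : D.disp a⁻¹ ≠ 1 := fun e => ha (by
      have := D.stabT.inv_mem ((D.disp_eq_one_iff _).1 e : a⁻¹ ∈ D.stabT)
      rwa [inv_inv] at this)
    have hu' : D.disp a ≠ 1 := fun e => ha ((D.disp_eq_one_iff _).1 e)
    obtain ⟨m, hm⟩ := D.w_trans _ (D.disp_mem a⁻¹) hu p hp hp1
    obtain ⟨l, hl⟩ := D.w_trans _ (D.disp_mem a) hu' p hp hp1
    set b := D.w ^ l * a * (D.w ^ m)⁻¹ with hb
    have hbp : D.ρ b p = p ∧ D.ρ b D.t = D.t * p := by
      have h1 : D.ρ (D.w ^ m)⁻¹ D.t = D.t := D.mem_stabT.1 (D.stabT.inv_mem (hwt m))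
      have h2 : D.ρ b D.t = D.t * p := by
        rw [hb, rho_mul, rho_mul, h1, rho_t, map_mul, D.pow_w_fix, hl]
      refine ⟨?_, h2⟩
      have h3 : D.ρ (D.w ^ m)⁻¹ p = D.disp a⁻¹ := by rw [← hm, rho_inv_apply]
      have h4 : D.ρ a (D.disp a⁻¹) = D.disp a := by
        have h5 := D.disp_mul a a⁻¹
        rw [mul_inv_cancel, (D.disp_eq_one_iff 1).2 (by simp)] at h5
        rw [← eq_inv_of_mul_eq_one_right h5.symm |>.symm, D.inv_eq_self] at *
      rw [hb, rho_mul, rho_mul, h3, h4, hl]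
    have hy1 : D.ρ y.1 (D.disp a⁻¹) = D.disp a⁻¹ := by
      have h5 : D.ρ y.1 (D.ρ a⁻¹ D.t) = D.ρ a⁻¹ D.t := by
        apply (D.ρ a).injective
        rw [rho_apply_inv, ← rho_mul, ← rho_mul]
        exact D.mem_stabT.1 hy
      rwa [rho_t, map_mul, D.mem_stabT.1 y.2, mul_right_inj] at h5
    have hy2 : D.ρ (a * y * a⁻¹) (D.disp a) = D.disp a := by
      have h5 : D.ρ (a * y * a⁻¹) (D.ρ a D.t) = D.ρ a D.t := by
        rw [← rho_mul, inv_mul_cancel_right, rho_mul, D.mem_stabT.1 y.2]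
      rwa [rho_t, map_mul, D.mem_stabT.1 hy, mul_right_inj] at h5
    have hy1F : D.w ^ m * y * (D.w ^ m)⁻¹ ∈ D.pairStab p :=
      ⟨D.stabT.mul_mem (D.stabT.mul_mem (hwt m) y.2) (D.stabT.inv_mem (hwt m)), by
        show D.ρ _ p = p
        rw [rho_mul, rho_mul, ← hm, rho_inv_apply, hy1]⟩
    have hy2F : D.w ^ l * (a * y * a⁻¹) * (D.w ^ l)⁻¹ ∈ D.pairStab p :=
      ⟨D.stabT.mul_mem (D.stabT.mul_mem (hwt l) hy) (D.stabT.inv_mem (hwt l)), by
        show D.ρ _ p = p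
        rw [rho_mul, rho_mul, ← hl, rho_inv_apply, hy2]⟩
    have hib : i * b ∈ D.pairStab p := ⟨(D.disp_eq_one_iff _).1 (by
        have : D.disp b = p := by rw [disp, hbp.2, D.mul_mul_cancel]
        rw [disp_mul, this, hip, D.two]), by
        show D.ρ _ p = p
        rw [rho_mul, hbp.1, hip]⟩
    rw [show ν y = ⟨_, hy1F⟩ from (hνconj m y).symm.trans (hνF _ hy1F),
      show ν ⟨a * y * a⁻¹, hy⟩ = ⟨_, hy2F⟩ from (hνconj l ⟨a * y * a⁻¹, hy⟩).symm.trans (hνF _ hy2F)]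
    set y1 : D.pairStab p := ⟨_, hy1F⟩
    have h6 : (⟨D.w ^ l * (a * y * a⁻¹) * (D.w ^ l)⁻¹, hy2F⟩ : D.pairStab p) = ⟨i * y1 * i⁻¹, hswap _ y1.2⟩ := by
      refine Subtype.ext ?_
      show D.w ^ l * (a * y * a⁻¹) * (D.w ^ l)⁻¹ = i * (D.w ^ m * y * (D.w ^ m)⁻¹) * i⁻¹
      have h7 : (i * b) * (D.w ^ m * y * (D.w ^ m)⁻¹) * (i * b)⁻¹ = D.w ^ m * y * (D.w ^ m)⁻¹ := by
        rw [D.pairStab_comm hp hp1 hib hy1F, mul_inv_cancel_right]
      calc D.w ^ l * (a * y * a⁻¹) * (D.w ^ l)⁻¹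
          = i⁻¹ * ((i * b) * (D.w ^ m * y * (D.w ^ m)⁻¹) * (i * b)⁻¹) * i := by rw [hb]; group
        _ = i * (D.w ^ m * y * (D.w ^ m)⁻¹) * i⁻¹ := by rw [h7, hiinv]
    rw [h6]
    show (⟨i * (y1 : A) * i⁻¹, hswap _ y1.2⟩ : D.pairStab p) * ⟨i * (i * (y1 : A) * i⁻¹) * i⁻¹, hswap _ (hswap _ y1.2)⟩ =
      y1 * ⟨i * (y1 : A) * i⁻¹, hswap _ y1.2⟩
    rw [mul_comm y1]
    congr 1
    refine Subtype.ext ?_
    show i * (i * (y1 : A) * i⁻¹) * i⁻¹ = y1
    rw [hiinv]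
    simp only [mul_assoc, hii, mul_one]
    rw [← mul_assoc, hii, one_mul]
  let τ : A →* D.pairStab p := MonoidHom.transfer (θ.comp ν)
  have hτ : ∀ y : D.stabT, τ y = θ (ν y) ^ Nat.card D.V := by
    intro y
    have h1 := CfsgLib.TwoGroups.transfer_eq_pow_of_controlled (θ.comp ν) y.2 (fun m a hm => by
      rw [← map_pow]
      exact hcontrol a (y ^ m) hm)
    have h2 := D.stabT.card_mul_index
    rw [show Nat.card A = Nat.card D.V * Nat.card D.stabT from D.card_eq, mul_comm (Nat.card D.V)] at h2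
    rw [mul_left_cancel₀ Nat.card_pos.ne' h2] at h1
    exact h1
  have hodd : ∀ g : D.pairStab p, Odd (orderOf g) := fun g => by
    rw [← Subgroup.orderOf_coe]; exact D.stab_odd g g.2.1
  have hkill : ∀ (a : A) (m : ℕ), a ^ 2 ^ m = 1 → a ∈ τ.ker := by
    intro a m ham
    have h1 : orderOf (τ a) ∣ 2 ^ m := orderOf_dvd_of_pow_eq_one (by rw [← map_pow, ham, map_one])
    exact orderOf_eq_one_iff.1 (Nat.Coprime.eq_one_of_dvd ((Nat.coprime_two_right.2 (hodd _)).pow_right m) h1)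
  have hinvK : ∀ j : A, orderOf j = 2 → j ∈ τ.ker := fun j hj =>
    hkill j 1 (by rw [pow_one, ← hj]; exact pow_orderOf_eq_one j)
  have hwK : D.w ∈ τ.ker := by
    have h1 := hτ ⟨D.w, D.w_mem_stabT⟩
    have h2 : (⟨D.w, D.w_mem_stabT⟩ : D.stabT) = ⟨D.w ^ 1, hwt 1⟩ := Subtype.ext (pow_one _).symm
    rw [h2, hνw, map_one, one_pow] at h1
    simpa using h1
  let D1 := D.restrict τ.ker hwK hinvK hV
  have hI : D1.Inverted ⟨i, hinvK i hi⟩ n := by
    refine ⟨hn, fun j hj h => hNT j.1 (by rw [Subgroup.orderOf_coe, hj]) (fun v hv => h v hv),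
      by rw [← Subgroup.orderOf_coe]; exact hi, fun g hg => ?_⟩
    have hg' : (g : A) ∈ D.pairStab p := ⟨hg.1, hg.2⟩
    have h1 := hτ ⟨g, hg'.1⟩
    rw [hνF _ hg'] at h1
    have h2 : τ (g : A) = 1 := g.2
    rw [h2] at h1
    have h3 : θ ⟨g, hg'⟩ = 1 := by
      have h4 : orderOf (θ ⟨g, hg'⟩) ∣ 2 ^ n := orderOf_dvd_of_pow_eq_one (by rw [← hn]; exact h1.symm)
      exact orderOf_eq_one_iff.1 (Nat.Coprime.eq_one_of_dvd ((Nat.coprime_two_right.2 (hodd _)).pow_right n) h4)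
    refine Subtype.ext ?_
    have h5 : (g : A) * (i * g * i⁻¹) = 1 := congrArg Subtype.val h3
    exact (inv_eq_of_mul_eq_one_right h5).symm
  obtain ⟨h8, hsyl⟩ := hI.main
  refine ⟨h8, fun P hP hPc => ?_⟩
  have hPle : P ≤ τ.ker := fun x hx => by
    obtain ⟨m, hm⟩ := hP ⟨x, hx⟩
    exact hkill x m (by simpa using congrArg Subtype.val hm)
  obtain ⟨a, ha, b, hb, hao, hbo, hcl, h4⟩ := hsyl (P.subgroupOf τ.ker) hP.comap_subtype (by
    rw [Nat.card_congr (Subgroup.subgroupOfEquivOfLe hPle).toEquiv]; exact hPc)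
  refine ⟨a, ha, b, hb, by rw [Subgroup.orderOf_coe, hao], by rw [Subgroup.orderOf_coe, hbo], ?_, by
    simpa using congrArg Subtype.val h4⟩
  have h9 := congrArg (Subgroup.map τ.ker.subtype) hcl
  rw [MonoidHom.map_closure, Subgroup.map_subgroupOf_eq_of_le hPle, Set.image_pair] at h9
  exact h9

end AffData

end CfsgLib.Core.TwoTimesPSL
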