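import Mathlib

/-!
# The field of a regular cyclic automorphism group

An automorphism `w` of an elementary abelian `2`-group `V` of order `2 ^ n` whose powers are
transitive on `V ∖ 1` makes `V` the additive group of a field of order `2 ^ n`; automorphisms fixing
a base point and normalising `⟨w⟩` act as field automorphisms.

* `normalizer_data`: a group of such automorphisms is cyclic of order dividing `n`, and one fixing
  only `1` and the base point has order `n`
* `irreducible_of_prime`: for prime `n` each non-trivial power of `w` is irreducible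
-/

set_option autoImplicit false

namespace CfsgLib.Core.TwoTimesPSL

universe u v

variable {V : Type v} [CommGroup V] [Finite V]

/-- The endomorphism of the additive group given by an automorphism. -/
def endOf (f : MulAut V) : AddMonoid.End (Additive V) :=
  MonoidHom.toAdditive f.toMonoidHom

omit [Finite V] in
theorem endOf_apply (f : MulAut V) (x : Additive V) : endOf f x = Additive.ofMul (f x.toMul) := rfl

omit [Finite V] in
theorem endOf_mul (f g : MulAut V) : endOf (f * g) = endOf f * endOf g := rfl

omit [Finite V] in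
theorem endOf_one : endOf (1 : MulAut V) = 1 := rfl

/-- The centraliser of `w` in the endomorphism ring. -/
def SingerRing (w : MulAut V) : Subring (AddMonoid.End (Additive V)) :=
  Subring.centralizer {endOf w}

variable {w : MulAut V}

omit [Finite V] in
theorem endOf_pow (f : MulAut V) (k : ℕ) : endOf (f ^ k) = endOf f ^ k := by
  induction k with
  | zero => rfl
  | succ k ih => rw [pow_succ, pow_succ, endOf_mul, ih]

omit [Finite V] in
theorem pow_mem_singerRing (k : ℕ) : endOf (w ^ k) ∈ SingerRing w := by
  rw [SingerRing, Subring.mem_centralizer_iff]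
  rintro g rfl
  rw [endOf_pow, ← pow_succ, ← pow_succ']

omit [Finite V] in
theorem singerRing_comm_pow {c : AddMonoid.End (Additive V)} (hc : c ∈ SingerRing w) (k : ℕ) :
    c * endOf (w ^ k) = endOf (w ^ k) * c := by
  have h : endOf w * c = c * endOf w := Subring.mem_centralizer_iff.1 hc _ rfl
  rw [endOf_pow]
  exact (Commute.symm (show Commute (endOf w) c from h)).pow_right k

variable (w) in
/-- Evaluation at the base point. -/
def evalAt (p : V) (c : SingerRing w) : Additive V :=
  (c : AddMonoid.End (Additive V)) (Additive.ofMul p)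

section transitive

variable {p : V} (hp : p ≠ 1) (hw : ∀ x : V, x ≠ 1 → ∀ y : V, y ≠ 1 → ∃ k : ℕ, (w ^ k) x = y)

omit [Finite V] in
include hp hw in
theorem evalAt_bijective : Function.Bijective (evalAt w p) := by
  constructor
  · rintro ⟨c, hc⟩ ⟨d, hd⟩ h
    apply Subtype.ext
    refine AddMonoidHom.ext fun x => ?_
    by_cases hx : x.toMul = 1
    · have : x = 0 := by rw [← ofMul_toMul x, hx]; rfl
      rw [this]
      exact (c.map_zero).trans (d.map_zero).symm
    · obtain ⟨k, hk⟩ := hw p hp _ hx
      have hxk : x = endOf (w ^ k) (Additive.ofMul p) := by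
        rw [endOf_apply, toMul_ofMul, hk, ofMul_toMul]
      rw [hxk]
      show (c * endOf (w ^ k)) (Additive.ofMul p) = (d * endOf (w ^ k)) (Additive.ofMul p)
      rw [singerRing_comm_pow hc, singerRing_comm_pow hd]
      exact congrArg (endOf (w ^ k)) h
  · intro x
    by_cases hx : x.toMul = 1
    · exact ⟨0, by rw [← ofMul_toMul x, hx]; rfl⟩
    · obtain ⟨k, hk⟩ := hw p hp _ hx
      refine ⟨⟨endOf (w ^ k), pow_mem_singerRing k⟩, ?_⟩
      show endOf (w ^ k) (Additive.ofMul p) = x
      rw [endOf_apply, toMul_ofMul, hk, ofMul_toMul]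

omit [Finite V] in
include hp hw in
theorem eq_pow_of_ne_zero (c : SingerRing w) (hc : c ≠ 0) :
    ∃ k : ℕ, c = ⟨endOf (w ^ k), pow_mem_singerRing k⟩ := by
  have hx : (evalAt w p c).toMul ≠ 1 := by
    intro h
    refine hc ((evalAt_bijective hp hw).1 ?_)
    rw [← ofMul_toMul (evalAt w p c), h]
    rfl
  obtain ⟨k, hk⟩ := hw p hp _ hx
  refine ⟨k, (evalAt_bijective hp hw).1 ?_⟩
  show _ = endOf (w ^ k) (Additive.ofMul p)
  rw [endOf_apply, toMul_ofMul, hk, ofMul_toMul]

include hp hw in
/-- The centraliser of `w` is a field. -/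
theorem isField : IsField (SingerRing w) := by
  classical
  have hbij := evalAt_bijective hp hw
  have : Finite (SingerRing w) := Finite.of_injective _ hbij.1
  have hcomm : ∀ c d : SingerRing w, c * d = d * c := by
    intro c d
    by_cases hc : c = 0
    · simp [hc]
    · obtain ⟨k, rfl⟩ := eq_pow_of_ne_zero hp hw c hc
      exact Subtype.ext (singerRing_comm_pow d.2 k).symm
  have h01 : (0 : SingerRing w) ≠ 1 := by
    intro h
    have := congrArg (evalAt w p) h
    exact hp (congrArg Additive.toMul this).symm
  have : Nontrivial (SingerRing w) := ⟨0, 1, h01⟩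
  have : NoZeroDivisors (SingerRing w) := ⟨fun {c d} hcd => by
    by_cases hc : c = 0
    · exact Or.inl hc
    · obtain ⟨k, rfl⟩ := eq_pow_of_ne_zero hp hw c hc
      refine Or.inr (hbij.1 ?_)
      have h2 := congrArg (fun e : SingerRing w => (e : AddMonoid.End (Additive V)) (Additive.ofMul p)) hcd
      simp only [Subring.coe_mul, Subring.coe_zero] at h2
      change endOf (w ^ k) (evalAt w p d) = 0 at h2
      rw [endOf_apply] at h2
      have h3 : (evalAt w p d).toMul = 1 := by
        apply (w ^ k).injective
        rw [map_one]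
        exact congrArg Additive.toMul h2
      show evalAt w p d = 0
      rw [← ofMul_toMul (evalAt w p d), h3]
      rfl⟩
  have : IsDomain (SingerRing w) := NoZeroDivisors.to_isDomain _
  exact Finite.isDomain_to_isField _

/-- The field structure on the centraliser of `w`. -/
@[reducible] noncomputable def singerField : Field (SingerRing w) := (isField hp hw).toField

end transitive

omit [Finite V] in
theorem conj_mem_singerRing {f : MulAut V} (hf : ∃ k : ℕ, f⁻¹ * w * f = w ^ k)
    {c : AddMonoid.End (Additive V)} (hc : c ∈ SingerRing w) :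
    endOf f * c * endOf f⁻¹ ∈ SingerRing w := by
  obtain ⟨k, hk⟩ := hf
  rw [SingerRing, Subring.mem_centralizer_iff]
  rintro g rfl
  have h1 : endOf w * endOf f = endOf f * endOf (w ^ k) := by
    rw [← endOf_mul, ← endOf_mul, ← hk]; congr 1; group
  have h2 : endOf (w ^ k) * endOf f⁻¹ = endOf f⁻¹ * endOf w := by
    rw [← endOf_mul, ← endOf_mul, ← hk]; congr 1; group
  calc endOf w * (endOf f * c * endOf f⁻¹) = endOf f * (endOf (w ^ k) * c) * endOf f⁻¹ := by
        rw [← mul_assoc, ← mul_assoc, h1, mul_assoc (endOf f) (endOf (w ^ k)) c]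
    _ = endOf f * c * (endOf (w ^ k) * endOf f⁻¹) := by
        rw [← singerRing_comm_pow hc k]; simp only [mul_assoc]
    _ = endOf f * c * endOf f⁻¹ * endOf w := by rw [h2]; simp only [mul_assoc]

/-- The automorphism of the field induced by `f`. -/
def singerAut (f : MulAut V) (hf : ∃ k : ℕ, f⁻¹ * w * f = w ^ k)
    (hf' : ∃ k : ℕ, f * w * f⁻¹ = w ^ k) : SingerRing w ≃+* SingerRing w where
  toFun c := ⟨_, conj_mem_singerRing hf c.2⟩
  invFun c := ⟨endOf f⁻¹ * (c : AddMonoid.End (Additive V)) * endOf (f⁻¹)⁻¹,
    conj_mem_singerRing (by simpa using hf') c.2⟩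
  left_inv c := Subtype.ext <| by
    show endOf f⁻¹ * (endOf f * _ * endOf f⁻¹) * endOf (f⁻¹)⁻¹ = _
    simp only [inv_inv, ← mul_assoc, ← endOf_mul, inv_mul_cancel, endOf_one, one_mul]
    simp only [mul_assoc, ← endOf_mul, inv_mul_cancel, endOf_one, mul_one]
  right_inv c := Subtype.ext <| by
    show endOf f * (endOf f⁻¹ * _ * endOf (f⁻¹)⁻¹) * endOf f⁻¹ = _
    simp only [inv_inv, ← mul_assoc, ← endOf_mul, mul_inv_cancel, endOf_one, one_mul]
    simp only [mul_assoc, ← endOf_mul, mul_inv_cancel, endOf_one, mul_one]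
  map_mul' c d := Subtype.ext <| by
    show endOf f * ((c : AddMonoid.End (Additive V)) * d) * endOf f⁻¹ =
      (endOf f * c * endOf f⁻¹) * (endOf f * d * endOf f⁻¹)
    simp only [mul_assoc]
    rw [← mul_assoc (endOf f⁻¹) (endOf f), ← endOf_mul, inv_mul_cancel, endOf_one, one_mul]
  map_add' c d := Subtype.ext <| by
    show endOf f * ((c : AddMonoid.End (Additive V)) + d) * endOf f⁻¹ = _
    rw [mul_add, add_mul]
    rfl

omit [Finite V] in
theorem evalAt_singerAut {f : MulAut V} (hf : ∃ k : ℕ, f⁻¹ * w * f = w ^ k)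
    (hf' : ∃ k : ℕ, f * w * f⁻¹ = w ^ k) {p : V} (hfp : f p = p) (c : SingerRing w) :
    evalAt w p (singerAut f hf hf' c) = Additive.ofMul (f (evalAt w p c).toMul) := by
  show (endOf f * (c : AddMonoid.End (Additive V)) * endOf f⁻¹) (Additive.ofMul p) = _
  have h : f⁻¹ p = p := by nth_rw 1 [← hfp]; exact f.symm_apply_apply p
  show endOf f ((c : AddMonoid.End (Additive V)) (endOf f⁻¹ (Additive.ofMul p))) = _
  rw [endOf_apply f⁻¹, toMul_ofMul, h, endOf_apply]
  rfl

/-- Normalisers of `⟨w⟩` fixing the base point act as field automorphisms. -/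
theorem normalizer_data {Φ : Type u} [Group Φ] (χ : Φ →* MulAut V) (hχ : Function.Injective χ)
    {p : V} (hp : p ≠ 1) (hw : ∀ x : V, x ≠ 1 → ∀ y : V, y ≠ 1 → ∃ k : ℕ, (w ^ k) x = y)
    (h2 : ∀ x : V, x * x = 1) {n : ℕ} (hn : Nat.card V = 2 ^ n)
    (hfix : ∀ f : Φ, χ f p = p) (hnorm : ∀ f : Φ, ∃ k : ℕ, χ f * w * (χ f)⁻¹ = w ^ k) :
    IsCyclic Φ ∧ Nat.card Φ ∣ n ∧
      ∀ f : Φ, (∀ x : V, χ f x = x → x = 1 ∨ x = p) → orderOf f = n := by
  classical
  have hbij := evalAt_bijective hp hw
  let _ := singerField hp hw
  have hnorm' : ∀ f : Φ, ∃ k : ℕ, (χ f)⁻¹ * w * χ f = w ^ k := fun f => by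
    simpa using hnorm f⁻¹
  have : Finite (SingerRing w) := Finite.of_injective _ hbij.1
  have hchar : (2 : SingerRing w) = 0 := by
    apply hbij.1
    rw [← one_add_one_eq_two]
    show Additive.ofMul (p * p) = _
    rw [h2]
    rfl
  have : CharP (SingerRing w) 2 := CharTwo.of_one_ne_zero_of_two_eq_zero one_ne_zero hchar
  let _ : Algebra (ZMod 2) (SingerRing w) := ZMod.algebra _ 2
  have hcardK : Nat.card (SingerRing w) = 2 ^ n := by
    rw [Nat.card_eq_of_bijective _ hbij, ← hn]
    exact Nat.card_congr Additive.toMul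
  have hrank : Module.finrank (ZMod 2) (SingerRing w) = n := by
    have := Module.natCard_eq_pow_finrank (K := ZMod 2) (V := SingerRing w)
    rw [hcardK, Nat.card_zmod] at this
    exact (Nat.pow_right_injective le_rfl this).symm
  let ψ : Φ →* Gal((SingerRing w)/(ZMod 2)) :=
    { toFun := fun f => AlgEquiv.ofRingEquiv (f := singerAut (χ f) (hnorm' f) (hnorm f))
        (fun x => RingHom.congr_fun (Subsingleton.elim
          ((singerAut (χ f) (hnorm' f) (hnorm f)).toRingHom.comp (algebraMap (ZMod 2) _))
          (algebraMap (ZMod 2) (SingerRing w))) x)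
      map_one' := AlgEquiv.ext fun c => hbij.1 <| by
        show evalAt w p (singerAut _ (hnorm' 1) (hnorm 1) c) = _
        rw [evalAt_singerAut _ _ (hfix 1)]
        simp
      map_mul' := fun f g => AlgEquiv.ext fun c => hbij.1 <| by
        show evalAt w p (singerAut _ (hnorm' (f * g)) (hnorm (f * g)) c) =
          evalAt w p (singerAut _ (hnorm' f) (hnorm f) (singerAut _ (hnorm' g) (hnorm g) c))
        rw [evalAt_singerAut _ _ (hfix _), evalAt_singerAut _ _ (hfix f), evalAt_singerAut _ _ (hfix g)]
        simp }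
  have hψ : ∀ (f : Φ) (c : SingerRing w),
      evalAt w p (ψ f c) = Additive.ofMul (χ f (evalAt w p c).toMul) := fun f c =>
    evalAt_singerAut (hnorm' f) (hnorm f) (hfix f) c
  have hinj : Function.Injective ψ := by
    intro f g h
    refine hχ (MulEquiv.ext fun x => ?_)
    obtain ⟨c, hc⟩ := hbij.2 (Additive.ofMul x)
    have h2 := hψ f c
    rw [h, hψ g c, hc] at h2
    exact (Additive.ofMul.injective h2).symm
  have hgal : Nat.card Gal((SingerRing w)/(ZMod 2)) = n := by
    rw [IsGalois.card_aut_eq_finrank, hrank]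
  refine ⟨isCyclic_of_injective ψ hinj, hgal ▸ Subgroup.card_dvd_of_injective ψ hinj, fun f hf => ?_⟩
  have hbot : IntermediateField.fixedField (Subgroup.zpowers (ψ f)) = ⊥ := by
    rw [eq_bot_iff]
    intro c hc
    rw [IntermediateField.mem_fixedField_iff] at hc
    have h1 := hψ f c
    rw [hc _ (Subgroup.mem_zpowers _)] at h1
    rcases hf (evalAt w p c).toMul (Additive.ofMul.injective (h1.symm.trans (ofMul_toMul _).symm)) with h | h
    · have : c = 0 := hbij.1 (by rw [← ofMul_toMul (evalAt w p c), h]; rfl)
      rw [this]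
      exact zero_mem _
    · have : c = 1 := hbij.1 (by rw [← ofMul_toMul (evalAt w p c), h]; rfl)
      rw [this]
      exact one_mem _
  have htop : Subgroup.zpowers (ψ f) = ⊤ := by
    rw [← IntermediateField.fixingSubgroup_fixedField (Subgroup.zpowers (ψ f)), hbot,
      IntermediateField.fixingSubgroup_bot]
  rw [← orderOf_injective ψ hinj f, ← Nat.card_zpowers, htop, Subgroup.card_top, hgal]

/-- For prime `n` the non-trivial powers of `w` leave no proper subgroup invariant. -/
theorem irreducible_of_prime {p : V} (hp : p ≠ 1)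
    (hw : ∀ x : V, x ≠ 1 → ∀ y : V, y ≠ 1 → ∃ k : ℕ, (w ^ k) x = y)
    (h2 : ∀ x : V, x * x = 1) {n : ℕ} (hn : Nat.card V = 2 ^ n) (hprime : n.Prime) {k : ℕ}
    (hk : w ^ k ≠ 1) (Y : Subgroup V) (hY : ∀ y ∈ Y, (w ^ k) y ∈ Y) : Y = ⊥ ∨ Y = ⊤ := by
  classical
  refine (Subgroup.bot_or_exists_ne_one Y).imp_right fun ⟨y, hy, hy1⟩ => ?_
  have hbij := evalAt_bijective hp hw
  let _ := singerField hp hw
  have : Finite (SingerRing w) := Finite.of_injective _ hbij.1
  have hchar : (2 : SingerRing w) = 0 := by
    apply hbij.1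
    rw [← one_add_one_eq_two]
    show Additive.ofMul (p * p) = _
    rw [h2]
    rfl
  have : CharP (SingerRing w) 2 := CharTwo.of_one_ne_zero_of_two_eq_zero one_ne_zero hchar
  have hneg : ∀ c : SingerRing w, -c = c := fun c => CharTwo.neg_eq c
  -- the stabiliser of `Y`
  let L : Subfield (SingerRing w) :=
    { carrier := {c | ∀ x ∈ Y, ((c : AddMonoid.End (Additive V)) (Additive.ofMul x)).toMul ∈ Y}
      mul_mem' := fun {c d} hc hd x hx => by
        simpa using hc _ (hd x hx)
      one_mem' := fun x hx => hx
      add_mem' := fun {c d} hc hd x hx => Y.mul_mem (hc x hx) (hd x hx)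
      zero_mem' := fun x _ => Y.one_mem
      neg_mem' := fun {c} hc => by rwa [hneg]
      inv_mem' := fun c (hc : ∀ x ∈ Y, ((c : AddMonoid.End (Additive V)) (Additive.ofMul x)).toMul ∈ Y) => by
        by_cases hc0 : c = 0
        · rw [hc0, inv_zero]; intro x _; exact Y.one_mem
        · have : Finite (SingerRing w)ˣ := inferInstance
          obtain ⟨m, hm⟩ : ∃ m : ℕ, c⁻¹ = c ^ m := by
            refine ⟨orderOf (Units.mk0 c hc0) - 1, ?_⟩
            refine inv_eq_of_mul_eq_one_right ?_
            have h := congrArg Units.val (pow_orderOf_eq_one (Units.mk0 c hc0))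
            rw [Units.val_pow_eq_pow_val, Units.val_mk0, Units.val_one] at h
            rw [← pow_succ', Nat.sub_add_cancel (orderOf_pos _)]
            exact h
          rw [hm]
          clear hm
          induction m with
          | zero => intro x hx; simpa using hx
          | succ m ih =>
            intro x hx
            rw [pow_succ]
            simpa using ih _ (hc x hx) }
  let cg : SingerRing w := ⟨endOf (w ^ k), pow_mem_singerRing k⟩
  have hcg : cg ∈ L := fun x hx => hY x hx
  -- the prime field is the only proper subfield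
  have hL : L = ⊤ := by
    let _ : Algebra (ZMod 2) (SingerRing w) := ZMod.algebra _ 2
    let L' : IntermediateField (ZMod 2) (SingerRing w) :=
      { L with
        algebraMap_mem' := fun r => by
          rw [← ZMod.natCast_zmod_val r, map_natCast]
          exact natCast_mem L _ }
    have hrank : Module.finrank (ZMod 2) (SingerRing w) = n := by
      have := Module.natCard_eq_pow_finrank (K := ZMod 2) (V := SingerRing w)
      rw [Nat.card_eq_of_bijective _ hbij, Nat.card_congr Additive.toMul, hn, Nat.card_zmod] at this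
      exact (Nat.pow_right_injective le_rfl this).symm
    have hdvd : Module.finrank (ZMod 2) L' ∣ n := hrank ▸
      ⟨Module.finrank L' (SingerRing w), (Module.finrank_mul_finrank _ _ _).symm⟩
    rcases hprime.eq_one_or_self_of_dvd _ hdvd with h | h
    · exfalso
      have hb : L' = ⊥ := IntermediateField.finrank_eq_one_iff.1 h
      have hmem : cg ∈ (⊥ : IntermediateField (ZMod 2) (SingerRing w)) := hb ▸ hcg
      rw [IntermediateField.mem_bot] at hmem
      obtain ⟨r, hr⟩ := hmem
      fin_cases r
      · have hr0 : (algebraMap (ZMod 2) (SingerRing w)) 0 = cg := hr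
        rw [map_zero] at hr0
        have h0 := congrArg (evalAt w p) hr0
        have : (w ^ k) p = 1 := (congrArg Additive.toMul h0).symm
        exact hp ((w ^ k).injective (this.trans (map_one _).symm))
      · have h1 : (algebraMap (ZMod 2) (SingerRing w)) 1 = cg := hr
        rw [map_one] at h1
        refine hk (MulEquiv.ext fun x => ?_)
        exact (congrArg (fun e : SingerRing w =>
          ((e : AddMonoid.End (Additive V)) (Additive.ofMul x)).toMul) h1).symm
    · have ht : L' = ⊤ := by
        refine IntermediateField.eq_of_le_of_finrank_eq le_top ?_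
        rw [h, IntermediateField.finrank_top', hrank]
      ext c
      simp only [Subfield.mem_top, iff_true]
      exact (ht ▸ IntermediateField.mem_top : c ∈ L')
  refine eq_top_iff.2 fun x _ => ?_
  rcases eq_or_ne x 1 with rfl | hx
  · exact Y.one_mem
  · obtain ⟨m, rfl⟩ := hw y hy1 x hx
    exact (hL ▸ Subfield.mem_top _ : (⟨endOf (w ^ m), pow_mem_singerRing m⟩ : SingerRing w) ∈ L) y hy

end CfsgLib.Core.TwoTimesPSL
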