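import Cfsg.Agent.Lib.Core.TwoTimesPSL.Affine
import Cfsg.Agent.Lib.Core.TwoTimesPSL.SingerField

/-!
# Stabilisers of one and two points in a transitive affine group

* `pairStab_data`: the stabiliser of two points is cyclic, of order dividing `n`
* `eq_bot_of_translationFree`: a translation-free group has non-trivial two-point stabilisers
-/

set_option autoImplicit false
set_option linter.unusedSectionVars false

namespace CfsgLib.Core.TwoTimesPSL

universe u v

namespace AffData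

variable {A : Type u} {T : Type v} [Group A] [CommGroup T] (D : AffData A T)

include D

/-- The stabiliser of `t`. -/
def stabT : Subgroup A where
  carrier := {a | D.ρ a D.t = D.t}
  mul_mem' := fun {a b} (ha : D.ρ a D.t = D.t) (hb : D.ρ b D.t = D.t) => by
    show D.ρ (a * b) D.t = D.t
    rw [rho_mul, hb, ha]
  one_mem' := by simp
  inv_mem' := fun {a} (ha : D.ρ a D.t = D.t) => by
    show D.ρ a⁻¹ D.t = D.t
    nth_rw 1 [← ha]; rw [rho_inv_apply]

theorem mem_stabT {a : A} : a ∈ D.stabT ↔ D.ρ a D.t = D.t := Iff.rfl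

/-- The stabiliser of a vector. -/
def fixV (p : T) : Subgroup A where
  carrier := {a | D.ρ a p = p}
  mul_mem' := fun {a b} (ha : D.ρ a p = p) (hb : D.ρ b p = p) => by
    show D.ρ (a * b) p = p
    rw [rho_mul, hb, ha]
  one_mem' := by simp
  inv_mem' := fun {a} (ha : D.ρ a p = p) => by
    show D.ρ a⁻¹ p = p
    nth_rw 1 [← ha]; rw [rho_inv_apply]

theorem mem_fixV {p : T} {a : A} : a ∈ D.fixV p ↔ D.ρ a p = p := Iff.rfl

/-- The stabiliser of `t` and `tp`. -/
def pairStab (p : T) : Subgroup A := D.stabT ⊓ D.fixV p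

theorem mem_pairStab {p : T} {a : A} : a ∈ D.pairStab p ↔ D.ρ a D.t = D.t ∧ D.ρ a p = p := Iff.rfl

theorem w_mem_stabT : D.w ∈ D.stabT := D.w_fix

theorem odd_of_mem_stabT {a : A} (ha : a ∈ D.stabT) : Odd (orderOf a) := D.stab_odd a ha

theorem conj_pow_w {a : A} (ha : a ∈ D.stabT) (k : ℕ) : ∃ l : ℕ, a * D.w ^ k * a⁻¹ = D.w ^ l := by
  obtain ⟨j, hj⟩ := D.w_normal a ha
  exact ⟨j * k, by rw [← conj_pow, hj, ← pow_mul]⟩

/-- Powers of `w` agreeing on one non-trivial vector are equal. -/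
theorem wpow_eq {u : T} (hu : u ∈ D.V) (hu1 : u ≠ 1) {k l : ℕ}
    (h : D.ρ (D.w ^ k) u = D.ρ (D.w ^ l) u) : D.w ^ k = D.w ^ l := by
  refine D.ext_on ?_ fun v hv => ?_
  · rw [(D.disp_eq_one_iff _).2 (D.pow_w_fix k), (D.disp_eq_one_iff _).2 (D.pow_w_fix l)]
  · rcases eq_or_ne v 1 with rfl | hv1
    · simp
    · obtain ⟨m, hm⟩ := D.w_trans u hu hu1 v hv hv1
      rw [← hm, ← rho_mul, ← rho_mul, ← pow_add, ← pow_add, add_comm k, add_comm l, pow_add,
        pow_add, rho_mul, rho_mul, h]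

theorem exists_pow_mul {p : T} (hp : p ∈ D.V) (hp1 : p ≠ 1) {a : A} (ha : a ∈ D.stabT) :
    ∃ k : ℕ, ∃ f ∈ D.pairStab p, a = D.w ^ k * f := by
  obtain ⟨k, hk⟩ := D.w_trans p hp hp1 (D.ρ a p) (D.inv a p hp)
    (fun h => hp1 ((D.ρ a).injective (h.trans (map_one _).symm)))
  refine ⟨k, (D.w ^ k)⁻¹ * a, ⟨D.stabT.mul_mem (D.stabT.inv_mem (D.stabT.pow_mem D.w_mem_stabT k)) ha, ?_⟩,
    by rw [mul_inv_cancel_left]⟩
  show D.ρ _ p = p
  rw [rho_mul, ← hk, rho_inv_apply]

theorem pow_mul_inj {p : T} (hp : p ∈ D.V) (hp1 : p ≠ 1) {k l : ℕ} {f g : A}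
    (hf : f ∈ D.pairStab p) (hg : g ∈ D.pairStab p) (h : D.w ^ k * f = D.w ^ l * g) :
    D.w ^ k = D.w ^ l ∧ f = g := by
  have h2 := congrArg (fun x => D.ρ x p) h
  simp only [rho_mul, hf.2 |> D.mem_fixV.1, hg.2 |> D.mem_fixV.1] at h2
  have h3 := D.wpow_eq hp hp1 h2
  exact ⟨h3, by rwa [h3, mul_right_inj] at h⟩

/-- A power of `w` moving `p` to a vector fixed by `f` commutes with `f`. -/
theorem commute_of_fixed {p : T} (hp : p ∈ D.V) (hp1 : p ≠ 1) {f : A} (hf : f ∈ D.pairStab p)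
    {k : ℕ} (h : D.ρ f (D.ρ (D.w ^ k) p) = D.ρ (D.w ^ k) p) : Commute f (D.w ^ k) := by
  obtain ⟨l, hl⟩ := D.conj_pow_w hf.1 k
  have h2 : D.ρ (D.w ^ l) p = D.ρ (D.w ^ k) p := by
    rw [← hl, rho_mul, rho_mul, D.mem_fixV.1 ((D.fixV p).inv_mem hf.2), h]
  rw [D.wpow_eq hp hp1 h2, mul_inv_eq_iff_eq_mul] at hl
  exact hl

/-- The action on `V`. -/
def rhoV : A →* MulAut D.V where
  toFun a :=
    { toFun := fun v => ⟨D.ρ a v, D.inv a v v.2⟩
      invFun := fun v => ⟨D.ρ a⁻¹ v, D.inv a⁻¹ v v.2⟩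
      left_inv := fun v => Subtype.ext (D.rho_inv_apply a v)
      right_inv := fun v => Subtype.ext (D.rho_apply_inv a v)
      map_mul' := fun v v' => Subtype.ext (map_mul (D.ρ a) (v : T) v') }
  map_one' := MulEquiv.ext fun v => Subtype.ext (by simp)
  map_mul' := fun a b => MulEquiv.ext fun v => Subtype.ext (D.rho_mul a b v)

theorem rhoV_coe (a : A) (v : D.V) : (D.rhoV a v : T) = D.ρ a v := rfl

theorem rhoV_trans : ∀ x : D.V, x ≠ 1 → ∀ y : D.V, y ≠ 1 → ∃ k : ℕ, (D.rhoV D.w ^ k) x = y := by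
  intro x hx y hy
  obtain ⟨k, hk⟩ := D.w_trans x x.2 (fun h => hx (Subtype.ext h)) y y.2 (fun h => hy (Subtype.ext h))
  exact ⟨k, Subtype.ext (by rw [← map_pow, rhoV_coe, hk])⟩

variable [Finite A] [Finite T]

theorem exists_card_V : ∃ n : ℕ, Nat.card D.V = 2 ^ n := by
  have : Fact (Nat.Prime 2) := ⟨Nat.prime_two⟩
  have h : IsPGroup 2 D.V := fun v => ⟨1, Subtype.ext (by simpa [pow_two] using D.two v.1)⟩
  exact IsPGroup.iff_card.1 h

theorem pairStab_data {p : T} (hp : p ∈ D.V) (hp1 : p ≠ 1) {n : ℕ} (hn : Nat.card D.V = 2 ^ n) :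
    IsCyclic (D.pairStab p) ∧ Nat.card (D.pairStab p) ∣ n ∧
      ∀ f ∈ D.pairStab p, (∀ v ∈ D.V, D.ρ f v = v → v = 1 ∨ v = p) → orderOf f = n := by
  have hinj : Function.Injective (D.rhoV.comp (D.pairStab p).subtype) := by
    intro f g hfg
    refine Subtype.ext (D.ext_on ?_ fun v hv => ?_)
    · rw [(D.disp_eq_one_iff _).2 f.2.1, (D.disp_eq_one_iff _).2 g.2.1]
    · exact Subtype.ext_iff.1 (DFunLike.congr_fun hfg (⟨v, hv⟩ : D.V))
  have hnorm : ∀ f : D.pairStab p, ∃ k : ℕ, (D.rhoV.comp (D.pairStab p).subtype) f * D.rhoV D.w *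
      ((D.rhoV.comp (D.pairStab p).subtype) f)⁻¹ = D.rhoV D.w ^ k := fun f => by
    obtain ⟨k, hk⟩ := D.w_normal f f.2.1
    exact ⟨k, by rw [MonoidHom.comp_apply, Subgroup.coe_subtype, ← map_inv, ← map_mul, ← map_mul, hk, map_pow]⟩
  obtain ⟨h1, h2, h3⟩ := normalizer_data (w := D.rhoV D.w) (p := ⟨p, hp⟩)
    (D.rhoV.comp (D.pairStab p).subtype) hinj (fun h => hp1 (Subtype.ext_iff.1 h)) D.rhoV_trans
    (fun x => Subtype.ext (D.two x.1)) hn (fun f => Subtype.ext f.2.2) hnorm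
  refine ⟨h1, h2, fun f hf hfix => ?_⟩
  rw [← h3 ⟨f, hf⟩ fun x hx => (hfix x.1 x.2 (Subtype.ext_iff.1 hx)).imp
    (fun h => Subtype.ext h) (fun h => Subtype.ext h)]
  exact (orderOf_injective _ (D.pairStab p).subtype_injective ⟨f, hf⟩)

theorem pairStab_comm {p : T} (hp : p ∈ D.V) (hp1 : p ≠ 1) {f g : A} (hf : f ∈ D.pairStab p)
    (hg : g ∈ D.pairStab p) : f * g = g * f := by
  obtain ⟨n, hn⟩ := D.exists_card_V
  have := (D.pairStab_data hp hp1 hn).1
  let _ : CommGroup (D.pairStab p) := IsCyclic.commGroup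
  exact Subtype.ext_iff.1 (mul_comm (⟨f, hf⟩ : D.pairStab p) ⟨g, hg⟩)

theorem card_sub {p : T} (hp : p ∈ D.V) (hp1 : p ≠ 1) {B : Subgroup A} (hw : D.w ∈ B) :
    Nat.card B + Nat.card ↥(B ⊓ D.fixV p) = Nat.card D.V * Nat.card ↥(B ⊓ D.fixV p) := by
  classical
  have key : Nat.card B = Nat.card {v : D.V // v ≠ 1} * Nat.card ↥(B ⊓ D.fixV p) := by
    rw [← Nat.card_prod]
    choose g hg using fun v : {v : D.V // v ≠ 1} =>
      D.w_trans p hp hp1 v.1.1 v.1.2 (fun h => v.2 (Subtype.ext h))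
    refine (Nat.card_congr (Equiv.ofBijective (fun x : {v : D.V // v ≠ 1} × ↥(B ⊓ D.fixV p) =>
      (⟨D.w ^ g x.1 * x.2.1, B.mul_mem (B.pow_mem hw _) x.2.2.1⟩ : B)) ⟨?_, ?_⟩)).symm
    · rintro ⟨v, b, hb⟩ ⟨v', b', hb'⟩ h
      have h0 : D.w ^ g v * b = D.w ^ g v' * b' := Subtype.ext_iff.1 h
      have h2 := congrArg (fun x => D.ρ x p) h0
      simp only [rho_mul, D.mem_fixV.1 hb.2, D.mem_fixV.1 hb'.2, hg] at h2
      have hv : v = v' := Subtype.ext (Subtype.ext h2)
      subst hv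
      simp only [mul_right_inj] at h0
      subst h0
      rfl
    · rintro ⟨x, hx⟩
      have hne : (⟨D.ρ x p, D.inv x p hp⟩ : D.V) ≠ 1 := fun h =>
        hp1 ((D.ρ x).injective ((Subtype.ext_iff.1 h).trans (map_one _).symm))
      refine ⟨⟨⟨⟨D.ρ x p, D.inv x p hp⟩, hne⟩, (D.w ^ g ⟨_, hne⟩)⁻¹ * x,
        B.mul_mem (B.inv_mem (B.pow_mem hw _)) hx, ?_⟩, Subtype.ext (by simp)⟩
      show D.ρ _ p = p
      have h1 : D.ρ (D.w ^ g ⟨_, hne⟩) p = D.ρ x p := hg ⟨_, hne⟩
      rw [rho_mul]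
      exact (congrArg (D.ρ _) h1.symm).trans (D.rho_inv_apply _ p)
  have h2 : Nat.card {v : D.V // v ≠ 1} + 1 = Nat.card D.V := by
    rw [Nat.card_congr ((Equiv.sumCompl (fun v : D.V => v = 1)).symm), Nat.card_sum]
    simp [add_comm]
  rw [key, ← h2, add_mul, one_mul]

/-- A translation-free group has non-trivial two-point stabilisers. -/
theorem eq_bot_of_translationFree (hV : D.V ≠ ⊥) (hNT : ∀ i : A, orderOf i = 2 → ¬ D.IsTranslation i)
    {p : T} (hp : p ∈ D.V) (hp1 : p ≠ 1) : D.pairStab p ≠ ⊥ := by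
  classical
  intro hF
  have hunique : ∀ a ∈ D.stabT, ∀ u ∈ D.V, u ≠ 1 → D.ρ a u = u → a = 1 := by
    intro a ha u hu hu1 hau
    obtain ⟨k, f, hf, rfl⟩ := D.exists_pow_mul hp hp1 ha
    rw [hF, Subgroup.mem_bot] at hf
    subst hf
    rw [mul_one] at hau ⊢
    rw [← pow_zero D.w]
    exact D.wpow_eq hu hu1 (by rw [hau]; simp)
  choose inv0 hi0 hd0 using fun v : {v : D.V // v ≠ 1} =>
    D.exists_involution_disp hV v.1.2 (fun h => v.2 (Subtype.ext h))
  -- every element is an involution or fixes a point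
  have hall : ∀ a : A, a ≠ 1 → orderOf a = 2 ∨ ∃ u ∈ D.V, D.ρ a (D.t * u) = D.t * u := by
    choose g hg using fun v : D.V => D.trans v v.2
    let f : {v : D.V // v ≠ 1} ⊕ (D.V × {s : D.stabT // s ≠ 1}) → {a : A // a ≠ 1} := Sum.elim
      (fun v => ⟨inv0 v, fun h => by have := hi0 v; rw [h, orderOf_one] at this; omega⟩)
      (fun x => ⟨g x.1 * x.2.1.1 * (g x.1)⁻¹, fun h => x.2.2 (Subtype.ext (conj_eq_one_iff.1 h))⟩)
    have hfix : ∀ x : D.V × {s : D.stabT // s ≠ 1},
        D.ρ (g x.1 * x.2.1.1 * (g x.1)⁻¹) (D.t * x.1) = D.t * x.1 := fun x => by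
      rw [← hg, rho_mul, rho_inv_apply, rho_mul, D.mem_stabT.1 x.2.1.2]
    have hfinj : Function.Injective f := by
      rintro (v | x) (v' | x') h <;> simp only [f, Sum.elim_inl, Sum.elim_inr, Subtype.mk.injEq] at h
      · exact congrArg Sum.inl (Subtype.ext (Subtype.ext (by rw [← hd0 v, ← hd0 v', h])))
      · exfalso
        have := D.stab_odd (x'.2.1.1) x'.2.1.2
        have h2 := congrArg orderOf h
        rw [hi0, orderOf_conj] at h2
        rw [← h2] at this
        exact absurd this (by decide)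
      · exfalso
        have := D.stab_odd (x.2.1.1) x.2.1.2
        have h2 := congrArg orderOf h
        rw [hi0, orderOf_conj] at h2
        rw [h2] at this
        exact absurd this (by decide)
      · have hx : x.1 = x'.1 := by
          by_contra hne
          have hA := hfix x
          have hB := hfix x'
          rw [h] at hA
          set b := g x'.1 * x'.2.1.1 * (g x'.1)⁻¹
          set c := (g x'.1)⁻¹ * b * g x'.1 with hc
          have hcs : c = x'.2.1.1 := by simp only [hc, b]; group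
          have hu : D.ρ c (D.ρ (g x'.1)⁻¹ (D.t * x.1)) = D.ρ (g x'.1)⁻¹ (D.t * x.1) := by
            rw [hc, rho_mul, rho_mul, rho_apply_inv, hA]
          rw [hcs] at hu
          set y := D.ρ (g x'.1)⁻¹ (D.t * x.1) with hy
          have hyV : D.t * y ∈ D.V := by
            refine (D.dec y).resolve_left fun hmem => D.not_mem ?_
            have := D.inv (g x'.1) y hmem
            rw [hy, rho_apply_inv] at this
            exact (D.V.mul_mem_cancel_right x.1.2).1 this
          have hy1 : D.t * y ≠ 1 := fun h1 => hne (Subtype.ext (mul_left_cancel (a := D.t) (by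
            rw [← hg x'.1, ← D.rho_apply_inv (g x'.1) (D.t * x.1), ← hy,
              show y = D.t from (mul_left_cancel (h1.trans (D.two D.t).symm))])))
          exact x'.2.2 (Subtype.ext (hunique _ x'.2.1.2 _ hyV hy1
            (by rw [map_mul, D.mem_stabT.1 x'.2.1.2, hu])))
        rw [← hx] at h
        exact congrArg Sum.inr (Prod.ext hx (Subtype.ext (Subtype.ext (mul_left_cancel (mul_right_cancel h)))))
    have hcard : Nat.card {a : A // a ≠ 1} =
        Nat.card ({v : D.V // v ≠ 1} ⊕ (D.V × {s : D.stabT // s ≠ 1})) := by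
      have e1 : ∀ (X : Type _) [Group X] [Finite X], Nat.card {x : X // x ≠ 1} + 1 = Nat.card X := by
        intro X _ _
        rw [Nat.card_congr ((Equiv.sumCompl (fun v : X => v = 1)).symm), Nat.card_sum]
        simp [add_comm]
      rw [Nat.card_sum, Nat.card_prod]
      have hA : Nat.card A = Nat.card D.V * Nat.card D.stabT := D.card_eq
      have a1 := e1 A
      have a2 : Nat.card {v : D.V // v ≠ 1} + 1 = Nat.card D.V := by
        rw [Nat.card_congr ((Equiv.sumCompl (fun v : D.V => v = 1)).symm), Nat.card_sum]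
        simp [add_comm]
      have a3 := e1 D.stabT
      rw [← a3, mul_add, mul_one] at hA
      omega
    have hsurj := ((Nat.bijective_iff_injective_and_card f).2 ⟨hfinj, hcard.symm⟩).2
    intro a ha
    obtain ⟨(v | x), hx⟩ := hsurj ⟨a, ha⟩
    · have hx' : inv0 v = a := Subtype.ext_iff.1 hx
      exact Or.inl (hx' ▸ hi0 v)
    · have hx' : g x.1 * x.2.1.1 * (g x.1)⁻¹ = a := Subtype.ext_iff.1 hx
      exact Or.inr ⟨x.1, x.1.2, hx' ▸ hfix x⟩
  -- two involutions agreeing at a point are equal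
  have hsame : ∀ i j : A, orderOf i = 2 → orderOf j = 2 → ∀ u ∈ D.V,
      D.ρ (i * j) (D.t * u) = D.t * u → i = j := by
    intro i j hi hj u hu h
    obtain ⟨g, hg⟩ := D.trans u hu
    have h2 : ∀ k : A, orderOf k = 2 → D.ρ k⁻¹ = D.ρ k := fun k hk => by
      rw [inv_eq_self_of_orderOf_eq_two hk]
    have hi' : orderOf (g⁻¹ * i * g) = 2 := by
      have := orderOf_conj g⁻¹ i
      rw [inv_inv] at this
      rw [this, hi]
    have hj' : orderOf (g⁻¹ * j * g) = 2 := by
      have := orderOf_conj g⁻¹ j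
      rw [inv_inv] at this
      rw [this, hj]
    have hfixij : D.ρ ((g⁻¹ * i * g) * (g⁻¹ * j * g)) D.t = D.t := by
      rw [show (g⁻¹ * i * g) * (g⁻¹ * j * g) = g⁻¹ * (i * j) * g by group, rho_mul, rho_mul, hg, h,
        ← hg, rho_inv_apply]
    set i' := g⁻¹ * i * g
    set j' := g⁻¹ * j * g
    have hd : D.disp i' = D.disp j' := by
      have := congrArg (fun x => D.ρ i' x) hfixij
      simp only [← rho_mul, ← mul_assoc] at this
      rw [show i' * i' = 1 by rw [← pow_two, ← hi']; exact pow_orderOf_eq_one i', one_mul] at this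
      rw [disp, disp, this]
    have hone : i' * j' = 1 := hunique _ hfixij _ (D.disp_mem i') (D.involution_disp_ne hi') (by
      rw [rho_mul]
      nth_rw 1 [hd]
      rw [D.involution_fix_disp hj', ← hd, D.involution_fix_disp hi'])
    have : i' = j' := by rw [eq_inv_of_mul_eq_one_left hone, inv_eq_self_of_orderOf_eq_two hj']
    simpa [i', j'] using this
  have hprod : ∀ i j : A, orderOf i = 2 → orderOf j = 2 → i ≠ j → orderOf (i * j) = 2 := by
    intro i j hi hj hne
    refine (hall (i * j) fun h => hne ?_).resolve_right fun ⟨u, hu, h⟩ => hne (hsame i j hi hj u hu h)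
    rw [eq_inv_of_mul_eq_one_left h, inv_eq_self_of_orderOf_eq_two hj]
  let N : Subgroup A :=
    { carrier := {a | a = 1 ∨ orderOf a = 2}
      mul_mem' := fun {a b} ha hb => by
        rcases ha with rfl | ha
        · simpa using hb
        rcases hb with rfl | hb
        · exact Or.inr (by simpa using ha)
        by_cases h : a = b
        · subst h
          exact Or.inl (by rw [← pow_two, ← ha]; exact pow_orderOf_eq_one a)
        · exact Or.inr (hprod a b ha hb h)
      one_mem' := Or.inl rfl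
      inv_mem' := fun {a} ha => ha.imp (fun h => by simp [h]) (fun h => by rw [orderOf_inv, h]) }
  have hN : IsPGroup 2 N := fun x => ⟨1, Subtype.ext (by
    rcases x.2 with h | h
    · simp [h]
    · simp only [SubmonoidClass.coe_pow, pow_one, Subgroup.coe_one]
      rw [← h]; exact pow_orderOf_eq_one _)⟩
  have : Fact (Nat.Prime 2) := ⟨Nat.prime_two⟩
  let _ : MulAction N D.V := MulAction.compHom D.V (D.rhoV.comp N.subtype)
  obtain ⟨b, hb, hb1⟩ := hN.exists_fixed_point_of_prime_dvd_card_of_fixed_point D.V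
    (D.even_card_V hV) (a := 1) (fun x => map_one (D.rhoV (x : A)))
  obtain ⟨i, hi⟩ := D.exists_involution hV
  refine hNT i hi fun v hv => ?_
  rcases eq_or_ne v 1 with rfl | hv1
  · simp
  · obtain ⟨k, hk⟩ := D.w_trans b b.2 (fun h => hb1 (Subtype.ext h.symm)) v hv hv1
    have hmem : (D.w ^ k)⁻¹ * i * D.w ^ k ∈ N := Or.inr (by
      have := orderOf_conj (D.w ^ k)⁻¹ i
      rw [inv_inv] at this
      rw [this, hi])
    have hfixb : D.ρ ((D.w ^ k)⁻¹ * i * D.w ^ k) b = b :=
      Subtype.ext_iff.1 (hb ⟨_, hmem⟩)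
    rw [rho_mul, hk, rho_mul] at hfixb
    have := congrArg (D.ρ (D.w ^ k)) hfixb
    rwa [rho_apply_inv, hk] at this

end AffData

end CfsgLib.Core.TwoTimesPSL
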