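import Cfsg.Agent.Lib.Core.TwoTimesPSL.SingerField

/-!
# Equivariant alternating forms

An alternating biadditive map `V × V → V` equivariant under an automorphism whose powers are
transitive on `V ∖ 1` is trivial.
-/

set_option autoImplicit false
set_option linter.unusedSectionVars false

namespace CfsgLib.Core.TwoTimesPSL

universe v

variable {V : Type v} [CommGroup V] [Finite V] {w : MulAut V}

theorem alternating_equivariant_eq_one {p : V} (hp : p ≠ 1)
    (hw : ∀ x : V, x ≠ 1 → ∀ y : V, y ≠ 1 → ∃ k : ℕ, (w ^ k) x = y)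
    (h2 : ∀ x : V, x * x = 1) (B : V → V → V) (hr : ∀ x y z, B x (y * z) = B x y * B x z)
    (hself : ∀ x, B x x = 1) (hsymm : ∀ x y, B x y = B y x)
    (heq : ∀ x y, B (w x) (w y) = w (B x y)) (x y : V) : B x y = 1 := by
  classical
  have heqk : ∀ (k : ℕ) (x y : V), B ((w ^ k) x) ((w ^ k) y) = (w ^ k) (B x y) := by
    intro k
    induction k with
    | zero => intro x y; simp
    | succ k ih => intro x y; rw [pow_succ, MulAut.mul_apply, MulAut.mul_apply, ih, heq, MulAut.mul_apply]
  have hbij := evalAt_bijective hp hw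
  let _ := singerField hp hw
  have : Finite (SingerRing w) := Finite.of_injective _ hbij.1
  have hchar : (2 : SingerRing w) = 0 := by
    apply hbij.1
    rw [← one_add_one_eq_two]
    show Additive.ofMul (p * p) = _
    rw [h2]
    rfl
  have : CharP (SingerRing w) 2 := CharTwo.of_one_ne_zero_of_two_eq_zero one_ne_zero hchar
  -- the field coordinates
  let e : SingerRing w → V := fun c => (evalAt w p c).toMul
  have he : Function.Bijective e := (Additive.toMul (α := V)).bijective.comp hbij
  let einv := Function.invFun e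
  have hei : ∀ x, e (einv x) = x := Function.rightInverse_invFun he.2
  let g : SingerRing w → SingerRing w := fun c => einv (B p (e c))
  have heg : ∀ c, e (g c) = B p (e c) := fun c => hei _
  have hadd : ∀ a b, e (a + b) = e a * e b := fun a b => rfl
  have hgadd : ∀ a b, g (a + b) = g a + g b := fun a b => he.1 (by
    rw [hadd, heg, heg, heg, hadd, hr])
  have hone : e 1 = p := rfl
  have hzero : e 0 = 1 := rfl
  have hg1 : g 1 = 0 := he.1 (by rw [heg, hone, hself, hzero])
  -- scaling
  have hscale : ∀ a : SingerRing w, a ≠ 0 → ∀ c, B (e a) (e (a * c)) = e (a * g c) := by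
    intro a ha c
    obtain ⟨k, rfl⟩ := eq_pow_of_ne_zero hp hw a ha
    have h3 : ∀ d : SingerRing w, e (⟨endOf (w ^ k), pow_mem_singerRing k⟩ * d) = (w ^ k) (e d) := fun d => rfl
    have h1 : e ⟨endOf (w ^ k), pow_mem_singerRing k⟩ = (w ^ k) p := rfl
    rw [h1, h3, h3, heq' heqk, heg]
  have hinv : ∀ a : SingerRing w, g a = a * g a⁻¹ := by
    intro a
    rcases eq_or_ne a 0 with rfl | ha
    · have h0 : g 0 + g 0 = g 0 := by rw [← hgadd, add_zero]
      simpa using h0
    · apply he.1
      rw [heg, hsymm, ← hscale a ha, mul_inv_cancel₀ ha, hone]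
  have hzero' : g 0 = 0 := by
    have h0 : g 0 + g 0 = g 0 := by rw [← hgadd, add_zero]
    simpa using h0
  have hsq : ∀ a : SingerRing w, g (a * a) = 0 := by
    intro a
    rcases eq_or_ne a 0 with rfl | ha
    · simpa using hzero'
    rcases eq_or_ne a 1 with rfl | ha1
    · simpa using hg1
    have hb : a + 1 ≠ 0 := fun h => ha1 (by
      rw [← CharTwo.neg_eq (1 : SingerRing w)]; exact eq_neg_of_add_eq_zero_left h)
    have hab : a * (a + 1) ≠ 0 := mul_ne_zero ha hb
    have h1 : g (a + 1) = g a := by rw [hgadd, hg1, add_zero]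
    have h2' : a⁻¹ + (a + 1)⁻¹ = (a * (a + 1))⁻¹ := by
      have h20 : a + 1 + a = 1 := by rw [add_right_comm, CharTwo.add_self_eq_zero, zero_add]
      field_simp
      linear_combination h20
    have h3 : g (a * (a + 1)) = g a := by
      rw [hinv (a * (a + 1)), ← h2', hgadd]
      have h4 : g a⁻¹ = a⁻¹ * g a := by rw [hinv a, ← mul_assoc, inv_mul_cancel₀ ha, one_mul]
      have h5 : g (a + 1)⁻¹ = (a + 1)⁻¹ * g a := by
        rw [← h1, hinv (a + 1), ← mul_assoc, inv_mul_cancel₀ hb, one_mul]
      rw [h4, h5, ← add_mul, h2', ← mul_assoc, mul_inv_cancel₀ hab, one_mul]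
    rw [mul_add, mul_one, hgadd] at h3
    exact add_eq_right.1 h3
  have hg : ∀ c, g c = 0 := by
    intro c
    have hinj : Function.Injective (fun a : SingerRing w => a * a) := by
      intro a b h
      have h' : (a + b) * (a + b) = 0 := by
        have hm : a * b + b * a = 0 := by rw [mul_comm b a]; exact CharTwo.add_self_eq_zero _
        have hab : a * a + b * b = 0 := by rw [show a * a = b * b from h]; exact CharTwo.add_self_eq_zero _
        linear_combination hm + hab
      rw [← CharTwo.neg_eq b]
      exact eq_neg_of_add_eq_zero_left (mul_self_eq_zero.1 h')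
    obtain ⟨a, rfl⟩ := (Finite.injective_iff_surjective.1 hinj) c
    exact hsq a
  rcases eq_or_ne x 1 with rfl | hx
  · have h0 := hr y 1 1
    rw [one_mul] at h0
    rw [hsymm]
    exact mul_eq_left.1 h0.symm
  have ha : einv x ≠ 0 := fun h => hx (by rw [← hei x, h, hzero])
  have h6 := hscale (einv x) ha ((einv x)⁻¹ * einv y)
  rw [hg, mul_zero, hzero, ← mul_assoc, mul_inv_cancel₀ ha, one_mul, hei, hei] at h6
  exact h6
where
  heq' {B : V → V → V} {p : V} {k : ℕ} {y : V}
      (h : ∀ (k : ℕ) (x y : V), B ((w ^ k) x) ((w ^ k) y) = (w ^ k) (B x y)) :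
      B ((w ^ k) p) ((w ^ k) y) = (w ^ k) (B p y) := h k p y

end CfsgLib.Core.TwoTimesPSL
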