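import Cfsg.Agent.Lib.Core.TwoTimesPSL.Setting

/-!
# Homocyclic subgroups inverted by `t`

`Level σ M k`: `M ⊇ V` is abelian of exponent `2 ^ k` and order `|V| ^ k`, inverted by `t`. The
normaliser of `M ∪ tM` acts affinely on the quotient by the squares of `M`, a copy of `⟨t⟩ × V`.
-/

set_option autoImplicit false
set_option linter.unusedSectionVars false

namespace CfsgLib.Core.TwoTimesPSL

universe u

variable {G : Type u} [Group G]

/-- `V` with its commutative group structure. -/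
def Vsp (σ : Setting G) : Type u := ↥σ.V

instance instGroupVsp (σ : Setting G) : Group (Vsp σ) := inferInstanceAs (Group ↥σ.V)

instance instCommGroupVsp (σ : Setting G) : CommGroup (Vsp σ) :=
  { instGroupVsp σ with mul_comm := fun a b => Subtype.ext (σ.v_comm a.2 b.2).eq }

instance instFiniteVsp [Finite G] (σ : Setting G) : Finite (Vsp σ) := inferInstanceAs (Finite ↥σ.V)

/-- The underlying element. -/
def Vsp.val' {σ : Setting G} (x : Vsp σ) : G := Subtype.val (α := G) x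

/-- The element of `Vsp` given by an element of `V`. -/
def Vsp.mk {σ : Setting G} (x : G) (h : x ∈ σ.V) : Vsp σ := (⟨x, h⟩ : ↥σ.V)

theorem Vsp.mem {σ : Setting G} (x : Vsp σ) : x.val' ∈ σ.V := Subtype.prop (p := (· ∈ σ.V)) x

theorem Vsp.val_mk {σ : Setting G} (x : G) (h : x ∈ σ.V) : (Vsp.mk x h : Vsp σ).val' = x := rfl

theorem Vsp.val_mul {σ : Setting G} (x y : Vsp σ) : (x * y).val' = x.val' * y.val' := rfl

theorem Vsp.val_one {σ : Setting G} : (1 : Vsp σ).val' = 1 := rfl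

theorem Vsp.ext' {σ : Setting G} {x y : Vsp σ} (h : x.val' = y.val') : x = y := Subtype.ext h

/-- The model `⟨t⟩ × V`. -/
abbrev TT (σ : Setting G) : Type u := Vsp σ × Multiplicative (ZMod 2)

/-- The non-trivial flag. -/
def flag : Multiplicative (ZMod 2) := Multiplicative.ofAdd 1

theorem flag_cases : ∀ e : Multiplicative (ZMod 2), e = 1 ∨ e = flag := by decide

theorem flag_mul : flag * flag = 1 := by decide

theorem flag_ne : flag ≠ 1 := by decide

/-- An abelian group of exponent `2 ^ k` and order `|V| ^ k` containing `V` and inverted by `t`. -/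
structure Level (σ : Setting G) (M : Subgroup G) (k : ℕ) where
  one_le : 1 ≤ k
  V_le : σ.V ≤ M
  comm : ∀ a ∈ M, ∀ b ∈ M, Commute a b
  inverted : ∀ m ∈ M, σ.t * m * σ.t = m⁻¹
  omega : ∀ m ∈ M, m * m = 1 → m ∈ σ.V
  exp : ∀ m ∈ M, m ^ 2 ^ k = 1
  card : Nat.card M = Nat.card σ.V ^ k
  c : G
  c_cent : Commute c σ.t
  c_M : ∀ m ∈ M, c * m * c⁻¹ ∈ M
  c_act : ∀ v ∈ σ.V, c * v * c⁻¹ = σ.w * v * σ.w⁻¹
  c_odd : Odd (orderOf c)

namespace Level

variable {σ : Setting G} {M : Subgroup G} {k : ℕ} (L : Level σ M k)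

include L

theorem t_not_mem : σ.t ∉ M := fun h => σ.not_mem (L.omega _ h σ.invo)

theorem t_mul (m : G) (hm : m ∈ M) : σ.t * m = m⁻¹ * σ.t := by
  rw [← L.inverted m hm, mul_assoc, σ.invo, mul_one]

theorem outer_sq {x : G} (hx : σ.t * x ∈ M) : x * x = 1 := by
  have h1 : x = σ.t * (σ.t * x) := (σ.t_mul_mul x).symm
  rw [h1]
  generalize σ.t * x = m at hx
  calc σ.t * m * (σ.t * m) = (σ.t * m * σ.t) * m := by simp only [mul_assoc]
    _ = 1 := by rw [L.inverted m hx, inv_mul_cancel]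

theorem not_mem_of_outer {x : G} (hx : σ.t * x ∈ M) : x ∉ M := fun h => L.t_not_mem (by
  have := M.mul_mem hx (M.inv_mem h)
  rwa [mul_inv_cancel_right] at this)

/-- `R = M ∪ tM`. -/
def R : Subgroup G where
  carrier := {x | x ∈ M ∨ σ.t * x ∈ M}
  one_mem' := Or.inl M.one_mem
  mul_mem' := fun {a b} ha hb => by
    rcases ha with ha | ha <;> rcases hb with hb | hb
    · exact Or.inl (M.mul_mem ha hb)
    · refine Or.inr ?_
      rw [← mul_assoc, L.t_mul a ha, mul_assoc]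
      exact M.mul_mem (M.inv_mem ha) hb
    · refine Or.inr ?_
      rw [← mul_assoc]
      exact M.mul_mem ha hb
    · refine Or.inl ?_
      have h1 : a * b = (σ.t * a)⁻¹ * (σ.t * b) := by
        rw [mul_inv_rev, σ.t_inv, inv_eq_of_mul_eq_one_right (L.outer_sq ha), mul_assoc, σ.t_mul_mul]
      rw [h1]
      exact M.mul_mem (M.inv_mem ha) hb
  inv_mem' := fun {a} ha => by
    rcases ha with ha | ha
    · exact Or.inl (M.inv_mem ha)
    · exact Or.inr (by rwa [inv_eq_of_mul_eq_one_right (L.outer_sq ha)])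

theorem mem_R {x : G} : x ∈ L.R ↔ x ∈ M ∨ σ.t * x ∈ M := Iff.rfl

theorem M_le_R : M ≤ L.R := fun _ hx => Or.inl hx

theorem t_mem_R : σ.t ∈ L.R := Or.inr (by rw [σ.invo]; exact M.one_mem)

theorem T_le_R : σ.T ≤ L.R := fun _ hx => hx.imp (fun h => L.V_le h) (fun h => L.V_le h)

theorem R_two : IsPGroup 2 L.R := fun x => by
  rcases x.2 with h | h
  · exact ⟨k, Subtype.ext (by simpa using L.exp x.1 h)⟩
  · exact ⟨1, Subtype.ext (by simpa [pow_two] using L.outer_sq h)⟩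

/-- The map into `V`. -/
def pw (_L : Level σ M k) (m : G) : G := m ^ 2 ^ (k - 1)

theorem two_pow : 2 ^ (k - 1) * 2 = 2 ^ k := by
  rw [← pow_succ, Nat.sub_add_cancel L.one_le]

theorem pw_mem {m : G} (hm : m ∈ M) : L.pw m ∈ σ.V :=
  L.omega _ (M.pow_mem hm _) (by rw [← pow_two, pw, ← pow_mul, L.two_pow, L.exp m hm])

theorem pw_mul {a b : G} (ha : a ∈ M) (hb : b ∈ M) : L.pw (a * b) = L.pw a * L.pw b :=
  (L.comm a ha b hb).mul_pow _

theorem pw_one : L.pw 1 = 1 := one_pow _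

theorem pw_conj (g m : G) : L.pw (g * m * g⁻¹) = g * L.pw m * g⁻¹ := conj_pow

/-- Elements of `M` killed by `2 ^ j`. -/
def pker (j : ℕ) : Subgroup G where
  carrier := {m | m ∈ M ∧ m ^ 2 ^ j = 1}
  one_mem' := ⟨M.one_mem, one_pow _⟩
  mul_mem' := fun {a b} ha hb => ⟨M.mul_mem ha.1 hb.1, by rw [(L.comm a ha.1 b hb.1).mul_pow, ha.2, hb.2, one_mul]⟩
  inv_mem' := fun {a} ha => ⟨M.inv_mem ha.1, by rw [inv_pow, ha.2, inv_one]⟩

/-- The squaring chain. -/
def powHom (j : ℕ) : L.pker (j + 1) →* σ.V where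
  toFun m := ⟨(m : G) ^ 2 ^ j, L.omega _ (M.pow_mem m.2.1 _) (by rw [← pow_two, ← pow_mul, ← pow_succ]; exact m.2.2)⟩
  map_one' := Subtype.ext (by simp)
  map_mul' a b := Subtype.ext (by simp [(L.comm _ a.2.1 _ b.2.1).mul_pow])

variable [Finite G]

theorem card_pker : ∀ j, Nat.card (L.pker j) ≤ Nat.card σ.V ^ j := by
  intro j
  induction j with
  | zero =>
    rw [pow_zero, Finite.card_le_one_iff_subsingleton]
    exact ⟨fun a b => Subtype.ext (by have h1 := a.2.2; have h2 := b.2.2; simp at h1 h2; rw [h1, h2])⟩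
  | succ j ih =>
    calc Nat.card (L.pker (j + 1)) = Nat.card (L.powHom j).ker * (L.powHom j).ker.index :=
          (Subgroup.card_mul_index _).symm
      _ ≤ Nat.card σ.V ^ j * Nat.card σ.V := by
          refine Nat.mul_le_mul ?_ ?_
          · refine le_trans (Nat.card_le_card_of_injective (fun x : (L.powHom j).ker =>
              (⟨x.1.1, x.1.2.1, congrArg Subtype.val (MonoidHom.mem_ker.1 x.2)⟩ : L.pker j)) ?_) ih
            intro a b h
            exact Subtype.ext (Subtype.ext (congrArg Subtype.val h :))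
          · rw [Subgroup.index_ker]
            exact Subgroup.card_le_card_group _
      _ = _ := by rw [pow_succ]

theorem pker_top : L.pker k = M := le_antisymm (fun _ hx => hx.1) (fun x hx => ⟨hx, L.exp x hx⟩)

theorem pow_surj : Function.Surjective (L.powHom (k - 1)) ∧ Nat.card (L.pker (k - 1)) = Nat.card σ.V ^ (k - 1) := by
  have hk : k - 1 + 1 = k := Nat.sub_add_cancel L.one_le
  have hker : Nat.card (L.powHom (k - 1)).ker ≤ Nat.card (L.pker (k - 1)) :=
    Nat.card_le_card_of_injective (fun x : (L.powHom (k - 1)).ker =>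
      (⟨x.1.1, x.1.2.1, congrArg Subtype.val (MonoidHom.mem_ker.1 x.2)⟩ : L.pker (k - 1)))
      fun a b h => Subtype.ext (Subtype.ext (congrArg Subtype.val h :))
  have h1 : Nat.card (L.powHom (k - 1)).ker * (L.powHom (k - 1)).ker.index = Nat.card (L.pker (k - 1 + 1)) :=
    Subgroup.card_mul_index _
  have hM : Nat.card (L.pker (k - 1 + 1)) = Nat.card σ.V ^ k := by rw [hk, L.pker_top, L.card]
  rw [hM, Subgroup.index_ker] at h1
  have hp := L.card_pker (k - 1)
  have hr : Nat.card (L.powHom (k - 1)).range ≤ Nat.card σ.V := Subgroup.card_le_card_group _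
  have hq : 0 < Nat.card σ.V := Nat.card_pos
  have hrge : Nat.card σ.V ≤ Nat.card (L.powHom (k - 1)).range := by
    refine Nat.le_of_mul_le_mul_left ?_ (pow_pos hq (k - 1))
    have hq1 : Nat.card σ.V ^ (k - 1) * Nat.card σ.V = Nat.card σ.V ^ k := by rw [← pow_succ, hk]
    rw [hq1, ← h1]
    exact Nat.mul_le_mul_right _ (hker.trans hp)
  have hr' := le_antisymm hr hrge
  refine ⟨fun v => ?_, le_antisymm hp ?_⟩
  · have htop : (L.powHom (k - 1)).range = ⊤ := Subgroup.eq_top_of_card_eq _ hr'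
    exact MonoidHom.mem_range.1 (htop ▸ Subgroup.mem_top v)
  · refine Nat.le_of_mul_le_mul_right ?_ hq
    have hq1 : Nat.card σ.V ^ (k - 1) * Nat.card σ.V = Nat.card σ.V ^ k := by rw [← pow_succ, hk]
    rw [hq1, ← h1, hr']
    exact Nat.mul_le_mul_right _ hker

theorem pw_surj {v : G} (hv : v ∈ σ.V) : ∃ m ∈ M, L.pw m = v := by
  obtain ⟨m, hm⟩ := L.pow_surj.1 ⟨v, hv⟩
  exact ⟨m, m.2.1, congrArg Subtype.val hm⟩

theorem pw_eq_one_iff {m : G} (hm : m ∈ M) : L.pw m = 1 ↔ ∃ n ∈ M, m = n * n := by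
  constructor
  · intro h
    let sq : M →* M := { toFun := fun x => x * x, map_one' := by simp,
                         map_mul' := fun a b => Subtype.ext (by
                           show (a : G) * b * ((a : G) * b) = a * a * (b * b)
                           rw [mul_assoc, ← mul_assoc (b : G), (L.comm b b.2 a a.2).eq]
                           simp only [mul_assoc]) }
    have hle : sq.range.map M.subtype ≤ L.pker (k - 1) := by
      rintro _ ⟨y, ⟨x, rfl⟩, rfl⟩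
      refine ⟨M.mul_mem x.2 x.2, ?_⟩
      show ((x : G) * x) ^ 2 ^ (k - 1) = 1
      rw [← pow_two, ← pow_mul, mul_comm, L.two_pow, L.exp _ x.2]
    have hcard : Nat.card σ.V ^ (k - 1) ≤ Nat.card (sq.range.map M.subtype) := by
      rw [Subgroup.card_map_of_injective M.subtype_injective]
      have h1 := sq.ker.card_mul_index
      rw [Subgroup.index_ker, L.card] at h1
      have hker : Nat.card sq.ker ≤ Nat.card σ.V :=
        Nat.card_le_card_of_injective (fun x : sq.ker =>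
          (⟨x.1.1, L.omega _ x.1.2 (congrArg Subtype.val (MonoidHom.mem_ker.1 x.2))⟩ : σ.V))
          fun a b h => Subtype.ext (Subtype.ext (congrArg Subtype.val h :))
      refine Nat.le_of_mul_le_mul_left ?_ (Nat.card_pos (α := σ.V))
      rw [← pow_succ', Nat.sub_add_cancel L.one_le, ← h1]
      exact Nat.mul_le_mul_right _ hker
    have heq := Subgroup.eq_of_le_of_card_ge hle (by rw [L.pow_surj.2]; exact hcard)
    have hmem : m ∈ sq.range.map M.subtype := heq ▸ ⟨hm, h⟩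
    obtain ⟨y, ⟨x, rfl⟩, rfl⟩ := hmem
    exact ⟨x, x.2, rfl⟩
  · rintro ⟨n, hn, rfl⟩
    rw [pw, ← pow_two, ← pow_mul, mul_comm, L.two_pow, L.exp _ hn]

theorem mem_M_of_normalizer {g : G} (hg : g ∈ Subgroup.normalizer (L.R : Set G))
    (hV : k = 1 → ∀ v ∈ σ.V, g * v * g⁻¹ ∈ σ.V) {m : G} (hm : m ∈ M) : g * m * g⁻¹ ∈ M := by
  rcases eq_or_lt_of_le L.one_le with h1 | h2
  · have hmV : ∀ x ∈ M, x ∈ σ.V := fun x hx => L.omega x hx (by
      have := L.exp x hx
      rwa [← h1, pow_one, pow_two] at this)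
    exact L.V_le (hV h1.symm m (hmV m hm))
  · have key : ∀ x ∈ M, x * x ≠ 1 → g * x * g⁻¹ ∈ M := by
      intro x hx hne
      refine ((Subgroup.mem_normalizer_iff.1 hg x).1 (Or.inl hx)).resolve_right fun h => hne ?_
      have h3 := L.outer_sq h
      rw [show g * x * g⁻¹ * (g * x * g⁻¹) = g * (x * x) * g⁻¹ by group] at h3
      exact conj_eq_one_iff.1 h3
    by_cases hsq : m * m = 1
    · obtain ⟨n, hn, rfl⟩ := L.pw_surj (L.omega m hm hsq)
      by_cases hn2 : n * n = 1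
      · have : L.pw n = 1 := by
          rw [pw, show k - 1 = (k - 2) + 1 by omega, pow_succ, mul_comm, pow_mul, pow_two, hn2, one_pow]
        rw [this]
        simp
      · rw [← L.pw_conj]
        exact M.pow_mem (key n hn hn2) _
    · exact key m hm hsq

/-- The subgroup of elements normalising `R` and `M`. -/
def X : Subgroup G := Subgroup.normalizer (L.R : Set G) ⊓ Subgroup.normalizer (M : Set G)

theorem X_conj {g : G} (hg : g ∈ L.X) {m : G} (hm : m ∈ M) : g * m * g⁻¹ ∈ M :=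
  (Subgroup.mem_normalizer_iff.1 hg.2 m).1 hm

theorem X_conj_R {g : G} (hg : g ∈ L.X) {m : G} (hm : m ∈ L.R) : g * m * g⁻¹ ∈ L.R :=
  (Subgroup.mem_normalizer_iff.1 hg.1 m).1 hm

theorem R_le_X : L.R ≤ L.X := by
  refine le_inf Subgroup.le_normalizer ?_
  have h : ∀ x ∈ L.R, ∀ m ∈ M, x * m * x⁻¹ ∈ M := by
    intro x hx m hm
    rcases hx with hx | hx
    · rw [(L.comm x hx m hm).eq, mul_inv_cancel_right]; exact hm
    · rw [← σ.t_mul_mul x]
      generalize σ.t * x = y at hx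
      rw [mul_inv_rev, σ.t_inv, show σ.t * y * m * (y⁻¹ * σ.t) = σ.t * (y * m * y⁻¹) * σ.t by group,
        (L.comm y hx m hm).eq, mul_inv_cancel_right, L.inverted m hm]
      exact M.inv_mem hm
  intro x hx
  rw [Subgroup.mem_normalizer_iff]
  intro m
  refine ⟨h x hx m, fun hm => ?_⟩
  have := h x⁻¹ (L.R.inv_mem hx) _ hm
  rwa [show x⁻¹ * (x * m * x⁻¹) * x⁻¹⁻¹ = m by group] at this

theorem conj_V {g : G} (hg : g ∈ L.X) {v : G} (hv : v ∈ σ.V) : g * v * g⁻¹ ∈ σ.V :=
  L.omega _ (L.X_conj hg (L.V_le hv)) (by rw [conj_mul, σ.elem v hv, mul_one, mul_inv_cancel])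

/-- The displacement of `t`. -/
def disp (_L : Level σ M k) (g : G) : G := σ.t * (g * σ.t * g⁻¹)

theorem disp_mem {g : G} (hg : g ∈ L.X) : L.disp g ∈ M := by
  refine (L.X_conj_R hg L.t_mem_R).resolve_left fun h => L.t_not_mem ?_
  have := L.X_conj (L.X.inv_mem hg) h
  rwa [show g⁻¹ * (g * σ.t * g⁻¹) * g⁻¹⁻¹ = σ.t by group] at this

theorem disp_mul (g h : G) : L.disp (g * h) = L.disp g * (g * L.disp h * g⁻¹) := by
  simp only [disp]
  rw [show σ.t * (g * σ.t * g⁻¹) * (g * (σ.t * (h * σ.t * h⁻¹)) * g⁻¹) =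
    σ.t * (g * (σ.t * σ.t) * (h * σ.t * h⁻¹) * g⁻¹) by group, σ.invo]
  group

/-- The displacement in `V`. -/
def dV (g : L.X) : Vsp σ := Vsp.mk (L.pw (L.disp g)) (L.pw_mem (L.disp_mem g.2))

/-- Conjugation on `V`. -/
def cV (g : L.X) (v : Vsp σ) : Vsp σ := Vsp.mk ((g : G) * v.val' * (g : G)⁻¹) (L.conj_V g.2 v.mem)

theorem cV_mul (g : L.X) (a b : Vsp σ) : L.cV g (a * b) = L.cV g a * L.cV g b :=
  Vsp.ext' (by simp [cV, Vsp.val_mk, Vsp.val_mul, conj_mul])

theorem cV_comp (g h : L.X) (a : Vsp σ) : L.cV (g * h) a = L.cV g (L.cV h a) :=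
  Vsp.ext' (by simp [cV, Vsp.val_mk, mul_assoc])

theorem cV_one (a : Vsp σ) : L.cV 1 a = a := Vsp.ext' (by simp [cV, Vsp.val_mk])

theorem dV_mul (g h : L.X) : L.dV (g * h) = L.dV g * L.cV g (L.dV h) := by
  refine Vsp.ext' ?_
  simp only [dV, cV, Vsp.val_mk, Vsp.val_mul, Subgroup.coe_mul]
  rw [L.disp_mul, L.pw_mul (L.disp_mem g.2) (L.X_conj g.2 (L.disp_mem h.2)), L.pw_conj]

theorem vsq (x : Vsp σ) : x * x = 1 := Vsp.ext' (σ.elem _ x.mem)

/-- The affine map of the model. -/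
def act (g : L.X) (x : TT σ) : TT σ := (L.cV g x.1 * (if x.2 = 1 then 1 else L.dV g), x.2)

theorem act_mul (g : L.X) (x y : TT σ) : L.act g (x * y) = L.act g x * L.act g y := by
  obtain ⟨a, e⟩ := x
  obtain ⟨b, f⟩ := y
  rcases flag_cases e with rfl | rfl <;> rcases flag_cases f with rfl | rfl <;>
    simp [act, L.cV_mul, flag_mul, flag_ne, mul_assoc, mul_left_comm, mul_comm, L.vsq]

theorem act_comp (g h : L.X) (x : TT σ) : L.act (g * h) x = L.act g (L.act h x) := by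
  obtain ⟨a, e⟩ := x
  rcases flag_cases e with rfl | rfl <;>
    simp [act, L.cV_mul, L.cV_comp, L.dV_mul, flag_ne, mul_left_comm, mul_comm]

theorem act_one (x : TT σ) : L.act 1 x = x := by
  obtain ⟨a, e⟩ := x
  have h : L.dV 1 = 1 := Vsp.ext' (by simp [dV, disp, Vsp.val_mk, Vsp.val_one, σ.invo, L.pw_one])
  rcases flag_cases e with rfl | rfl <;> simp [act, L.cV_one, h, flag_ne]

/-- The action of `X` on the model. -/
def rho : L.X →* MulAut (TT σ) where
  toFun g :=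
    { toFun := L.act g
      invFun := L.act g⁻¹
      left_inv := fun x => by rw [← L.act_comp, inv_mul_cancel, L.act_one]
      right_inv := fun x => by rw [← L.act_comp, mul_inv_cancel, L.act_one]
      map_mul' := L.act_mul g }
  map_one' := MulEquiv.ext L.act_one
  map_mul' g h := MulEquiv.ext (L.act_comp g h)

theorem rho_apply (g : L.X) (x : TT σ) : L.rho g x = L.act g x := rfl

theorem rho_t (g : L.X) : L.rho g (1, flag) = (L.dV g, flag) := by
  simp [rho_apply, act, flag_ne, show L.cV g 1 = 1 from Vsp.ext' (by simp [cV, Vsp.val_mk, Vsp.val_one])]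

theorem rho_V (g : L.X) (v : Vsp σ) : L.rho g (v, 1) = (L.cV g v, 1) := by simp [rho_apply, act]

theorem rho_ext {g h : L.X} (hd : L.dV g = L.dV h)
    (hc : ∀ v ∈ σ.V, (g : G) * v * (g : G)⁻¹ = (h : G) * v * (h : G)⁻¹) : L.rho g = L.rho h := by
  refine MulEquiv.ext fun x => ?_
  rw [rho_apply, rho_apply, act, act, hd, show L.cV g x.1 = L.cV h x.1 from Vsp.ext' (hc _ x.1.mem)]

theorem rho_R {r : L.X} (hr : (r : G) ∈ L.R) : L.rho r = 1 := by
  rw [← map_one L.rho]
  have hc : ∀ v ∈ σ.V, (r : G) * v * (r : G)⁻¹ = v := by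
    intro v hv
    rcases hr with h | h
    · rw [(L.comm _ h v (L.V_le hv)).eq, mul_inv_cancel_right]
    · have h2 : Commute (r : G) v := by
        rw [← σ.t_mul_mul (r : G)]
        exact (σ.cent v hv).mul_left (L.comm _ h v (L.V_le hv))
      rw [h2.eq, mul_inv_cancel_right]
  refine L.rho_ext ?_ fun v hv => by simpa using hc v hv
  have h1 : L.dV r = 1 := by
    refine Vsp.ext' ?_
    show L.pw (L.disp (r : G)) = 1
    rw [L.pw_eq_one_iff (L.disp_mem r.2)]
    rcases hr with h | h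
    · refine ⟨(r : G)⁻¹, M.inv_mem h, ?_⟩
      show σ.t * ((r : G) * σ.t * (r : G)⁻¹) = _
      rw [← L.inverted _ h]
      group
    · refine ⟨σ.t * r, h, ?_⟩
      have h4 : (r : G)⁻¹ = r := inv_eq_of_mul_eq_one_right (L.outer_sq h)
      show σ.t * ((r : G) * σ.t * (r : G)⁻¹) = _
      rw [h4]
      simp only [mul_assoc]
  rw [h1]
  exact (Vsp.ext' (by simp [dV, disp, Vsp.val_mk, Vsp.val_one, σ.invo, L.pw_one])).symm

/-- An element with trivial displacement centralises `t` up to `R`. -/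
theorem exists_fix {g : L.X} (h : L.dV g = 1) :
    ∃ r ∈ L.R, Commute (r * (g : G)) σ.t := by
  have h1 : L.pw (L.disp g) = 1 := congrArg Vsp.val' h
  obtain ⟨n, hn, hn2⟩ := (L.pw_eq_one_iff (L.disp_mem g.2)).1 h1
  refine ⟨n, Or.inl hn, ?_⟩
  show n * g * σ.t = σ.t * (n * g)
  have h2 : (g : G) * σ.t = σ.t * (n * n) * g := by
    rw [← hn2, disp, σ.t_mul_mul, inv_mul_cancel_right]
  have h3 : n * σ.t = σ.t * n⁻¹ := by
    rw [← L.inverted n hn]; simp only [← mul_assoc, σ.invo, one_mul]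
  rw [mul_assoc n, h2]
  simp only [← mul_assoc, h3]
  group

theorem conj_T {g : G} (hg : g ∈ L.X) (hgt : Commute g σ.t) {x : G} (hx : x ∈ σ.T) : g * x * g⁻¹ ∈ σ.T := by
  have h1 := L.X_conj_R hg (L.T_le_R hx)
  refine σ.mem_T_of_two_group L.R_two (fun v hv => Or.inl (L.V_le hv)) L.t_mem_R h1 ?_
  have h2 := σ.T_comm_t hx
  exact (hgt.mul_left h2).mul_left hgt.inv_left

theorem two_power_fix {g : L.X} {j : ℕ} (hj : (g : G) ^ 2 ^ j = 1) (hgt : Commute (g : G) σ.t) :
    (g : G) ∈ σ.T := by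
  have hz : IsPGroup 2 (Subgroup.zpowers (g : G)) := by
    obtain ⟨i, -, hi⟩ := (Nat.dvd_prime_pow Nat.prime_two).1 (orderOf_dvd_of_pow_eq_one hj)
    exact IsPGroup.of_card (by rw [Nat.card_zpowers, hi])
  have hTn : Subgroup.zpowers (g : G) ≤ Subgroup.normalizer (σ.T : Set G) := by
    rw [Subgroup.zpowers_le, Subgroup.mem_normalizer_iff]
    intro x
    refine ⟨L.conj_T g.2 hgt, fun h => ?_⟩
    have := L.conj_T (L.X.inv_mem g.2) hgt.inv_left h
    rwa [show (g : G)⁻¹ * ((g : G) * x * (g : G)⁻¹) * (g : G)⁻¹⁻¹ = x by group] at this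
  have hT : IsPGroup 2 σ.T := fun x => ⟨1, Subtype.ext (by simpa [pow_two] using σ.T_sq x.2)⟩
  have hP := IsPGroup.to_sup_of_normal_right' hz hT hTn
  exact σ.mem_T_of_two_group hP (fun v hv => Subgroup.mem_sup_right (σ.V_le_T hv))
    (Subgroup.mem_sup_right σ.t_mem_T) (Subgroup.mem_sup_left (Subgroup.mem_zpowers _)) hgt

/-- An element with trivial displacement acts as an element of odd order. -/
theorem odd_of_fix {g : L.X} (h : L.dV g = 1) : Odd (orderOf (L.rho g)) := by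
  obtain ⟨r, hr, hc⟩ := L.exists_fix h
  set g' : L.X := ⟨r * g, L.X.mul_mem (L.R_le_X hr) g.2⟩
  have hg' : L.rho g' = L.rho g := by
    rw [show g' = (⟨r, L.R_le_X hr⟩ : L.X) * g from rfl, map_mul, L.rho_R (r := ⟨r, L.R_le_X hr⟩) hr, one_mul]
  rw [← hg']
  set d := orderOf (g' : G) with hd
  have hd0 : d ≠ 0 := (orderOf_pos _).ne'
  set j := d.factorization 2
  set o := d / 2 ^ j
  have hodd : Odd o := Nat.not_even_iff_odd.1 fun e =>
    Nat.not_dvd_ordCompl Nat.prime_two hd0 (even_iff_two_dvd.1 e)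
  have hdo : o * 2 ^ j = d := by
    rw [mul_comm]; exact Nat.mul_div_cancel' (Nat.ordProj_dvd d 2)
  have hy : ((g' ^ o : L.X) : G) ^ 2 ^ j = 1 := by
    rw [SubmonoidClass.coe_pow, ← pow_mul, hdo, hd, pow_orderOf_eq_one]
  have hyT : ((g' ^ o : L.X) : G) ∈ σ.T :=
    L.two_power_fix hy (by rw [SubmonoidClass.coe_pow]; exact hc.pow_left _)
  have h1 := L.rho_R (r := g' ^ o) (L.T_le_R hyT)
  rw [map_pow] at h1
  exact hodd.of_dvd_nat (orderOf_dvd_of_pow_eq_one h1)

theorem c_mem_X : L.c ∈ L.X := by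
  have hM : ∀ (j : ℕ) (m : G), m ∈ M → L.c ^ j * m * (L.c ^ j)⁻¹ ∈ M := by
    intro j
    induction j with
    | zero => intro m hm; simpa using hm
    | succ j ih =>
      intro m hm
      rw [pow_succ', show L.c * L.c ^ j * m * (L.c * L.c ^ j)⁻¹ = L.c * (L.c ^ j * m * (L.c ^ j)⁻¹) * L.c⁻¹ by group]
      exact L.c_M _ (ih m hm)
  obtain ⟨j, hj⟩ : ∃ j : ℕ, L.c⁻¹ = L.c ^ j := by
    obtain ⟨j, hj⟩ := (isOfFinOrder_of_finite L.c).mem_powers_iff_mem_zpowers.2
      (Subgroup.inv_mem _ (Subgroup.mem_zpowers L.c))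
    exact ⟨j, hj.symm⟩
  have hR : ∀ x ∈ L.R, L.c * x * L.c⁻¹ ∈ L.R := by
    intro x hx
    rcases hx with h | h
    · exact Or.inl (L.c_M x h)
    · refine Or.inr ?_
      rw [show σ.t * (L.c * x * L.c⁻¹) = σ.t * L.c * x * L.c⁻¹ by group, ← L.c_cent.eq, mul_assoc L.c σ.t x]
      exact L.c_M _ h
  have hR' : ∀ (i : ℕ) (m : G), m ∈ L.R → L.c ^ i * m * (L.c ^ i)⁻¹ ∈ L.R := by
    intro i
    induction i with
    | zero => intro m hm; simpa using hm
    | succ i ih =>
      intro m hm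
      rw [pow_succ', show L.c * L.c ^ i * m * (L.c * L.c ^ i)⁻¹ = L.c * (L.c ^ i * m * (L.c ^ i)⁻¹) * L.c⁻¹ by group]
      exact hR _ (ih m hm)
  refine ⟨Subgroup.mem_normalizer_iff.2 fun m => ⟨hR m, fun hm => ?_⟩,
    Subgroup.mem_normalizer_iff.2 fun m => ⟨L.c_M m, fun hm => ?_⟩⟩
  · have := hR' j _ hm
    rwa [← hj, inv_inv, show L.c⁻¹ * (L.c * m * L.c⁻¹) * L.c = m by group] at this
  · have := hM j _ hm
    rwa [← hj, inv_inv, show L.c⁻¹ * (L.c * m * L.c⁻¹) * L.c = m by group] at this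

/-- `c` inside `X`. -/
def cX : L.X := ⟨L.c, L.c_mem_X⟩

theorem dV_c : L.dV L.cX = 1 := Vsp.ext' (by
  simp only [dV, cX, disp, Vsp.val_mk, Vsp.val_one]
  rw [L.c_cent.eq, mul_inv_cancel_right, σ.invo, L.pw_one])

theorem c_pow_act (j : ℕ) {v : G} (hv : v ∈ σ.V) : L.c ^ j * v * (L.c ^ j)⁻¹ = σ.w ^ j * v * (σ.w ^ j)⁻¹ := by
  induction j generalizing v with
  | zero => simp
  | succ j ih =>
    rw [pow_succ, pow_succ, show L.c ^ j * L.c * v * (L.c ^ j * L.c)⁻¹ = L.c ^ j * (L.c * v * L.c⁻¹) * (L.c ^ j)⁻¹ by group,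
      L.c_act v hv, ih (σ.w_norm v hv)]
    group

theorem dV_c_pow (j : ℕ) : L.dV (L.cX ^ j) = 1 := by
  induction j with
  | zero =>
    rw [pow_zero]
    exact Vsp.ext' (by simp [dV, disp, Vsp.val_mk, Vsp.val_one, σ.invo, L.pw_one])
  | succ j ih =>
    rw [pow_succ, L.dV_mul, ih, L.dV_c, one_mul]
    exact Vsp.ext' (by simp [cV, Vsp.val_mk, Vsp.val_one])

theorem dV_range {g : L.X} (hg : L.dV g ≠ 1) (v : Vsp σ) : ∃ h : L.X, L.dV h = v := by
  rcases eq_or_ne v 1 with rfl | hv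
  · exact ⟨1, Vsp.ext' (by simp [dV, disp, Vsp.val_mk, Vsp.val_one, σ.invo, L.pw_one])⟩
  · obtain ⟨j, hj⟩ := σ.w_trans _ (L.dV g).mem (fun e => hg (Vsp.ext' e)) _ v.mem (fun e => hv (Vsp.ext' e))
    refine ⟨L.cX ^ j * g, ?_⟩
    rw [L.dV_mul, L.dV_c_pow, one_mul]
    refine Vsp.ext' ?_
    simp only [cV, Vsp.val_mk, SubmonoidClass.coe_pow, cX]
    rw [L.c_pow_act j (L.dV g).mem, hj]

/-- The affine group at a level whose displacements are onto `V`. -/
noncomputable def affData (hd : ∀ v : Vsp σ, ∃ g : L.X, L.dV g = v) : AffData L.rho.range (TT σ) where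
  ρ := L.rho.range.subtype
  faithful := L.rho.range.subtype_injective
  V := (⊤ : Subgroup (Vsp σ)).prod ⊥
  t := (1, flag)
  w := ⟨L.rho L.cX, _, rfl⟩
  two x := by
    obtain ⟨a, e⟩ := x
    rcases flag_cases e with rfl | rfl <;> simp [L.vsq, flag_mul]
  not_mem h := flag_ne (Subgroup.mem_prod.1 h).2
  dec x := by
    obtain ⟨a, e⟩ := x
    rcases flag_cases e with rfl | rfl <;> simp [Subgroup.mem_prod, flag_mul]
  inv a v hv := by
    obtain ⟨g, hg⟩ := a.2
    obtain ⟨a', e⟩ := v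
    obtain ⟨-, he⟩ := Subgroup.mem_prod.1 hv
    rw [Subgroup.mem_bot] at he
    have he' : e = 1 := he
    subst he'
    rw [Subgroup.coe_subtype, ← hg, L.rho_V]
    simp [Subgroup.mem_prod]
  trans v hv := by
    obtain ⟨a', e⟩ := v
    have he' : e = 1 := Subgroup.mem_bot.1 (Subgroup.mem_prod.1 hv).2
    subst he'
    obtain ⟨g, hg⟩ := hd a'
    exact ⟨⟨L.rho g, g, rfl⟩, by simp [L.rho_t, hg]⟩
  stab_odd a ha := by
    obtain ⟨g, hg⟩ := a.2
    rw [← Subgroup.orderOf_coe, ← hg]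
    refine L.odd_of_fix ?_
    have h1 : L.rho g (1, flag) = (1, flag) := by rw [hg]; exact ha
    rw [L.rho_t] at h1
    exact (Prod.ext_iff.1 h1).1
  w_fix := by
    show L.rho L.cX (1, flag) = (1, flag)
    rw [L.rho_t, L.dV_c]
  w_trans u hu hu1 v hv hv1 := by
    obtain ⟨a, e⟩ := u
    obtain ⟨b, f⟩ := v
    have he : e = 1 := Subgroup.mem_bot.1 (Subgroup.mem_prod.1 hu).2
    have hf : f = 1 := Subgroup.mem_bot.1 (Subgroup.mem_prod.1 hv).2
    subst he hf
    obtain ⟨j, hj⟩ := σ.w_trans _ a.mem (fun e => hu1 (Prod.ext (Vsp.ext' e) rfl)) _ b.mem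
      (fun e => hv1 (Prod.ext (Vsp.ext' e) rfl))
    refine ⟨j, ?_⟩
    rw [map_pow, Subgroup.coe_subtype, ← map_pow L.rho, L.rho_V]
    refine Prod.ext (Vsp.ext' ?_) rfl
    simp only [cV, Vsp.val_mk, SubmonoidClass.coe_pow, cX]
    rw [L.c_pow_act j a.mem, hj]
  w_normal a ha := by
    obtain ⟨g, hg⟩ := a.2
    have h1 : L.rho g (1, flag) = (1, flag) := by rw [hg]; exact ha
    rw [L.rho_t] at h1
    obtain ⟨r, hr, hc⟩ := L.exists_fix (Prod.ext_iff.1 h1).1
    set g' : L.X := ⟨r * g, L.X.mul_mem (L.R_le_X hr) g.2⟩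
    have hg' : L.rho g' = a := by
      rw [show g' = (⟨r, L.R_le_X hr⟩ : L.X) * g from rfl, map_mul, L.rho_R (r := ⟨r, L.R_le_X hr⟩) hr, one_mul, hg]
    obtain ⟨j, hj⟩ := σ.normal (g' : G) hc (fun v hv => L.conj_V g'.2 hv)
    refine ⟨j, Subtype.ext ?_⟩
    simp only [Subgroup.coe_mul, Subgroup.coe_inv, SubmonoidClass.coe_pow]
    rw [← hg', ← map_inv, ← map_mul, ← map_mul, ← map_pow]
    refine L.rho_ext ?_ fun v hv => ?_
    · have h2 : L.dV g' = 1 := Vsp.ext' (by
        simp only [dV, disp, Vsp.val_mk, Vsp.val_one]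
        rw [hc.eq, mul_inv_cancel_right, σ.invo, L.pw_one])
      have h3 : L.dV g'⁻¹ = 1 := Vsp.ext' (by
        simp only [dV, disp, Vsp.val_mk, Vsp.val_one, Subgroup.coe_inv]
        rw [hc.inv_left.eq, mul_inv_cancel_right, σ.invo, L.pw_one])
      have hone : ∀ g : L.X, L.cV g 1 = 1 := fun g => Vsp.ext' (by simp [cV, Vsp.val_mk, Vsp.val_one])
      rw [L.dV_mul, L.dV_mul, h2, h3, L.dV_c, L.dV_c_pow, hone, hone, one_mul, one_mul]
    · simp only [Subgroup.coe_mul, Subgroup.coe_inv, SubmonoidClass.coe_pow, cX]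
      rw [L.c_pow_act j hv, ← hj v hv]
      have h4 : (g' : G)⁻¹ * v * (g' : G) ∈ σ.V := by
        have := L.conj_V (L.X.inv_mem g'.2) hv
        rwa [inv_inv] at this
      rw [← L.c_act _ h4]
      group

end Level

end CfsgLib.Core.TwoTimesPSL
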