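import Cfsg.Agent.Lib.Classical.SmallIso
import Cfsg.Agent.Lib.Classical.PSLTwoSimple
import Cfsg.Agent.Lib.Fusion.TwoTypes.PSLTwoSylow
import Cfsg.Agent.Lib.Recog.PrimeGraph
import Cfsg.Agent.Lib.TwoGroups.KleinSylow

/-!
# Sylow 2-subgroups of `PSL(2, q)`

`psl_two_sylow_cases`: they are either elementary abelian with an element of odd order in the
normaliser regular on the involutions, or dihedral of order at least `8`.
-/

set_option autoImplicit false
set_option linter.unusedSectionVars false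

namespace CfsgLib.Core.TwoTimesPSL

universe u v

/-- An elementary abelian subgroup with an odd element transitive on its involutions, whose action
is normalised by the whole normaliser. -/
structure TransFacts {P : Type u} [Group P] (Q : Subgroup P) (n : P) : Prop where
  elem : ∀ x ∈ Q, x * x = 1
  four_le : 4 ≤ Nat.card Q
  mem : n ∈ Subgroup.normalizer (Q : Set P)
  odd : Odd (orderOf n)
  trans : ∀ x ∈ Q, x ≠ 1 → ∀ y ∈ Q, y ≠ 1 → ∃ k : ℕ, n ^ k * x * (n ^ k)⁻¹ = y
  normal : ∀ g ∈ Subgroup.normalizer (Q : Set P), ∃ k : ℕ, ∀ x ∈ Q, g * x * g⁻¹ = n ^ k * x * (n ^ k)⁻¹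

theorem TransFacts.map {P : Type u} {P' : Type v} [Group P] [Group P'] (e : P ≃* P') {Q : Subgroup P} {n : P}
    (h : TransFacts Q n) : TransFacts (Q.map e.toMonoidHom) (e n) where
  elem := by
    rintro _ ⟨x, hx, rfl⟩
    show e x * e x = 1
    rw [← map_mul, h.elem x hx, map_one]
  four_le := by rw [Subgroup.card_map_of_injective e.injective]; exact h.four_le
  mem := by
    rw [Subgroup.mem_normalizer_iff]
    intro y
    obtain ⟨x, rfl⟩ := e.surjective y
    rw [← map_inv, ← map_mul, ← map_mul]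
    exact (Subgroup.mem_map_iff_mem e.injective).trans
      ((Subgroup.mem_normalizer_iff.1 h.mem x).trans (Subgroup.mem_map_iff_mem e.injective).symm)
  odd := by rw [MulEquiv.orderOf_eq]; exact h.odd
  trans := by
    rintro _ ⟨x, hx, rfl⟩ hx1 _ ⟨y, hy, rfl⟩ hy1
    obtain ⟨k, hk⟩ := h.trans x hx (fun e' => hx1 (by rw [e']; exact map_one e)) y hy
      (fun e' => hy1 (by rw [e']; exact map_one e))
    exact ⟨k, by show e n ^ k * e x * (e n ^ k)⁻¹ = e y; rw [← hk]; simp⟩
  normal := by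
    intro g hg
    obtain ⟨g, rfl⟩ := e.surjective g
    have hg' : g ∈ Subgroup.normalizer (Q : Set P) := by
      rw [Subgroup.mem_normalizer_iff] at hg ⊢
      intro x
      have := hg (e x)
      rw [← map_inv, ← map_mul, ← map_mul] at this
      exact (Subgroup.mem_map_iff_mem e.injective).symm.trans (this.trans (Subgroup.mem_map_iff_mem e.injective))
    obtain ⟨k, hk⟩ := h.normal g hg'
    refine ⟨k, ?_⟩
    rintro _ ⟨x, hx, rfl⟩
    show e g * e x * (e g)⁻¹ = e n ^ k * e x * (e n ^ k)⁻¹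
    simp only [← map_inv, ← map_mul, ← map_pow, hk x hx]

theorem TransFacts.all_sylow {P : Type u} [Group P] [Finite P] {Q : Sylow 2 P} {n : P}
    (h : TransFacts (Q : Subgroup P) n) (Q' : Sylow 2 P) : ∃ n', TransFacts (Q' : Subgroup P) n' := by
  have : Fact (Nat.Prime 2) := ⟨Nat.prime_two⟩
  obtain ⟨g, rfl⟩ := MulAction.exists_smul_eq P Q Q'
  exact ⟨MulAut.conj g n, by rw [Sylow.coe_subgroup_smul]; exact h.map (MulAut.conj g)⟩

/-- Two elements agreeing on one involution agree on all. -/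
theorem agree {P : Type u} [Group P] [Finite P] {Q : Sylow 2 P} (hK : IsKleinFour (Q : Subgroup P)) {x : P}
    (hx : x ∈ (Q : Subgroup P)) (hx1 : x ≠ 1) {h m : P}
    (hN : h ∈ Subgroup.normalizer ((Q : Subgroup P) : Set P))
    (hmN : m ∈ Subgroup.normalizer ((Q : Subgroup P) : Set P))
    (e : h * x * h⁻¹ = m * x * m⁻¹) : ∀ y ∈ (Q : Subgroup P), h * y * h⁻¹ = m * y * m⁻¹ := by
  intro y hy
  set d := m⁻¹ * h with hd
  have hfix : d * x * d⁻¹ = x := by
    calc d * x * d⁻¹ = m⁻¹ * (h * x * h⁻¹) * m := by rw [hd]; group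
      _ = x := by rw [e]; group
  have hdC := CfsgLib.TwoGroups.mem_centralizer_of_klein_fix Q hK hx hx1 (mul_mem (inv_mem hmN) hN) hfix
  have h1 := Subgroup.mem_centralizer_iff.1 hdC y hy
  calc h * y * h⁻¹ = m * (d * y * d⁻¹) * m⁻¹ := by rw [hd]; group
    _ = m * y * m⁻¹ := by rw [← h1, mul_inv_cancel_right]

/-- Facts for a four-group Sylow subgroup. -/
theorem klein_facts {P : Type u} [Group P] [Finite P] (Q : Sylow 2 P) (hK : IsKleinFour (Q : Subgroup P)) {g : P}
    (hgN : g ∈ Subgroup.normalizer ((Q : Subgroup P) : Set P))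
    (hgC : g ∉ Subgroup.centralizer ((Q : Subgroup P) : Set P))
    (hmove : ∀ {h : P}, h ∈ Subgroup.normalizer ((Q : Subgroup P) : Set P) →
      h ∉ Subgroup.centralizer ((Q : Subgroup P) : Set P) → ∀ x ∈ (Q : Subgroup P), x ≠ 1 →
      h * x * h⁻¹ ≠ x) : ∃ n, TransFacts (Q : Subgroup P) n := by
  haveI := hK
  have hsq : ∀ x ∈ (Q : Subgroup P), x * x = 1 := fun x hx =>
    congrArg Subtype.val (IsKleinFour.mul_self (⟨x, hx⟩ : (Q : Subgroup P)))
  have hcyc : ∀ {h : P}, h ∈ Subgroup.normalizer ((Q : Subgroup P) : Set P) →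
      h ∉ Subgroup.centralizer ((Q : Subgroup P) : Set P) → ∀ x ∈ (Q : Subgroup P), x ≠ 1 →
      ∀ y ∈ (Q : Subgroup P), y ≠ 1 → y = x ∨ y = h * x * h⁻¹ ∨ y = h * (h * x * h⁻¹) * h⁻¹ := by
    intro h hN hC x hx hx1 y hy hy1
    have h1 := (Subgroup.mem_normalizer_iff.1 hN x).1 hx
    have h11 : h * x * h⁻¹ ≠ 1 := fun e => hx1 (conj_eq_one_iff.1 e)
    have hne := (hmove hN hC x hx hx1).symm
    have h2 := (Subgroup.mem_normalizer_iff.1 hN _).1 h1
    have h22 : h * (h * x * h⁻¹) * h⁻¹ ≠ 1 := fun e => h11 (conj_eq_one_iff.1 e)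
    rcases CfsgLib.TwoGroups.klein_cases hK hx h1 hx1 h11 hne hy with e | e | e | e
    · exact absurd e hy1
    · exact Or.inl e
    · exact Or.inr (Or.inl e)
    · refine Or.inr (Or.inr ?_)
      rcases CfsgLib.TwoGroups.klein_cases hK hx h1 hx1 h11 hne h2 with e' | e' | e' | e'
      · exact absurd e' h22
      · exfalso
        refine hmove hN hC y hy hy1 ?_
        rw [e, show h * (x * (h * x * h⁻¹)) * h⁻¹ = h * x * h⁻¹ * (h * (h * x * h⁻¹) * h⁻¹) by group, e',
          CfsgLib.TwoGroups.klein_commute hK h1 hx]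
      · exact absurd e' (hmove hN hC _ h1 h11)
      · rw [e', e]
  -- an odd power of `g`
  obtain ⟨a, o, hodd, hord⟩ := Nat.exists_eq_two_pow_mul_odd (orderOf_pos g).ne'
  obtain ⟨j, hj0, hj1⟩ := Nat.chineseRemainder (Nat.Coprime.pow_left a hodd.coprime_two_left) 0 1
  have hnN := pow_mem hgN j
  have hnC : g ^ j ∉ Subgroup.centralizer ((Q : Subgroup P) : Set P) := by
    intro hc
    refine hgC ?_
    have hq : g ^ o ∈ (Q : Subgroup P) := CfsgLib.TwoGroups.mem_sylow_of_mem_normalizer Q (pow_mem hgN o)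
      ⟨a, by rw [← pow_mul, mul_comm, ← hord, pow_orderOf_eq_one]⟩
    have hqC : g ^ o ∈ Subgroup.centralizer ((Q : Subgroup P) : Set P) :=
      Subgroup.mem_centralizer_iff.2 fun u hu => CfsgLib.TwoGroups.klein_commute hK hu hq
    have hco : Nat.Coprime o j := by
      have := hj1.gcd_eq
      rw [Nat.gcd_one_left] at this
      rw [Nat.coprime_comm]
      exact this
    have h1 : g ^ ((Nat.gcd o j : ℕ) : ℤ) ∈ Subgroup.centralizer ((Q : Subgroup P) : Set P) := by
      rw [Nat.gcd_eq_gcd_ab, zpow_add, zpow_mul, zpow_mul, zpow_natCast, zpow_natCast]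
      exact mul_mem (zpow_mem hqC _) (zpow_mem hc _)
    rwa [hco, Nat.cast_one, zpow_one] at h1
  refine ⟨g ^ j, ⟨hsq, ?_, hnN, ?_, ?_, ?_⟩⟩
  · rw [IsKleinFour.card_four]
  · refine hodd.of_dvd_nat (orderOf_dvd_of_pow_eq_one ?_)
    rw [← pow_mul]
    obtain ⟨i, rfl⟩ := Nat.modEq_zero_iff_dvd.1 hj0
    rw [show 2 ^ a * i * o = 2 ^ a * o * i by ring, ← hord, pow_mul, pow_orderOf_eq_one, one_pow]
  · intro x hx hx1 y hy hy1
    rcases hcyc hnN hnC x hx hx1 y hy hy1 with e | e | e
    · exact ⟨0, by rw [e]; simp⟩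
    · exact ⟨1, by rw [e, pow_one]⟩
    · exact ⟨2, by rw [e, pow_two]; group⟩
  · intro h hN
    by_cases hC : h ∈ Subgroup.centralizer ((Q : Subgroup P) : Set P)
    · exact ⟨0, fun x hx => by rw [← Subgroup.mem_centralizer_iff.1 hC x hx]; simp⟩
    obtain ⟨x, hx, hx1⟩ : ∃ x ∈ (Q : Subgroup P), x ≠ 1 := by
      by_contra hcon
      push Not at hcon
      have h4 : Nat.card (Q : Subgroup P) = 4 := IsKleinFour.card_four
      have h1 : Nat.card (Q : Subgroup P) = 1 := by
        rw [Subgroup.card_eq_one, Subgroup.eq_bot_iff_forall]; exact hcon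
      omega
    have hy := (Subgroup.mem_normalizer_iff.1 hN x).1 hx
    have hy1 : h * x * h⁻¹ ≠ 1 := fun e => hx1 (conj_eq_one_iff.1 e)
    rcases hcyc hnN hnC x hx hx1 _ hy hy1 with e | e | e
    · exact absurd e (hmove hN hC x hx hx1)
    · exact ⟨1, agree hK hx hx1 hN (pow_mem hnN 1) (by rw [pow_one]; exact e)⟩
    · exact ⟨2, agree hK hx hx1 hN (pow_mem hnN 2) (by rw [e, pow_two]; group)⟩

section SL

open Matrix

open scoped MatrixGroups

variable {F : Type*} [Field F]

/-- The upper unipotent matrices. -/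
def upperUni : Subgroup SL(2, F) where
  carrier := {x | x 0 0 = 1 ∧ x 1 1 = 1 ∧ x 1 0 = 0}
  one_mem' := by simp
  mul_mem' := fun {a b} ha hb => by
    simp only [Set.mem_ofPred_eq] at ha hb ⊢
    simp [SpecialLinearGroup.coe_mul, Matrix.mul_apply, Fin.sum_univ_two, ha, hb]
  inv_mem' := fun {a} ha => by
    simp only [Set.mem_ofPred_eq] at ha ⊢
    simp [SpecialLinearGroup.coe_inv, Matrix.adjugate_fin_two, ha]

theorem mem_upperUni {x : SL(2, F)} : x ∈ (upperUni : Subgroup SL(2, F)) ↔ x 0 0 = 1 ∧ x 1 1 = 1 ∧ x 1 0 = 0 :=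
  Iff.rfl

/-- The unipotent element with entry `b`. -/
def uni (b : F) : SL(2, F) := ⟨!![1, b; 0, 1], by simp [Matrix.det_fin_two]⟩

@[simp] theorem uni_val (b : F) : (uni b).1 = !![1, b; 0, 1] := rfl

theorem uni_mem (b : F) : uni b ∈ (upperUni : Subgroup SL(2, F)) :=
  mem_upperUni.2 ⟨by simp, by simp, by simp⟩

/-- The diagonal element with first entry `a`. -/
def dg (a : Fˣ) : SL(2, F) := ⟨!![(a : F), 0; 0, ((a⁻¹ : Fˣ) : F)], by simp [Matrix.det_fin_two]⟩

@[simp] theorem dg_val (a : Fˣ) : (dg a).1 = !![(a : F), 0; 0, ((a⁻¹ : Fˣ) : F)] := rfl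

theorem dg_mul (a b : Fˣ) : dg a * dg b = dg (a * b) := by
  refine Subtype.ext (Matrix.ext fun i j => ?_)
  fin_cases i <;> fin_cases j <;> simp [mul_comm]

theorem dg_one : dg (1 : Fˣ) = 1 := by
  refine Subtype.ext (Matrix.ext fun i j => ?_)
  fin_cases i <;> fin_cases j <;> simp

theorem dg_pow (a : Fˣ) (k : ℕ) : dg a ^ k = dg (a ^ k) := by
  induction k with
  | zero => rw [pow_zero, pow_zero, dg_one]
  | succ k ih => rw [pow_succ, ih, dg_mul, pow_succ]

theorem dg_low (a : Fˣ) : (dg a).1 1 0 = 0 := by simp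

theorem eq_uni {x : SL(2, F)} (hx : x ∈ (upperUni : Subgroup SL(2, F))) : x = uni (x 0 1) := by
  obtain ⟨h1, h2, h3⟩ := hx
  refine Subtype.ext (Matrix.ext fun i j => ?_)
  fin_cases i <;> fin_cases j <;> simp [h1, h2, h3]

theorem uni_injective : Function.Injective (uni (F := F)) := fun a b h => by
  simpa using congrArg (fun x : SL(2, F) => x.1 0 1) h

theorem uni_mul (a b : F) : uni a * uni b = uni (b + a) := by
  refine Subtype.ext (Matrix.ext fun i j => ?_)
  fin_cases i <;> fin_cases j <;> simp [Matrix.mul_apply, Fin.sum_univ_two, add_comm]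

theorem uni_zero : uni (0 : F) = 1 := by
  refine Subtype.ext (Matrix.ext fun i j => ?_)
  fin_cases i <;> fin_cases j <;> simp

theorem upper_conj {g : SL(2, F)} (hg : g 1 0 = 0) (b : F) :
    g * uni b * g⁻¹ = uni (g 0 0 * g 0 0 * b) := by
  rw [mul_inv_eq_iff_eq_mul]
  have hdet : g 0 0 * g 1 1 = 1 := by
    have := g.2
    rw [Matrix.det_fin_two] at this
    have hg' : g.1 1 0 = 0 := hg
    rw [hg', mul_zero, sub_zero] at this
    exact this
  refine Subtype.ext (Matrix.ext fun i j => ?_)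
  fin_cases i <;> fin_cases j <;> simp [Matrix.mul_apply, Fin.sum_univ_two, hg]
  linear_combination (-(g 0 0 * b)) * hdet

variable [Fintype F]

theorem upperUni_facts [CharP F 2] (hF : 3 < Fintype.card F) :
    ∃ n : SL(2, F), TransFacts (upperUni : Subgroup SL(2, F)) n := by
  classical
  obtain ⟨a, ha⟩ := IsCyclic.exists_generator (α := Fˣ)
  set n : SL(2, F) := dg a with hndef
  have hn : n.1 1 0 = 0 := dg_low a
  have hsurj : Function.Surjective (fun x : F => x * x) := by
    refine Finite.injective_iff_surjective.1 fun x y h => ?_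
    have h2 : (x - y) * (x - y) = 0 := by
      have hxy : x * x = y * y := h
      linear_combination hxy + (y * y - x * y) * (CharTwo.two_eq_zero (R := F))
    exact sub_eq_zero.1 (mul_self_eq_zero.1 h2)
  have hpow : ∀ k : ℕ, (n ^ k).1 1 0 = 0 ∧ (n ^ k).1 0 0 = (a : F) ^ k := by
    intro k
    rw [hndef, dg_pow]
    simp
  refine ⟨n, ⟨fun x hx => ?_, ?_, ?_, ?_, ?_, ?_⟩⟩
  · rw [eq_uni hx, uni_mul, CharTwo.add_self_eq_zero, uni_zero]
  · have : Nat.card (upperUni : Subgroup SL(2, F)) = Nat.card F :=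
      (Nat.card_congr
        { toFun := fun b => ⟨uni b, uni_mem b⟩
          invFun := fun x => x.1 0 1
          left_inv := fun b => by simp
          right_inv := fun x => Subtype.ext (eq_uni x.2).symm }).symm
    rw [this, Nat.card_eq_fintype_card]
    omega
  · rw [Subgroup.mem_normalizer_iff]
    intro x
    constructor
    · intro hx
      rw [eq_uni hx, upper_conj hn]
      exact uni_mem _
    · intro hx
      have hn' : (n⁻¹ : SL(2, F)).1 1 0 = 0 := by
        simp [hndef, Matrix.adjugate_fin_two]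
      have h := upper_conj hn' ((n * x * n⁻¹) 0 1)
      rw [← eq_uni hx, show n⁻¹ * (n * x * n⁻¹) * n⁻¹⁻¹ = x by group] at h
      rw [h]
      exact uni_mem _
  · refine Odd.of_dvd_nat (n := Nat.card Fˣ) ?_ (orderOf_dvd_of_pow_eq_one ?_)
    · rw [Nat.card_eq_fintype_card, Fintype.card_units]
      obtain ⟨d, -, hd⟩ := FiniteField.card F 2
      rw [hd]
      exact Nat.Even.sub_odd (Nat.one_le_two_pow) (Nat.even_pow.2 ⟨even_two, d.ne_zero⟩) odd_one
    · rw [hndef, dg_pow, pow_card_eq_one', dg_one]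
  · intro x hx hx1 y hy hy1
    rw [eq_uni hx] at hx1 ⊢
    rw [eq_uni hy] at hy1 ⊢
    have hx0 : x 0 1 ≠ 0 := fun e => hx1 (by rw [e, uni_zero])
    have hy0 : y 0 1 ≠ 0 := fun e => hy1 (by rw [e, uni_zero])
    obtain ⟨r, hr⟩ := hsurj (y 0 1 / x 0 1)
    have hr0 : r ≠ 0 := fun e => div_ne_zero hy0 hx0 (by rw [← hr]; simp [e])
    obtain ⟨k, hk⟩ := (isOfFinOrder_of_finite a).mem_powers_iff_mem_zpowers.2 (ha (Units.mk0 r hr0))
    refine ⟨k, ?_⟩
    rw [upper_conj (hpow k).1, (hpow k).2]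
    congr 1
    have hk' : (a : F) ^ k = r := by simpa using congrArg Units.val hk
    rw [hk', show r * r = y 0 1 / x 0 1 from hr, div_mul_cancel₀ _ hx0]
  · intro g hg
    have hg0 : g 1 0 = 0 := by
      have h := (Subgroup.mem_normalizer_iff.1 hg (uni 1)).1 (uni_mem 1)
      obtain ⟨b, hb⟩ : ∃ b, g * uni 1 = uni b * g := ⟨_, mul_inv_eq_iff_eq_mul.1 (eq_uni h)⟩
      have := congrArg (fun x : SL(2, F) => x 1 1) hb
      simpa [SpecialLinearGroup.coe_mul, Matrix.mul_apply, Fin.sum_univ_two] using this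
    have hdet : g.1 0 0 * g.1 1 1 = 1 := by
      have := g.2
      rw [Matrix.det_fin_two] at this
      have hg1 : g.1 1 0 = 0 := hg0
      rw [hg1, mul_zero, sub_zero] at this
      exact this
    have hg00 : g.1 0 0 ≠ 0 := left_ne_zero_of_mul_eq_one hdet
    obtain ⟨k, hk⟩ := (isOfFinOrder_of_finite a).mem_powers_iff_mem_zpowers.2 (ha (Units.mk0 _ hg00))
    refine ⟨k, fun x hx => ?_⟩
    rw [eq_uni hx, upper_conj hg0, upper_conj (hpow k).1, (hpow k).2]
    have hk' : (a : F) ^ k = g.1 0 0 := by simpa using congrArg Units.val hk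
    rw [hk']

end SL

/-- The Sylow 2-subgroups of `PSL(2, F)`. -/
theorem psl_two_sylow_cases {F : Type*} [Field F] [Fintype F] (hF : 3 < Fintype.card F) :
    (∀ Q : Sylow 2 (Matrix.ProjectiveSpecialLinearGroup (Fin 2) F), ∃ n, TransFacts (Q : Subgroup (Matrix.ProjectiveSpecialLinearGroup (Fin 2) F)) n) ∨
      ∀ Q : Sylow 2 (Matrix.ProjectiveSpecialLinearGroup (Fin 2) F), ∃ k : ℕ, 2 ≤ k ∧
        Nonempty ((Q : Subgroup (Matrix.ProjectiveSpecialLinearGroup (Fin 2) F)) ≃* DihedralGroup (2 ^ k)) := by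
  classical
  have : Fact (Nat.Prime 2) := ⟨Nat.prime_two⟩
  have hcardP := CfsgLib.Classical.Two.card_PSL_two (F := F)
  rcases Nat.mod_two_eq_zero_or_one (Fintype.card F) with heven | hodd
  · left
    have : CharP F 2 := ringChar.of_eq (FiniteField.even_card_iff_char_two.2 heven)
    obtain ⟨e⟩ := CfsgLib.Recog.AffineTwo.psl_equiv_sl F
    obtain ⟨n, hn⟩ := upperUni_facts hF
    obtain ⟨d, -, hd⟩ := FiniteField.card F 2
    set U := (upperUni : Subgroup (Matrix.SpecialLinearGroup (Fin 2) F)).map e.symm.toMonoidHom with hU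
    have hcardU : Nat.card U = 2 ^ (d : ℕ) := by
      rw [hU, Subgroup.card_map_of_injective e.symm.injective, ← hd, ← Nat.card_eq_fintype_card]
      exact (Nat.card_congr
        { toFun := fun b => ⟨uni b, uni_mem b⟩
          invFun := fun x => x.1 0 1
          left_inv := fun b => by simp
          right_inv := fun x => Subtype.ext (eq_uni x.2).symm }).symm
    have hidx : ¬ 2 ∣ U.index := by
      have h1 := Subgroup.card_mul_index U
      rw [hcardU] at h1
      have hg : Nat.gcd 2 (Fintype.card F - 1) = 1 := by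
        refine (Nat.prime_two.coprime_iff_not_dvd).2 ?_
        have : 1 ≤ Fintype.card F := Fintype.card_pos
        omega
      rw [hg, one_mul, ← h1, hd] at hcardP
      intro h2
      have h3 := Nat.eq_of_mul_eq_mul_left (by positivity) hcardP
      rw [h3] at h2
      have : 2 ∣ (2 ^ (d : ℕ)) ^ 2 := dvd_pow (dvd_pow_self 2 d.ne_zero) two_ne_zero
      have : 1 ≤ (2 ^ (d : ℕ)) ^ 2 := Nat.one_le_pow _ _ (by positivity)
      omega
    obtain ⟨Q0, hQ0⟩ : ∃ Q0 : Sylow 2 (Matrix.ProjectiveSpecialLinearGroup (Fin 2) F), (Q0 : Subgroup _) = U :=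
      ⟨(IsPGroup.of_card hcardU).toSylow hidx, IsPGroup.toSylow_coe _ _⟩
    intro Q
    exact TransFacts.all_sylow (Q := Q0) (n := e.symm n) (hQ0 ▸ hn.map e.symm) Q
  · by_cases h16 : 16 ∣ Fintype.card F ^ 2 - 1
    · exact Or.inr (CfsgLib.Fusion.psl_two_sylow_dihedral_order_ge_eight hodd h16)
    left
    intro Q
    have := CfsgLib.Classical.isSimpleGroup_PSL_two (F := F) (by omega)
    set P := Matrix.ProjectiveSpecialLinearGroup (Fin 2) F
    set q := Fintype.card F
    have hg : Nat.gcd 2 (q - 1) = 2 := Nat.gcd_eq_left (by omega)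
    rw [hg] at hcardP
    have h8 : 8 ∣ q ^ 2 - 1 := by
      obtain ⟨m, hm⟩ : ∃ m, q = 2 * m + 1 := ⟨q / 2, by omega⟩
      rw [hm, show (2 * m + 1) ^ 2 - 1 = 4 * (m * (m + 1)) by
        rw [show (2 * m + 1) ^ 2 = 4 * (m * (m + 1)) + 1 by ring, Nat.add_sub_cancel]]
      obtain ⟨j, hj⟩ := Nat.even_mul_succ_self m
      exact ⟨j, by rw [hj]; ring⟩
    obtain ⟨j, hj⟩ := h8
    have hjodd : ¬ 2 ∣ j := fun ⟨i, hi⟩ => h16 ⟨i, by rw [hj, hi]; ring⟩
    have hcard : Nat.card P = 2 ^ 2 * (q * j) := by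
      refine Nat.eq_of_mul_eq_mul_left two_pos ?_
      rw [hcardP, hj]; ring
    have hQ4 : Nat.card Q = 4 := by
      have h := Subgroup.card_mul_index (Q : Subgroup P)
      have h2 := Q.not_dvd_index
      obtain ⟨m, hm⟩ := IsPGroup.iff_card.1 Q.isPGroup'
      have hm' : Nat.card P = 2 ^ m * (Q : Subgroup P).index := by rw [← h, ← hm]
      have hodd' : ¬ 2 ∣ q * j := fun h' => (Nat.prime_two.dvd_mul.1 h').elim (by omega) hjodd
      have e1 : padicValNat 2 (Nat.card P) = m := by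
        rw [hm', padicValNat.mul (by positivity) Subgroup.index_ne_zero_of_finite, padicValNat.prime_pow,
          padicValNat.eq_zero_of_not_dvd h2, add_zero]
      have e2 : padicValNat 2 (Nat.card P) = 2 := by
        rw [hcard, padicValNat.mul (by positivity) (fun e => hodd' (by rw [e]; exact dvd_zero 2)), padicValNat.prime_pow,
          padicValNat.eq_zero_of_not_dvd hodd', add_zero]
      show Nat.card (Q : Subgroup P) = 4
      rw [hm, ← e1, e2]
      rfl
    have hnocomp : ¬ Cfsg.HasNormalPComplement 2 P := by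
      intro h
      obtain ⟨K, hK, hKQ⟩ := (CfsgLib.Transfer.exists_complement_iff Q).2 h
      have h1 := hKQ.card_mul_card
      rw [show Nat.card (Q : Subgroup P) = 4 from hQ4] at h1
      rcases hK.eq_bot_or_eq_top with rfl | rfl
      · rw [Subgroup.card_bot, one_mul] at h1
        rw [← h1] at hcard
        have : 2 ≤ q * j := by
          have : 1 ≤ j := Nat.one_le_iff_ne_zero.2 fun e => hjodd (e ▸ dvd_zero 2)
          nlinarith
        omega
      · rw [Subgroup.card_top] at h1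
        have : 0 < Nat.card P := Nat.card_pos
        have h1' : Nat.card P * 4 = Nat.card P := h1
        omega
    obtain ⟨g, hgN, hgC⟩ : ∃ g ∈ Subgroup.normalizer ((Q : Subgroup P) : Set P),
        g ∉ Subgroup.centralizer ((Q : Subgroup P) : Set P) := by
      by_contra hno
      push Not at hno
      exact hnocomp (CfsgLib.TwoGroups.hasNormalPComplement_of_normalizer_le Q hno)
    have hK : IsKleinFour (Q : Subgroup P) := by
      rcases Classical.em (IsKleinFour (Q : Subgroup P)) with h | h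
      · exact h
      exfalso
      have hcyc : IsCyclic (Q : Subgroup P) := by
        by_contra hc
        exact h ⟨hQ4, (not_isCyclic_iff_exponent_eq_prime Nat.prime_two (by rw [hQ4]; norm_num)).1 hc⟩
      refine hgC ?_
      exact (IsCyclic.normalizer_le_centralizer (P := Q)
        ((Nat.minFac_eq_two_iff _).2 ⟨2 * (q * j), by
          show Nat.card P = _
          rw [hcard]; ring⟩) hcyc) hgN
    have hgmove : ∀ {h : P}, h ∈ Subgroup.normalizer ((Q : Subgroup P) : Set P) →
        h ∉ Subgroup.centralizer ((Q : Subgroup P) : Set P) → ∀ x ∈ (Q : Subgroup P), x ≠ 1 →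
        h * x * h⁻¹ ≠ x := fun {h} hN hC x hx hx1 e =>
      hC (CfsgLib.TwoGroups.mem_centralizer_of_klein_fix Q hK hx hx1 hN e)
    exact klein_facts Q hK hgN hgC hgmove

end CfsgLib.Core.TwoTimesPSL
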