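import Cfsg.Agent.Lib.Core.TwoTimesPSL.Orbit
import Cfsg.Agent.Lib.Core.TwoTimesPSL.Level
import Cfsg.Agent.Lib.Core.TwoTimesPSL.PSLFacts
import Cfsg.Agent.Lib.Core.Cores
import Cfsg.Prelude.Def_CaseTheorems

/-!
# An involution centraliser with `2`-generated core quotient `Z₂ × P`

`CentData G t P`: a normal subgroup of `C(t)` containing its 2-elements, mapping onto `Z₂ × P` with
kernel of odd order. A Sylow 2-subgroup is `⟨t⟩ × D` with `D` a copy of one of `P`, and normalising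
elements lift.
-/

set_option autoImplicit false
set_option linter.unusedSectionVars false

namespace CfsgLib.Core.TwoTimesPSL

universe u v

variable {G : Type u} [Group G]

/-- The centraliser data. -/
structure CentData (G : Type u) [Group G] (t : G) (P : Type v) [Group P] where
  L : Subgroup G
  le : ∀ x ∈ L, Commute x t
  normal : ∀ g : G, Commute g t → ∀ x ∈ L, g * x * g⁻¹ ∈ L
  f : L →* Multiplicative (ZMod 2) × P
  surj : Function.Surjective f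
  ker_odd : ∀ x : L, f x = 1 → Odd (orderOf x)
  two : ∀ x : G, Commute x t → (∃ k : ℕ, x ^ 2 ^ k = 1) → x ∈ L
  t_mem : t ∈ L
  f_t : f ⟨t, t_mem⟩ = (flag, 1)
  t_sq : t * t = 1

/-- A 2-group quotient by elements of odd order is injective. -/
theorem eq_one_of_odd_of_two {x : G} (hodd : Odd (orderOf x)) {k : ℕ} (hk : x ^ 2 ^ k = 1) : x = 1 := by
  obtain ⟨j, -, hj⟩ := (Nat.dvd_prime_pow Nat.prime_two).1 (orderOf_dvd_of_pow_eq_one hk)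
  rw [hj] at hodd
  rcases Nat.eq_zero_or_pos j with h0 | h0
  · rw [h0, pow_zero] at hj; exact orderOf_eq_one_iff.1 hj
  · exact absurd hodd (by simp [parity_simps, h0.ne'])

namespace CentData

variable {t : G} {P : Type v} [Group P] (Δ : CentData G t P)

include Δ

/-- The projection onto `P`. -/
def proj : Δ.L →* P := (MonoidHom.snd _ _).comp Δ.f

/-- The projection onto `Z₂`. -/
def sgn : Δ.L →* Multiplicative (ZMod 2) := (MonoidHom.fst _ _).comp Δ.f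

theorem proj_surj : Function.Surjective Δ.proj := fun p =>
  (Δ.surj (1, p)).imp fun x hx => by simp [proj, hx]

theorem proj_t : Δ.proj ⟨t, Δ.t_mem⟩ = 1 := by simp [proj, Δ.f_t]

theorem sgn_t : Δ.sgn ⟨t, Δ.t_mem⟩ = flag := by simp [sgn, Δ.f_t]

theorem f_eq (x : Δ.L) : Δ.f x = (Δ.sgn x, Δ.proj x) := rfl

theorem kill {x : G} (hx : x ∈ Δ.L) (h2 : ∃ k, x ^ 2 ^ k = 1) (hs : Δ.sgn ⟨x, hx⟩ = 1)
    (hp : Δ.proj ⟨x, hx⟩ = 1) : x = 1 := by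
  obtain ⟨k, hk⟩ := h2
  have h := Δ.ker_odd ⟨x, hx⟩ (by rw [Δ.f_eq, hs, hp]; rfl)
  rw [← Subgroup.orderOf_coe] at h
  exact eq_one_of_odd_of_two h hk

variable [Finite G]

/-- With `P` perfect, conjugation in `C(t)` preserves the sign. -/
theorem sgn_conj (hP : ∀ ψ : P →* Multiplicative (ZMod 2), ψ = 1) {g : G} (hg : Commute g t) (x : Δ.L) :
    Δ.sgn ⟨g * x * g⁻¹, Δ.normal g hg x x.2⟩ = Δ.sgn x := by
  let c : Δ.L →* Multiplicative (ZMod 2) :=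
    Δ.sgn.comp (MonoidHom.mk' (fun y => (⟨g * y * g⁻¹, Δ.normal g hg y y.2⟩ : Δ.L))
      fun a b => Subtype.ext (by simp [conj_mul]))
  have hodd : ∀ y : Δ.L, Δ.f y = 1 → c y = 1 := by
    intro y hy
    obtain ⟨m, hm⟩ := Δ.ker_odd y hy
    have h2 : ∀ e : Multiplicative (ZMod 2), e ^ (2 * m + 1) = e := fun e => by
      rcases flag_cases e with rfl | rfl <;> simp [pow_succ, pow_mul, flag_mul]
    rw [← h2 (c y), ← map_pow, ← hm, pow_orderOf_eq_one, map_one]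
  -- `c` factors through `f`
  choose s hs using Δ.surj
  have hfac : ∀ y, c y = c (s (Δ.f y)) := fun y => by
    have := hodd (y * (s (Δ.f y))⁻¹) (by rw [map_mul, map_inv, hs, mul_inv_cancel])
    rw [map_mul, map_inv, mul_inv_eq_one] at this
    exact this
  let ψ : P →* Multiplicative (ZMod 2) := MonoidHom.mk' (fun p => c (s (1, p))) fun a b => by
    rw [← map_mul, hfac (s (1, a) * s (1, b)), map_mul, hs, hs, Prod.mk_mul_mk, one_mul]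
  have hψ : ∀ p, c (s (1, p)) = 1 := fun p => DFunLike.congr_fun (hP ψ) p
  have ht : c ⟨t, Δ.t_mem⟩ = flag := by
    show Δ.sgn ⟨g * t * g⁻¹, _⟩ = flag
    rw [← Δ.sgn_t]
    congr 1
    exact Subtype.ext (by show g * t * g⁻¹ = t; rw [hg.eq, mul_inv_cancel_right])
  have key : ∀ y, c y = Δ.sgn y := by
    intro y
    rcases flag_cases (Δ.sgn y) with e | e
    · rw [e, hfac, Δ.f_eq, e, hψ]
    · have h1 : Δ.f (⟨t, Δ.t_mem⟩ * y) = (1, Δ.proj y) := by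
        rw [map_mul, Δ.f_t, Δ.f_eq, e, Prod.mk_mul_mk, flag_mul, one_mul]
      have h2 : c (⟨t, Δ.t_mem⟩ * y) = 1 := by rw [hfac, h1, hψ]
      rw [map_mul, ht] at h2
      rw [e]
      rcases flag_cases (c y) with e' | e'
      · rw [e', mul_one] at h2; exact absurd h2 flag_ne
      · exact e'
  exact key x

/-- A Sylow 2-subgroup of `C(t)` with its decomposition. -/
structure SylowData (T D : Subgroup G) (Q : Sylow 2 P) : Prop where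
  two : IsPGroup 2 T
  le_L : T ≤ Δ.L
  t_mem : t ∈ T
  max : ∀ R : Subgroup G, IsPGroup 2 R → (∀ x ∈ R, Commute x t) → T ≤ R → R ≤ T
  mem_D : ∀ x, x ∈ D ↔ ∃ h : x ∈ Δ.L, x ∈ T ∧ Δ.sgn ⟨x, h⟩ = 1
  proj_mem : ∀ x (h : x ∈ Δ.L), x ∈ T → Δ.proj ⟨x, h⟩ ∈ (Q : Subgroup P)
  proj_surj : ∀ q ∈ (Q : Subgroup P), ∃ x ∈ D, ∃ h : x ∈ Δ.L, Δ.proj ⟨x, h⟩ = q

theorem exists_sylowData : ∃ (T D : Subgroup G) (Q : Sylow 2 P), Δ.SylowData T D Q := by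
  have : Fact (Nat.Prime 2) := ⟨Nat.prime_two⟩
  have hz : IsPGroup 2 (Subgroup.zpowers (⟨t, Δ.t_mem⟩ : Δ.L)) := by
    have ht2 : (⟨t, Δ.t_mem⟩ : Δ.L) ^ 2 = 1 := Subtype.ext (by rw [pow_two]; exact Δ.t_sq)
    exact IsPGroup.of_card (n := 1) (by
      rw [Nat.card_zpowers, pow_one]
      exact orderOf_eq_prime ht2 fun e => by
        have := Δ.f_t; rw [e, map_one] at this; exact flag_ne (congrArg Prod.fst this).symm)
  obtain ⟨T0, hT0⟩ := hz.exists_le_sylow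
  let Q : Sylow 2 P := T0.mapSurjective Δ.proj_surj
  have hQ : (Q : Subgroup P) = (T0 : Subgroup Δ.L).map Δ.proj := Sylow.coe_mapSurjective ..
  set T := (T0 : Subgroup Δ.L).map Δ.L.subtype with hT
  have hTmem : ∀ {x : Δ.L}, (x : G) ∈ T ↔ x ∈ (T0 : Subgroup Δ.L) := fun {x} =>
    ⟨fun ⟨y, hy, e⟩ => (Subtype.ext e : y = x) ▸ hy, fun h => ⟨x, h, rfl⟩⟩
  have htT : t ∈ T := (hTmem (x := ⟨t, Δ.t_mem⟩)).2 (hT0 (Subgroup.mem_zpowers _))
  refine ⟨T, ((T0 : Subgroup Δ.L) ⊓ Δ.sgn.ker).map Δ.L.subtype, Q, ⟨T0.isPGroup'.map _,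
    Subgroup.map_subtype_le _, htT, ?_, ?_, ?_, ?_⟩⟩
  · intro R hR hRt hle x hx
    have hRL : R ≤ Δ.L := fun y hy => by
      obtain ⟨k, hk⟩ := hR ⟨y, hy⟩
      exact Δ.two y (hRt y hy) ⟨k, congrArg Subtype.val hk⟩
    have h1 : (T0 : Subgroup Δ.L) ≤ R.subgroupOf Δ.L := fun y hy =>
      Subgroup.mem_subgroupOf.2 (hle (hTmem.2 hy))
    have h2 := T0.3 (hR.comap_subtype) h1
    exact (hTmem (x := ⟨x, hRL hx⟩)).2 (h2 ▸ Subgroup.mem_subgroupOf.2 hx)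
  · intro x
    constructor
    · rintro ⟨y, ⟨hy, hy'⟩, rfl⟩
      exact ⟨y.2, hTmem.2 hy, hy'⟩
    · rintro ⟨h, hx, hs⟩
      exact ⟨⟨x, h⟩, ⟨(hTmem (x := ⟨x, h⟩)).1 hx, hs⟩, rfl⟩
  · intro x h hx
    rw [hQ]
    exact ⟨⟨x, h⟩, (hTmem (x := ⟨x, h⟩)).1 hx, rfl⟩
  · intro q hq
    rw [hQ] at hq
    obtain ⟨y, hy, rfl⟩ := hq
    rcases flag_cases (Δ.sgn y) with e | e
    · exact ⟨y, ⟨y, ⟨hy, e⟩, rfl⟩, y.2, rfl⟩
    · have hts : Δ.sgn (⟨t, Δ.t_mem⟩ * y) = 1 := by rw [map_mul, Δ.sgn_t, e, flag_mul]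
      refine ⟨_, ⟨⟨t, Δ.t_mem⟩ * y, ⟨mul_mem (hT0 (Subgroup.mem_zpowers _)) hy, hts⟩, rfl⟩,
        ((⟨t, Δ.t_mem⟩ : Δ.L) * y).2, ?_⟩
      show Δ.proj (⟨t, Δ.t_mem⟩ * y) = _
      rw [map_mul, Δ.proj_t, one_mul]

variable {Δ} {T D : Subgroup G} {Q : Sylow 2 P}

theorem SylowData.D_le (h : Δ.SylowData T D Q) : D ≤ T := fun x hx => ((h.mem_D x).1 hx).2.1

theorem SylowData.two_pow (h : Δ.SylowData T D Q) {x : G} (hx : x ∈ T) : ∃ k, x ^ 2 ^ k = 1 := by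
  obtain ⟨k, hk⟩ := h.two ⟨x, hx⟩
  exact ⟨k, congrArg Subtype.val hk⟩

theorem SylowData.cases (h : Δ.SylowData T D Q) {x : G} (hx : x ∈ T) : x ∈ D ∨ t * x ∈ D := by
  rcases flag_cases (Δ.sgn ⟨x, h.le_L hx⟩) with e | e
  · exact Or.inl ((h.mem_D x).2 ⟨_, hx, e⟩)
  · refine Or.inr ((h.mem_D _).2 ⟨Δ.L.mul_mem Δ.t_mem (h.le_L hx), T.mul_mem h.t_mem hx, ?_⟩)
    show Δ.sgn (⟨t, Δ.t_mem⟩ * ⟨x, h.le_L hx⟩) = 1
    rw [map_mul, Δ.sgn_t, e, flag_mul]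

theorem SylowData.t_not_mem (h : Δ.SylowData T D Q) : t ∉ D := fun hd => by
  obtain ⟨_, _, e⟩ := (h.mem_D t).1 hd
  rw [Δ.sgn_t] at e
  exact flag_ne e

theorem SylowData.cent (h : Δ.SylowData T D Q) {x : G} (hx : x ∈ T) : Commute t x :=
  (Δ.le x (h.le_L hx)).symm

theorem SylowData.mem_L (h : Δ.SylowData T D Q) {x : G} (hx : x ∈ D) : x ∈ Δ.L := h.le_L (h.D_le hx)

theorem SylowData.proj_inj (h : Δ.SylowData T D Q) {x y : G} (hx : x ∈ D) (hy : y ∈ D)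
    (e : Δ.proj ⟨x, h.mem_L hx⟩ = Δ.proj ⟨y, h.mem_L hy⟩) : x = y := by
  obtain ⟨hL, hT, hs⟩ := (h.mem_D _).1 (D.mul_mem (D.inv_mem hx) hy)
  refine inv_mul_eq_one.1 (Δ.kill hL (h.two_pow hT) hs ?_)
  show Δ.proj ((⟨x, h.mem_L hx⟩ : Δ.L)⁻¹ * ⟨y, h.mem_L hy⟩) = 1
  rw [map_mul, map_inv, e, inv_mul_cancel]

theorem SylowData.card_D (h : Δ.SylowData T D Q) : Nat.card D = Nat.card Q := by
  refine Nat.card_congr (Equiv.ofBijective
    (fun x : D => (⟨Δ.proj ⟨x, h.mem_L x.2⟩, h.proj_mem _ _ (h.D_le x.2)⟩ : (Q : Subgroup P))) ⟨?_, ?_⟩)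
  · intro x y e
    exact Subtype.ext (h.proj_inj x.2 y.2 (congrArg Subtype.val e :))
  · rintro ⟨q, hq⟩
    obtain ⟨x, hx, _, e⟩ := h.proj_surj q hq
    exact ⟨⟨x, hx⟩, Subtype.ext e⟩

/-- Elements of `C(t)` normalising `T` normalise `D`. -/
theorem SylowData.conj_D (h : Δ.SylowData T D Q) (hP : ∀ ψ : P →* Multiplicative (ZMod 2), ψ = 1) {g : G}
    (hg : Commute g t) (hgT : ∀ x ∈ T, g * x * g⁻¹ ∈ T) {x : G} (hx : x ∈ D) : g * x * g⁻¹ ∈ D := by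
  obtain ⟨hL, hT, hs⟩ := (h.mem_D x).1 hx
  exact (h.mem_D _).2 ⟨Δ.normal g hg x hL, hgT x hT, (Δ.sgn_conj hP hg ⟨x, hL⟩).trans hs⟩

/-- Lifting from `N(Q)` to `N(T)`. -/
theorem SylowData.lift (h : Δ.SylowData T D Q) {n : P}
    (hn : n ∈ Subgroup.normalizer ((Q : Subgroup P) : Set P)) :
    ∃ g : Δ.L, (g : G) ∈ Subgroup.normalizer (T : Set G) ∧ ∃ q ∈ (Q : Subgroup P), Δ.proj g = q * n := by
  obtain ⟨x, hx⟩ := Δ.proj_surj n
  let Y : Subgroup G := ((Q : Subgroup P).comap Δ.proj).map Δ.L.subtype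
  have hY : ∀ {y : Δ.L}, (y : G) ∈ Y ↔ Δ.proj y ∈ (Q : Subgroup P) := fun {y} =>
    ⟨fun ⟨z, hz, e⟩ => (Subtype.ext e : z = y) ▸ hz, fun hy => ⟨y, hy, rfl⟩⟩
  have hYL : Y ≤ Δ.L := Subgroup.map_subtype_le _
  have hTY : T ≤ Y := fun y hy => (hY (y := ⟨y, h.le_L hy⟩)).2 (h.proj_mem y _ hy)
  have hconjY : T.map (MulAut.conj (x : G)).toMonoidHom ≤ Y := by
    rintro _ ⟨y, hy, rfl⟩
    refine (hY (y := x * ⟨y, h.le_L hy⟩ * x⁻¹)).2 ?_
    rw [map_mul, map_mul, map_inv, hx]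
    exact (Subgroup.mem_normalizer_iff.1 hn _).1 (h.proj_mem y _ hy)
  obtain ⟨y, hy, hconj⟩ := exists_conj_mem h.two hTY
    (fun R hR hRY hTR => h.max R hR (fun z hz => Δ.le z (hYL (hRY hz))) hTR) (h.two.map _) hconjY
  refine ⟨⟨y, hYL hy⟩ * x, ?_, Δ.proj ⟨y, hYL hy⟩, (hY (y := ⟨y, hYL hy⟩)).1 hy, by rw [map_mul, hx]⟩
  set g : G := y * (x : G)
  show g ∈ Subgroup.normalizer (T : Set G)
  rw [Subgroup.mem_normalizer_iff]
  have hf : ∀ z ∈ T, g * z * g⁻¹ ∈ T := fun z hz => by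
    have := hconj _ ⟨z, hz, rfl⟩
    rw [show g * z * g⁻¹ = y * (MulAut.conj (x : G) z) * y⁻¹ by rw [MulAut.conj_apply]; show y * (x : G) * z * (y * (x : G))⁻¹ = _; group]
    exact this
  let f : T → T := fun z => ⟨_, hf z.1 z.2⟩
  have hs : Function.Surjective f := Finite.injective_iff_surjective.1 fun a b e =>
    Subtype.ext (mul_left_cancel (mul_right_cancel (congrArg Subtype.val e :)))
  refine fun z => ⟨hf z, fun hz => ?_⟩
  obtain ⟨a, ha⟩ := hs ⟨_, hz⟩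
  have : (a : G) = z := mul_left_cancel (mul_right_cancel (congrArg Subtype.val ha :))
  exact this ▸ a.2

end CentData

end CfsgLib.Core.TwoTimesPSL
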