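import Cfsg.Agent.Lib.Core.TwoTimesPSL.Centralizer

/-!
# The centraliser data from the hypothesis, and the setting when `D` is elementary abelian

* `exists_centData`: from `L(C(t)/O(C(t))) ≅ Z₂ × PSL(2, F)`
* `CentData.SylowData.setting`: an elementary Sylow subgroup of `P` gives a `Setting`
-/

set_option autoImplicit false
set_option linter.unusedSectionVars false

namespace CfsgLib.Core.TwoTimesPSL

universe u v

theorem psl_two_hom_eq_one {F : Type v} [Field F] [Fintype F] (hF : 3 < Fintype.card F)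
    (ψ : Matrix.ProjectiveSpecialLinearGroup (Fin 2) F →* Multiplicative (ZMod 2)) : ψ = 1 := by
  classical
  have := CfsgLib.Classical.isSimpleGroup_PSL_two (F := F) (by omega)
  have hc := CfsgLib.Classical.Two.card_PSL_two (F := F)
  set q := Fintype.card F with hq
  rcases ψ.normal_ker.eq_bot_or_eq_top with h | h
  · exfalso
    have hinj := ψ.ker_eq_bot_iff.1 h
    have hle : Nat.card (Matrix.ProjectiveSpecialLinearGroup (Fin 2) F) ≤ 2 := by
      refine (Nat.card_le_card_of_injective ψ hinj).trans ?_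
      simp
    have hg : Nat.gcd 2 (q - 1) ≤ 2 := Nat.gcd_le_left _ two_pos
    have h1 := Nat.mul_le_mul hg hle
    rw [hc] at h1
    have h16 : 4 * 15 ≤ q * (q ^ 2 - 1) := Nat.mul_le_mul (by omega) (by
      have : 4 ^ 2 ≤ q ^ 2 := Nat.pow_le_pow_left (by omega) 2
      omega)
    omega
  · exact MonoidHom.ext fun x => MonoidHom.mem_ker.1 (h.symm ▸ Subgroup.mem_top x)

theorem psl_two_center_eq_one {F : Type v} [Field F] [Fintype F] (hF : 3 < Fintype.card F)
    {x : Matrix.ProjectiveSpecialLinearGroup (Fin 2) F} (hx : ∀ y, x * y = y * x) : x = 1 := by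
  classical
  have := CfsgLib.Classical.isSimpleGroup_PSL_two (F := F) (by omega)
  rcases (inferInstance : (Subgroup.center (Matrix.ProjectiveSpecialLinearGroup (Fin 2) F)).Normal).eq_bot_or_eq_top
    with h | h
  · exact Subgroup.mem_bot.1 (h ▸ Subgroup.mem_center_iff.2 fun y => (hx y).symm)
  · exfalso
    -- a homomorphism onto a group of order two
    have hcomm : IsMulCommutative (Matrix.ProjectiveSpecialLinearGroup (Fin 2) F) :=
      ⟨⟨fun a b => Subgroup.mem_center_iff.1 (h.symm ▸ Subgroup.mem_top b) a⟩⟩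
    rcases psl_two_sylow_cases hF with hQ | hQ
    · obtain ⟨Q⟩ := (inferInstance : Nonempty (Sylow 2 (Matrix.ProjectiveSpecialLinearGroup (Fin 2) F)))
      obtain ⟨n, hn⟩ := hQ Q
      have hall : ∀ a ∈ (Q : Subgroup (Matrix.ProjectiveSpecialLinearGroup (Fin 2) F)), a ≠ 1 →
          ∀ b ∈ (Q : Subgroup (Matrix.ProjectiveSpecialLinearGroup (Fin 2) F)), b ≠ 1 → b = a := by
        intro a ha ha1 b hb hb1
        obtain ⟨k, hk⟩ := hn.trans a ha ha1 b hb hb1
        rw [hcomm.is_comm.comm (n ^ k) a, mul_inv_cancel_right] at hk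
        exact hk.symm
      have h4 := hn.four_le
      obtain ⟨a, ha, ha1⟩ : ∃ a ∈ (Q : Subgroup (Matrix.ProjectiveSpecialLinearGroup (Fin 2) F)), a ≠ 1 := by
        by_contra hcon
        push Not at hcon
        rw [Subgroup.card_eq_one.2 ((Subgroup.eq_bot_iff_forall _).2 hcon)] at h4
        omega
      have hle : Nat.card (Q : Subgroup (Matrix.ProjectiveSpecialLinearGroup (Fin 2) F)) ≤ Nat.card (Fin 2) := by
        refine Nat.card_le_card_of_injective (fun b => if b.1 = 1 then (0 : Fin 2) else 1) fun b b' e => ?_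
        by_cases hb : b.1 = 1 <;> by_cases hb' : b'.1 = 1 <;> simp [hb, hb'] at e
        · exact Subtype.ext (hb.trans hb'.symm)
        · exact Subtype.ext ((hall a ha ha1 _ b.2 hb).trans (hall a ha ha1 _ b'.2 hb').symm)
      rw [Nat.card_fin] at hle
      omega
    · obtain ⟨Q⟩ := (inferInstance : Nonempty (Sylow 2 (Matrix.ProjectiveSpecialLinearGroup (Fin 2) F)))
      obtain ⟨k, hk, ⟨e⟩⟩ := hQ Q
      have h1 := congrArg e (hcomm.is_comm.comm (e.symm (DihedralGroup.r 1) : Matrix.ProjectiveSpecialLinearGroup (Fin 2) F)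
        (e.symm (DihedralGroup.sr 0)) |> fun h => (Subtype.ext h : e.symm (DihedralGroup.r 1) * e.symm (DihedralGroup.sr 0) =
          e.symm (DihedralGroup.sr 0) * e.symm (DihedralGroup.r 1)))
      rw [map_mul, map_mul, e.apply_symm_apply, e.apply_symm_apply, DihedralGroup.r_mul_sr,
        DihedralGroup.sr_mul_r, DihedralGroup.sr.injEq, zero_sub, zero_add] at h1
      have h2 : ((2 : ℕ) : ZMod (2 ^ k)) = 0 := by
        rw [Nat.cast_two]
        linear_combination -h1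
      rw [ZMod.natCast_eq_zero_iff] at h2
      have h3 := Nat.le_of_dvd two_pos h2
      have : 4 ≤ 2 ^ k := by simpa using Nat.pow_le_pow_right two_pos hk
      omega

/-- The centraliser data. -/
theorem exists_centData {G : Type u} [Group G] [Finite G] {t : G} (ht : orderOf t = 2) {F : Type v} [Field F]
    [Fintype F] (hF : 3 < Fintype.card F)
    (hL : Nonempty (↥(Subgroup.closure {x : (↥(Subgroup.centralizer ({t} : Set G)) ⧸ Cfsg.oddCore ↥(Subgroup.centralizer ({t} : Set G))) | ∃ k : ℕ, orderOf x = 2 ^ k}) ≃*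
      (Multiplicative (ZMod 2) × Matrix.ProjectiveSpecialLinearGroup (Fin 2) F))) :
    Nonempty (CentData G t (Matrix.ProjectiveSpecialLinearGroup (Fin 2) F)) := by
  classical
  obtain ⟨e⟩ := hL
  set C := Subgroup.centralizer ({t} : Set G)
  set N := Cfsg.oddCore ↥C
  let π : C →* C ⧸ N := QuotientGroup.mk' N
  set Lb := Subgroup.closure {x : C ⧸ N | ∃ k : ℕ, orderOf x = 2 ^ k}
  have hLb : Lb.Normal := by
    refine ⟨fun x hx g => ?_⟩
    have h1 : Lb.map (MulAut.conj g).toMonoidHom ≤ Lb := by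
      rw [MonoidHom.map_closure, Subgroup.closure_le]
      rintro _ ⟨y, ⟨k, hk⟩, rfl⟩
      exact Subgroup.subset_closure ⟨k, by
        show orderOf (MulAut.conj g y) = 2 ^ k
        rw [MulEquiv.orderOf_eq, hk]⟩
    exact h1 ⟨x, hx, rfl⟩
  have hC : ∀ {x : G}, x ∈ C ↔ Commute x t := Subgroup.mem_centralizer_singleton_iff
  have htwo : ∀ x : C, (∃ k : ℕ, (x : G) ^ 2 ^ k = 1) → π x ∈ Lb := by
    rintro x ⟨k, hk⟩
    have h1 : π x ^ 2 ^ k = 1 := by
      rw [← map_pow, show x ^ 2 ^ k = 1 from Subtype.ext (by simpa using hk), map_one]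
    obtain ⟨j, -, hj⟩ := (Nat.dvd_prime_pow Nat.prime_two).1 (orderOf_dvd_of_pow_eq_one h1)
    exact Subgroup.subset_closure ⟨j, hj⟩
  let L : Subgroup G := (Lb.comap π).map C.subtype
  have hLC : L ≤ C := Subgroup.map_subtype_le _
  have hmem : ∀ {x : C}, (x : G) ∈ L ↔ π x ∈ Lb := fun {x} =>
    ⟨fun ⟨y, hy, e'⟩ => (Subtype.ext e' : y = x) ▸ hy, fun h => ⟨x, h, rfl⟩⟩
  let r : L →* Lb := (π.comp (Subgroup.inclusion hLC)).codRestrict Lb fun x => hmem.1 x.2
  have hr : Function.Surjective r := by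
    rintro ⟨z, hz⟩
    obtain ⟨x, rfl⟩ := QuotientGroup.mk'_surjective N z
    exact ⟨⟨x, hmem.2 hz⟩, rfl⟩
  have htC : t ∈ C := hC.2 (Commute.refl t)
  have htt : t * t = 1 := by rw [← pow_two, ← ht, pow_orderOf_eq_one]
  have htL : t ∈ L := (hmem (x := ⟨t, htC⟩)).2 (htwo _ ⟨1, by rw [pow_one, pow_two]; exact htt⟩)
  have hker : ∀ x : L, r x = 1 → Odd (orderOf x) := by
    intro x hx
    have h1 : (⟨x, hLC x.2⟩ : C) ∈ N := (QuotientGroup.eq_one_iff _).1 (congrArg Subtype.val hx :)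
    have h2 := Subgroup.orderOf_dvd_natCard _ h1
    rw [Subgroup.orderOf_mk, Subgroup.orderOf_coe] at h2
    exact (Nat.coprime_two_right.1 (CfsgLib.Core.coprime_card_pPrimeCore 2 ↥C)).of_dvd_nat h2
  set τ : L := ⟨t, htL⟩
  have hcen : ∀ y : L, r τ * r y = r y * r τ := fun y => by
    rw [← map_mul, ← map_mul]
    congr 1
    exact Subtype.ext ((hC.1 (hLC y.2)).eq.symm)
  have hrt : r τ ≠ 1 := fun h => by
    have h1 := hker τ h
    rw [← Subgroup.orderOf_coe, show ((τ : L) : G) = t from rfl, ht] at h1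
    exact absurd h1 (by decide)
  have hft : e (r τ) = (flag, 1) := by
    have hsnd : (e (r τ)).2 = 1 := psl_two_center_eq_one hF fun y => by
      obtain ⟨z, hz⟩ := e.surjective (1, y)
      obtain ⟨x, rfl⟩ := hr z
      have h := congrArg (fun w => (e w).2) (hcen x)
      simpa [hz] using h
    refine Prod.ext ((flag_cases _).resolve_left fun h => hrt ?_) hsnd
    exact e.injective ((Prod.ext h hsnd : e (r τ) = 1).trans (map_one e).symm)
  exact ⟨{
    L := L
    le := fun x hx => hC.1 (hLC hx)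
    normal := fun g hg x hx => (hmem (x := ⟨g, hC.2 hg⟩ * ⟨x, hLC hx⟩ * ⟨g, hC.2 hg⟩⁻¹)).2 (by
      rw [map_mul, map_mul, map_inv]
      exact hLb.conj_mem _ ((hmem (x := ⟨x, hLC hx⟩)).1 hx) _)
    f := e.toMonoidHom.comp r
    surj := e.surjective.comp hr
    ker_odd := fun x hx => hker x (e.injective ((show e (r x) = 1 from hx).trans (map_one e).symm))
    two := fun x hx h2 => (hmem (x := ⟨x, hC.2 hx⟩)).2 (htwo _ h2)
    t_mem := htL
    f_t := hft
    t_sq := htt }⟩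

namespace CentData

variable {G : Type u} [Group G] [Finite G] {t : G} {P : Type v} [Group P] {Δ : CentData G t P}
  {T D : Subgroup G} {Q : Sylow 2 P}

/-- An elementary Sylow subgroup with transitive normaliser gives a setting. -/
theorem SylowData.setting (h : Δ.SylowData T D Q) (hP : ∀ ψ : P →* Multiplicative (ZMod 2), ψ = 1) {n : P}
    (hn : TransFacts (Q : Subgroup P) n) : ∃ σ : Setting G, σ.t = t ∧ σ.V = D := by
  classical
  have hcommQ : ∀ a ∈ (Q : Subgroup P), ∀ b ∈ (Q : Subgroup P), a * b = b * a := fun a ha b hb => by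
    have h3 := inv_eq_of_mul_eq_one_right (hn.elem _ (mul_mem ha hb))
    rw [mul_inv_rev, inv_eq_of_mul_eq_one_right (hn.elem _ ha), inv_eq_of_mul_eq_one_right (hn.elem _ hb)] at h3
    exact h3.symm
  have helem : ∀ v ∈ D, v * v = 1 := by
    intro v hv
    obtain ⟨hL, hT, hs⟩ := (h.mem_D _).1 (D.mul_mem hv hv)
    refine Δ.kill hL (h.two_pow hT) hs ?_
    show Δ.proj (⟨v, h.mem_L hv⟩ * ⟨v, h.mem_L hv⟩) = 1
    rw [map_mul, hn.elem _ (h.proj_mem _ _ (h.D_le hv))]
  obtain ⟨g, hgT, q0, hq0, hgn⟩ := h.lift hn.mem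
  obtain ⟨a, o, ho, hord⟩ := Nat.exists_eq_two_pow_mul_odd (orderOf_pos (g : G)).ne'
  obtain ⟨j, hj0, hj1⟩ := Nat.chineseRemainder (Nat.Coprime.pow_left a hn.odd.coprime_two_left) 0 1
  set w : G := (g : G) ^ j with hw
  have hgc : Commute (g : G) t := Δ.le g g.2
  have hwc : Commute w t := hgc.pow_left j
  have hwodd : Odd (orderOf w) := by
    refine ho.of_dvd_nat (orderOf_dvd_of_pow_eq_one ?_)
    obtain ⟨i, hi⟩ := Nat.modEq_zero_iff_dvd.1 hj0
    rw [hw, ← pow_mul, hi, show 2 ^ a * i * o = 2 ^ a * o * i by ring, ← hord, pow_mul, pow_orderOf_eq_one, one_pow]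
  have hconjT : ∀ {g : G}, g ∈ Subgroup.normalizer (T : Set G) → ∀ x ∈ T, g * x * g⁻¹ ∈ T :=
    fun hg x hx => (Subgroup.mem_normalizer_iff.1 hg x).1 hx
  have hgD : ∀ {v : G}, v ∈ D → (g : G) * v * (g : G)⁻¹ ∈ D := fun hv => h.conj_D hP hgc (hconjT hgT) hv
  have hact : ∀ (i : ℕ) (v : G) (hv : v ∈ D), ∃ h' : (g : G) ^ i * v * ((g : G) ^ i)⁻¹ ∈ D,
      Δ.proj ⟨_, h.mem_L h'⟩ = n ^ i * Δ.proj ⟨v, h.mem_L hv⟩ * (n ^ i)⁻¹ := by
    intro i
    induction i with
    | zero =>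
      intro v hv
      exact ⟨by simpa using hv, by simp⟩
    | succ i ih =>
      intro v hv
      obtain ⟨h', he⟩ := ih _ (hgD hv)
      have e : (g : G) ^ (i + 1) * v * ((g : G) ^ (i + 1))⁻¹ =
          (g : G) ^ i * ((g : G) * v * (g : G)⁻¹) * ((g : G) ^ i)⁻¹ := by rw [pow_succ]; group
      refine ⟨e ▸ h', ?_⟩
      simp only [e]
      rw [he]
      have h1 : Δ.proj ⟨(g : G) * v * (g : G)⁻¹, h.mem_L (hgD hv)⟩ = n * Δ.proj ⟨v, h.mem_L hv⟩ * n⁻¹ := by
        show Δ.proj (g * ⟨v, h.mem_L hv⟩ * g⁻¹) = _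
        rw [map_mul, map_mul, map_inv, hgn]
        have hq : n * Δ.proj ⟨v, h.mem_L hv⟩ * n⁻¹ ∈ (Q : Subgroup P) :=
          (Subgroup.mem_normalizer_iff.1 hn.mem _).1 (h.proj_mem _ _ (h.D_le hv))
        calc q0 * n * Δ.proj ⟨v, h.mem_L hv⟩ * (q0 * n)⁻¹ = q0 * (n * Δ.proj ⟨v, h.mem_L hv⟩ * n⁻¹) * q0⁻¹ := by group
          _ = _ := by rw [hcommQ _ hq0 _ hq, mul_inv_cancel_right]
      rw [h1, pow_succ]
      group
  have hwk : ∀ (i : ℕ) (v : G) (hv : v ∈ D), ∃ h' : w ^ i * v * (w ^ i)⁻¹ ∈ D,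
      Δ.proj ⟨_, h.mem_L h'⟩ = n ^ i * Δ.proj ⟨v, h.mem_L hv⟩ * (n ^ i)⁻¹ := by
    intro i v hv
    obtain ⟨h', he⟩ := hact (j * i) v hv
    have e : w ^ i * v * (w ^ i)⁻¹ = (g : G) ^ (j * i) * v * ((g : G) ^ (j * i))⁻¹ := by rw [hw, pow_mul]
    refine ⟨e ▸ h', ?_⟩
    simp only [e]
    rw [he, show n ^ (j * i) = n ^ i by
      rw [pow_mul]; congr 1
      conv_rhs => rw [← pow_one n]
      exact pow_eq_pow_iff_modEq.2 hj1]
  refine ⟨{
    t := t
    V := D
    w := w
    invo := Δ.t_sq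
    elem := helem
    cent := fun v hv => h.cent (h.D_le hv)
    not_mem := h.t_not_mem
    four_le := by rw [h.card_D]; exact hn.four_le
    w_cent := hwc
    w_norm := fun v hv => by
      obtain ⟨h', -⟩ := hwk 1 v hv
      rwa [pow_one] at h'
    w_odd := hwodd
    w_trans := ?_
    sylow := ?_
    inv := ?_
    normal := ?_ }, rfl, rfl⟩
  · intro u hu hu1 v hv hv1
    have hne : ∀ {z : G} (hz : z ∈ D), z ≠ 1 → Δ.proj ⟨z, h.mem_L hz⟩ ≠ 1 := fun {z} hz hz1 e =>
      hz1 (h.proj_inj hz D.one_mem (e.trans (map_one Δ.proj).symm))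
    obtain ⟨i, hi⟩ := hn.trans _ (h.proj_mem _ _ (h.D_le hu)) (hne hu hu1) _ (h.proj_mem _ _ (h.D_le hv)) (hne hv hv1)
    obtain ⟨h', he⟩ := hwk i u hu
    exact ⟨i, h.proj_inj h' hv (he.trans hi)⟩
  · intro R hR hRt hVR htR x hx
    have hTR : T ≤ R := fun y hy => by
      rcases h.cases hy with hy' | hy'
      · exact hVR hy'
      · have := R.mul_mem htR (hVR hy')
        rwa [← mul_assoc, Δ.t_sq, one_mul] at this
    exact h.cases (h.max R hR hRt hTR hx)
  · intro g' hg' hgT' v hv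
    refine h.conj_D hP hg' (fun x hx => ?_) hv
    rcases hgT' x (h.cases hx) with h1 | h1
    · exact h.D_le h1
    · have := T.mul_mem h.t_mem (h.D_le h1)
      rwa [← mul_assoc, Δ.t_sq, one_mul] at this
  · intro g' hg' hgV'
    have hwL : w ∈ Δ.L := Δ.L.pow_mem g.2 _
    set m : G := g' * w * g'⁻¹ with hm
    have hmL : m ∈ Δ.L := Δ.normal g' hg' w hwL
    have hginv : ∀ {v : G}, v ∈ D → g'⁻¹ * v * g' ∈ D := by
      intro v hv
      let f : D → D := fun x => ⟨_, hgV' x.1 x.2⟩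
      obtain ⟨x, hx⟩ := (Finite.injective_iff_surjective.1 fun a b e =>
        Subtype.ext (mul_left_cancel (mul_right_cancel (congrArg Subtype.val e :))) : Function.Surjective f) ⟨v, hv⟩
      have hx' : g' * (x : G) * g'⁻¹ = v := congrArg Subtype.val hx
      rw [← hx', show g'⁻¹ * (g' * (x : G) * g'⁻¹) * g' = x by group]
      exact x.2
    have hmD : ∀ {v : G}, v ∈ D → m * v * m⁻¹ ∈ D := by
      intro v hv
      obtain ⟨h', -⟩ := hwk 1 _ (hginv hv)
      rw [pow_one] at h'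
      have := hgV' _ h'
      rwa [show g' * (w * (g'⁻¹ * v * g') * w⁻¹) * g'⁻¹ = m * v * m⁻¹ by rw [hm]; group] at this
    have hmN : Δ.proj ⟨m, hmL⟩ ∈ Subgroup.normalizer ((Q : Subgroup P) : Set P) := by
      have hf : ∀ q ∈ (Q : Subgroup P), Δ.proj ⟨m, hmL⟩ * q * (Δ.proj ⟨m, hmL⟩)⁻¹ ∈ (Q : Subgroup P) := by
        intro q hq
        obtain ⟨x, hx, hxL, rfl⟩ := h.proj_surj q hq
        rw [← map_inv, ← map_mul, ← map_mul]
        exact h.proj_mem _ _ (h.D_le (hmD hx))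
      rw [Subgroup.mem_normalizer_iff]
      intro q
      refine ⟨hf q, fun hq => ?_⟩
      let f : ↥(Q : Subgroup P) → ↥(Q : Subgroup P) := fun x => ⟨_, hf x.1 x.2⟩
      have : Finite (Q : Subgroup P) := Nat.finite_of_card_ne_zero (by rw [← h.card_D]; exact Nat.card_pos.ne')
      obtain ⟨x, hx⟩ := (Finite.injective_iff_surjective.1 fun a b e =>
        Subtype.ext (mul_left_cancel (mul_right_cancel (congrArg Subtype.val e :))) : Function.Surjective f) ⟨_, hq⟩
      have : (x : P) = q := mul_left_cancel (mul_right_cancel (congrArg Subtype.val hx :))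
      exact this ▸ x.2
    obtain ⟨k, hk⟩ := hn.normal _ hmN
    refine ⟨k, fun v hv => ?_⟩
    obtain ⟨h', he⟩ := hwk k v hv
    rw [show g' * (w * (g'⁻¹ * v * g') * w⁻¹) * g'⁻¹ = m * v * m⁻¹ by rw [hm]; group]
    refine h.proj_inj (hmD hv) h' (Eq.trans ?_ ((hk _ (h.proj_mem _ _ (h.D_le hv))).trans he.symm))
    show Δ.proj (⟨m, hmL⟩ * ⟨v, h.mem_L hv⟩ * ⟨m, hmL⟩⁻¹) = _
    rw [map_mul, map_mul, map_inv]

end CentData

end CfsgLib.Core.TwoTimesPSL
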