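import Cfsg.Agent.Lib.Core.TwoTimesPSL.DihSetting
import Cfsg.Agent.Lib.Core.TwoTimesPSL.Transfer

/-!
# The dihedral case: classes of involutions and extremal conjugates

In a simple group with a dihedral setting, `t` is conjugate to `tz` inside a Sylow subgroup, `z` is
central there and is not conjugate to `t`.
-/

set_option autoImplicit false
set_option linter.unusedSectionVars false

namespace CfsgLib.Core.TwoTimesPSL

universe u

variable {G : Type u} [Group G]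

/-- A proper subgroup of index two, as a predicate relative to an element outside it. -/
def HalfOf (t : G) (S W : Subgroup G) : Prop := W ≤ S ∧ t ∉ W ∧ ∀ x ∈ S, x ∈ W ∨ t * x ∈ W

theorem HalfOf.card [Finite G] {t : G} (ht2 : t * t = 1) {S W : Subgroup G} (h : HalfOf t S W)
    (ht : t ∈ S) : Nat.card S = 2 * Nat.card W := by
  rw [show 2 * Nat.card W = Nat.card (Fin 2 × W) by rw [Nat.card_prod, Nat.card_fin]]
  refine (Nat.card_congr (Equiv.ofBijective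
    (fun p : Fin 2 × W => (⟨t ^ (p.1 : ℕ) * p.2, S.mul_mem (S.pow_mem ht _) (h.1 p.2.2)⟩ : S))
    ⟨?_, ?_⟩)).symm
  · rintro ⟨a, v⟩ ⟨b, v'⟩ he
    have h' : t ^ (a : ℕ) * v = t ^ (b : ℕ) * v' := congrArg Subtype.val he
    fin_cases a <;> fin_cases b <;> simp at h'
    · exact Prod.ext rfl h'
    · exact absurd (by rw [show t = (v : G) * (v' : G)⁻¹ by rw [h', mul_inv_cancel_right]]
                       exact W.mul_mem v.2 (W.inv_mem v'.2)) h.2.1
    · exact absurd (by rw [show t = (v' : G) * (v : G)⁻¹ by rw [← h', mul_inv_cancel_right]]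
                       exact W.mul_mem v'.2 (W.inv_mem v.2)) h.2.1
    · exact Prod.ext rfl h'
  · rintro ⟨x, hx⟩
    rcases h.2.2 x hx with hx' | hx'
    · exact ⟨(0, ⟨x, hx'⟩), Subtype.ext (by simp)⟩
    · exact ⟨(1, ⟨_, hx'⟩), Subtype.ext (by simp [← mul_assoc, ht2])⟩

namespace DihSetting

variable (σ : DihSetting G)

include σ

theorem t_mul_mul (x : G) : σ.t * (σ.t * x) = x := by rw [← mul_assoc, σ.invo, one_mul]

theorem t_inv : σ.t⁻¹ = σ.t := inv_eq_of_mul_eq_one_right σ.invo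

theorem z_inv : σ.z⁻¹ = σ.z := inv_eq_of_mul_eq_one_right σ.z_sq

theorem t_ne_one : σ.t ≠ 1 := fun e => σ.t_not_mem (e ▸ σ.D.one_mem)

theorem z_mem_T : σ.z ∈ σ.T := σ.D_le σ.z_mem

theorem t_ne_z : σ.t ≠ σ.z := fun e => σ.t_not_mem (e ▸ σ.z_mem)

theorem tz_ne_t : σ.t * σ.z ≠ σ.t := fun e => σ.z_ne (mul_eq_left.1 e)

theorem tz_mem : σ.t * σ.z ∈ σ.T := σ.T.mul_mem σ.t_mem σ.z_mem_T

theorem tz_sq : σ.t * σ.z * (σ.t * σ.z) = 1 := by
  rw [mul_assoc, ← mul_assoc σ.z σ.t, (σ.cent _ σ.z_mem_T).eq, mul_assoc σ.t σ.z σ.z, σ.z_sq, mul_one, σ.invo]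

theorem outer_sq {y : G} (hy : y ∈ σ.T) : σ.t * y * (σ.t * y) = y * y := by
  rw [mul_assoc, ← mul_assoc y σ.t, (σ.cent _ hy).eq, mul_assoc σ.t y y, σ.t_mul_mul]

theorem mem_D_of_outer {x : G} (hx : x ∈ σ.D) : σ.t * x ∉ σ.D := fun h => σ.t_not_mem (by
  have := σ.D.mul_mem h (σ.D.inv_mem hx)
  rwa [mul_inv_cancel_right] at this)

theorem outer_iff {x : G} (hx : x ∈ σ.T) : σ.t * x ∈ σ.D ↔ x ∉ σ.D :=
  ⟨fun h h' => σ.mem_D_of_outer h' h, fun h => (σ.dec x hx).resolve_left h⟩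

theorem z_comm_T {x : G} (hx : x ∈ σ.T) : Commute x σ.z := by
  rcases σ.dec x hx with h | h
  · exact σ.z_comm x h
  · rw [← σ.t_mul_mul x]
    exact (σ.cent _ σ.z_mem_T).symm.mul_left (σ.z_comm _ h)

theorem center_T {x : G} (hx : x ∈ σ.T) (hc : ∀ y ∈ σ.T, Commute x y) :
    x = 1 ∨ x = σ.z ∨ x = σ.t ∨ x = σ.t * σ.z := by
  rcases σ.dec x hx with h | h
  · rcases σ.center x h fun y hy => hc y (σ.D_le hy) with h' | h'
    · exact Or.inl h'
    · exact Or.inr (Or.inl h')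
  · rcases σ.center _ h fun y hy => (σ.cent y (σ.D_le hy)).symm.mul_left (hc y (σ.D_le hy)) with h' | h'
    · exact Or.inr (Or.inr (Or.inl (by rw [← σ.t_mul_mul x, h', mul_one])))
    · exact Or.inr (Or.inr (Or.inr (by rw [← σ.t_mul_mul x, h'])))

variable [Finite G]

theorem exists_sq_z : ∃ d ∈ σ.D, d * d = σ.z := by
  obtain ⟨y, hy, hy2⟩ : ∃ y ∈ σ.D, y * y ≠ 1 := by
    by_contra hcon
    push Not at hcon
    have hab : ∀ a ∈ σ.D, ∀ b ∈ σ.D, Commute a b := fun a ha b hb => by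
      have h3 := inv_eq_of_mul_eq_one_right (hcon _ (σ.D.mul_mem ha hb))
      rw [mul_inv_rev, inv_eq_of_mul_eq_one_right (hcon a ha), inv_eq_of_mul_eq_one_right (hcon b hb)] at h3
      exact h3.symm
    classical
    have hle : Nat.card σ.D ≤ Nat.card (Fin 2) := by
      refine Nat.card_le_card_of_injective (fun b : σ.D => if b.1 = 1 then (0 : Fin 2) else 1) fun b b' e => ?_
      by_cases hb : b.1 = 1 <;> by_cases hb' : b'.1 = 1 <;> simp [hb, hb'] at e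
      · exact Subtype.ext (hb.trans hb'.symm)
      · exact Subtype.ext (((σ.center _ b.2 (hab _ b.2)).resolve_left hb).trans
          ((σ.center _ b'.2 (hab _ b'.2)).resolve_left hb').symm)
    rw [Nat.card_fin] at hle
    have := σ.card_D
    omega
  obtain ⟨k, hk⟩ := σ.two ⟨y, σ.D_le hy⟩
  have hk' : y ^ 2 ^ k = 1 := congrArg Subtype.val hk
  have key : ∀ k : ℕ, ∀ y ∈ σ.D, y * y ≠ 1 → y ^ 2 ^ k = 1 → ∃ d ∈ σ.D, d * d = σ.z := by
    intro k
    induction k with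
    | zero => intro y _ hy2 h; rw [pow_zero, pow_one] at h; simp [h] at hy2
    | succ k ih =>
      intro y hy hy2 h
      by_cases h4 : y * y * (y * y) = 1
      · exact ⟨y, hy, (σ.sq_unique y hy h4).resolve_left hy2⟩
      · exact ih _ (σ.D.mul_mem hy hy) h4 (by rw [← pow_two, ← pow_mul, ← pow_succ']; exact h)
  exact key k y hy hy2 hk'

theorem fix_z {g : G} (hg : ∀ x ∈ σ.T, g * x * g⁻¹ ∈ σ.T) : g * σ.z * g⁻¹ = σ.z := by
  obtain ⟨d, hd, hd2⟩ := σ.exists_sq_z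
  have h := hg d (σ.D_le hd)
  have e : g * d * g⁻¹ * (g * d * g⁻¹) = g * σ.z * g⁻¹ := by rw [← hd2]; group
  have hne : g * σ.z * g⁻¹ ≠ 1 := fun e' => σ.z_ne (conj_eq_one_iff.1 e')
  have hsq : g * σ.z * g⁻¹ * (g * σ.z * g⁻¹) = 1 := by
    rw [show g * σ.z * g⁻¹ * (g * σ.z * g⁻¹) = g * (σ.z * σ.z) * g⁻¹ by group, σ.z_sq, mul_one, mul_inv_cancel]
  rcases σ.dec _ h with h' | h'
  · rw [← e] at hsq hne ⊢
    exact (σ.sq_unique _ h' hsq).resolve_left hne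
  · rw [← e, ← σ.outer_sq h] at hsq hne ⊢
    exact (σ.sq_unique _ h' hsq).resolve_left hne

theorem card_T : Nat.card σ.T = 2 * Nat.card σ.D :=
  HalfOf.card σ.invo (⟨σ.D_le, σ.t_not_mem, σ.dec⟩ : HalfOf σ.t σ.T σ.D) σ.t_mem

theorem mem_T {P : Subgroup G} (hP : IsPGroup 2 P) (hTP : σ.T ≤ P) {x : G} (hx : x ∈ P)
    (hxt : Commute x σ.t) : x ∈ σ.T :=
  σ.max (P ⊓ Subgroup.centralizer ({σ.t} : Set G)) (hP.to_le inf_le_left)
    (fun y hy => Subgroup.mem_centralizer_singleton_iff.1 hy.2)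
    (le_inf hTP fun y hy => Subgroup.mem_centralizer_singleton_iff.2 (σ.cent y hy))
    ⟨hx, Subgroup.mem_centralizer_singleton_iff.2 hxt⟩

/-- `x` is a conjugate of `t`. -/
def IsT (x : G) : Prop := ∃ g : G, g * σ.t * g⁻¹ = x

theorem isT_conj {x : G} (h : σ.IsT x) (a : G) : σ.IsT (a * x * a⁻¹) := by
  obtain ⟨g, rfl⟩ := h
  exact ⟨a * g, by group⟩

theorem isT_sq {x : G} (h : σ.IsT x) : x * x = 1 := by
  obtain ⟨g, rfl⟩ := h
  rw [show g * σ.t * g⁻¹ * (g * σ.t * g⁻¹) = g * (σ.t * σ.t) * g⁻¹ by group, σ.invo, mul_one, mul_inv_cancel]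

theorem card_le_of_isT {x : G} (h : σ.IsT x) {P : Subgroup G} (hP : IsPGroup 2 P)
    (hPx : ∀ y ∈ P, Commute y x) : Nat.card P ≤ Nat.card σ.T := by
  obtain ⟨g, rfl⟩ := h
  have hC : ∀ {y : G}, y ∈ Subgroup.centralizer ({σ.t} : Set G) ↔ Commute y σ.t :=
    Subgroup.mem_centralizer_singleton_iff
  have hP' : P.map (MulAut.conj g⁻¹).toMonoidHom ≤ Subgroup.centralizer ({σ.t} : Set G) := by
    rintro _ ⟨y, hy, rfl⟩
    refine hC.2 ?_
    show MulAut.conj g⁻¹ y * σ.t = σ.t * MulAut.conj g⁻¹ y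
    rw [MulAut.conj_apply, inv_inv]
    calc g⁻¹ * y * g * σ.t = g⁻¹ * (y * (g * σ.t * g⁻¹)) * g := by group
      _ = g⁻¹ * ((g * σ.t * g⁻¹) * y) * g := by rw [(hPx y hy).eq]
      _ = _ := by group
  obtain ⟨c, -, hc⟩ := exists_conj_mem σ.two (fun y hy => hC.2 (σ.cent y hy))
    (fun R hR hle hTR => σ.max R hR (fun y hy => hC.1 (hle hy)) hTR) (hP.map _) hP'
  exact Nat.card_le_card_of_injective
    (fun y : P => (⟨_, hc _ ⟨y.1, y.2, rfl⟩⟩ : σ.T))
    fun a b e => Subtype.ext ((MulAut.conj g⁻¹).injective (mul_left_cancel (mul_right_cancel (congrArg Subtype.val e :))))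

/-- An extremal conjugate of `t` in `S`. -/
def Ext (S : Subgroup G) (x : G) : Prop := ∃ g : G, g * σ.t * g⁻¹ = x ∧ ∀ y ∈ σ.T, g * y * g⁻¹ ∈ S

theorem ext_isT {S : Subgroup G} {x : G} (h : σ.Ext S x) : σ.IsT x := h.imp fun _ hg => hg.1

theorem ext_mem {S : Subgroup G} (hS : IsPGroup 2 S) {x : G} (h : σ.Ext S x) :
    ∃ g : G, g * σ.t * g⁻¹ = x ∧ ∀ y, (y ∈ S ∧ Commute y x) ↔ g⁻¹ * y * g ∈ σ.T := by
  obtain ⟨g, rfl, hg⟩ := h
  refine ⟨g, rfl, fun y => ⟨fun h => ?_, fun h => ⟨?_, ?_⟩⟩⟩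
  · refine σ.mem_T (hS.map (MulAut.conj g⁻¹).toMonoidHom) (fun v hv => ⟨_, hg v hv, by simp [mul_assoc]⟩)
      ⟨y, h.1, by simp⟩ ?_
    calc g⁻¹ * y * g * σ.t = g⁻¹ * (y * (g * σ.t * g⁻¹)) * g := by group
      _ = g⁻¹ * ((g * σ.t * g⁻¹) * y) * g := by rw [h.2.eq]
      _ = σ.t * (g⁻¹ * y * g) := by group
  · have := hg _ h
    rwa [show g * (g⁻¹ * y * g) * g⁻¹ = y by group] at this
  · calc y * (g * σ.t * g⁻¹) = g * ((g⁻¹ * y * g) * σ.t) * g⁻¹ := by group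
      _ = g * (σ.t * (g⁻¹ * y * g)) * g⁻¹ := by rw [(σ.cent _ h).eq]
      _ = g * σ.t * g⁻¹ * y := by group

theorem ext_card {S : Subgroup G} (hS : IsPGroup 2 S) {x : G} (h : σ.Ext S x) :
    Nat.card {y : G // y ∈ S ∧ Commute y x} = Nat.card σ.T := by
  obtain ⟨g, -, hg⟩ := σ.ext_mem hS h
  exact Nat.card_congr
    { toFun := fun y => ⟨g⁻¹ * y.1 * g, (hg y.1).1 y.2⟩
      invFun := fun y => ⟨g * y.1 * g⁻¹, (hg _).2 (by
        rw [show g⁻¹ * (g * y.1 * g⁻¹) * g = y.1 by group]; exact y.2)⟩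
      left_inv := fun y => Subtype.ext (by simp [mul_assoc])
      right_inv := fun y => Subtype.ext (by simp [mul_assoc]) }

variable [IsSimpleGroup G] (hG : ¬ IsMulCommutative G) (S : Sylow 2 G) (hTS : σ.T ≤ (S : Subgroup G))

include hG hTS

/-- Thompson transfer for `t`. -/
theorem exists_ext {W : Subgroup G} (hW : HalfOf σ.t (S : Subgroup G) W) :
    ∃ x ∈ W, σ.Ext S x := by
  classical
  by_contra hcon
  push Not at hcon
  have hidx : (W.subgroupOf (S : Subgroup G)).index = 2 := by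
    have h1 := Subgroup.card_mul_index (W.subgroupOf (S : Subgroup G))
    rw [Nat.card_congr (Subgroup.subgroupOfEquivOfLe hW.1).toEquiv, hW.card σ.invo (hTS σ.t_mem),
      mul_comm 2] at h1
    exact Nat.eq_of_mul_eq_mul_left Nat.card_pos h1
  let φ : (S : Subgroup G) →* Multiplicative (ZMod 2) :=
    MonoidHom.mk' (fun x => if x ∈ W.subgroupOf (S : Subgroup G) then 1 else flag) fun a b => by
      have h := Subgroup.mul_mem_iff_of_index_two hidx (a := a) (b := b)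
      by_cases ha : a ∈ W.subgroupOf (S : Subgroup G) <;> by_cases hb : b ∈ W.subgroupOf (S : Subgroup G) <;>
        simp [h, ha, hb, flag_mul]
  have h1 := transfer_eq_of_extremal S φ σ.invo σ.two σ.t_mem (fun y hy => σ.cent y hy) flag
    (fun g hg h => by
      have hx : ¬ g⁻¹ * σ.t * g ∈ W := fun hmem => hcon _ hmem ⟨g⁻¹, by rw [inv_inv],
        fun y hy => by rw [inv_inv]; exact hg y hy⟩
      show (if (⟨_, h⟩ : (S : Subgroup G)) ∈ W.subgroupOf (S : Subgroup G) then (1 : Multiplicative (ZMod 2)) else flag) = flag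
      rw [if_neg]
      simpa [Subgroup.mem_subgroupOf] using hx)
  exact flag_ne (h1.symm.trans (hom_eq_one hG _ _))

/-- `T` is not a Sylow subgroup. -/
theorem ne_T : ¬ (S : Subgroup G) ≤ σ.T := by
  intro hle
  obtain ⟨x, hx, hxe⟩ := σ.exists_ext hG S hTS (W := σ.D)
    ⟨σ.D_le.trans hTS, σ.t_not_mem, fun y hy => σ.dec y (hle hy)⟩
  have hcard := σ.ext_card S.isPGroup' hxe
  -- `x` is central in `T`
  have hcen : ∀ y ∈ σ.T, Commute x y := by
    let C : Subgroup G := (S : Subgroup G) ⊓ Subgroup.centralizer ({x} : Set G)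
    have hC : Nat.card C = Nat.card σ.T := by
      rw [← hcard]
      exact Nat.card_congr
        { toFun := fun y => ⟨y.1, y.2.1, Subgroup.mem_centralizer_singleton_iff.1 y.2.2⟩
          invFun := fun y => ⟨y.1, y.2.1, Subgroup.mem_centralizer_singleton_iff.2 y.2.2⟩
          left_inv := fun _ => rfl
          right_inv := fun _ => rfl }
    have := Subgroup.eq_of_le_of_card_ge (inf_le_left.trans hle : C ≤ σ.T) hC.ge
    exact fun y hy => (Subgroup.mem_centralizer_singleton_iff.1 (this.ge hy : y ∈ C).2 : Commute y x).symm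
  obtain ⟨g, hgx, hg⟩ := hxe
  have hgT : ∀ y ∈ σ.T, g * y * g⁻¹ ∈ σ.T := fun y hy => hle (hg y hy)
  rcases σ.center x hx fun y hy => hcen y (σ.D_le hy) with rfl | rfl
  · exact σ.t_ne_one (conj_eq_one_iff.1 hgx)
  · exact σ.t_ne_z (mul_left_cancel (mul_right_cancel (hgx.trans (σ.fix_z hgT).symm)))

theorem exists_normalizer : ∃ g ∈ (S : Subgroup G), g ∉ σ.T ∧ g ∈ Subgroup.normalizer (σ.T : Set G) :=
  exists_normalizer_mem S.isPGroup' hTS (σ.ne_T hG S hTS)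

theorem moved_mem {g : G} (hg : g ∈ (S : Subgroup G)) (hgT : g ∉ σ.T)
    (hgN : g ∈ Subgroup.normalizer (σ.T : Set G)) : g * σ.t * g⁻¹ = σ.t * σ.z := by
  have hN := Subgroup.mem_normalizer_iff.1 hgN
  have hx : g * σ.t * g⁻¹ ∈ σ.T := (hN _).1 σ.t_mem
  have hcen : ∀ y ∈ σ.T, Commute (g * σ.t * g⁻¹) y := fun y hy => by
    have h1 : g⁻¹ * y * g ∈ σ.T := (Subgroup.mem_normalizer_iff''.1 hgN y).1 hy
    show g * σ.t * g⁻¹ * y = y * (g * σ.t * g⁻¹)
    calc g * σ.t * g⁻¹ * y = g * (σ.t * (g⁻¹ * y * g)) * g⁻¹ := by group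
      _ = g * ((g⁻¹ * y * g) * σ.t) * g⁻¹ := by rw [(σ.cent _ h1).eq]
      _ = _ := by group
  rcases σ.center_T hx hcen with h | h | h | h
  · exact absurd (conj_eq_one_iff.1 h) σ.t_ne_one
  · exact absurd (mul_left_cancel (mul_right_cancel (h.trans (σ.fix_z fun y hy => (hN y).1 hy).symm))) σ.t_ne_z
  · exact absurd (σ.mem_T S.isPGroup' hTS hg (mul_inv_eq_iff_eq_mul.1 h)) hgT
  · exact h

theorem center_S {x : G} (hx : x ∈ (S : Subgroup G)) (hc : ∀ y ∈ (S : Subgroup G), Commute x y) :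
    x = 1 ∨ x = σ.z := by
  have hxT := σ.mem_T S.isPGroup' hTS hx (hc _ (hTS σ.t_mem))
  obtain ⟨g, hg, hgT, hgN⟩ := σ.exists_normalizer hG S hTS
  have hm := σ.moved_mem hG S hTS hg hgT hgN
  have hfix : g * x * g⁻¹ = x := by rw [← (hc g hg).eq, mul_inv_cancel_right]
  rcases σ.center_T hxT fun y hy => hc y (hTS hy) with h | h | h | h
  · exact Or.inl h
  · exact Or.inr h
  · rw [h, hm] at hfix; exact absurd hfix σ.tz_ne_t
  · rw [h, show g * (σ.t * σ.z) * g⁻¹ = g * σ.t * g⁻¹ * (g * σ.z * g⁻¹) by group, hm,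
      σ.fix_z fun y hy => (Subgroup.mem_normalizer_iff.1 hgN y).1 hy, mul_assoc, σ.z_sq, mul_one] at hfix
    exact absurd hfix.symm σ.tz_ne_t

theorem z_central : ∀ y ∈ (S : Subgroup G), Commute σ.z y := by
  have : Fact (Nat.Prime 2) := ⟨Nat.prime_two⟩
  have : Nontrivial (S : Subgroup G) := by
    refine ⟨⟨⟨σ.t, hTS σ.t_mem⟩, 1, fun e => σ.t_ne_one (congrArg Subtype.val e)⟩⟩
  have := S.isPGroup'.center_nontrivial
  obtain ⟨⟨x, hx⟩, hx1⟩ := exists_ne (1 : Subgroup.center (S : Subgroup G))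
  have hc : ∀ y ∈ (S : Subgroup G), Commute (x : G) y := fun y hy =>
    (congrArg Subtype.val (Subgroup.mem_center_iff.1 hx ⟨y, hy⟩) :).symm
  rcases σ.center_S hG S hTS x.2 hc with h | h
  · exact absurd (Subtype.ext (Subtype.ext h)) hx1
  · exact h ▸ hc

theorem not_isT_z : ¬ σ.IsT σ.z := fun h => by
  have hle := σ.card_le_of_isT h S.isPGroup' fun y hy => (σ.z_central hG S hTS y hy).symm
  exact σ.ne_T hG S hTS (Subgroup.eq_of_le_of_card_ge hTS hle).ge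

theorem not_isT_D {x : G} (hx : x ∈ σ.D) : ¬ σ.IsT x := fun h => by
  have hx1 : x ≠ 1 := by
    rintro rfl
    obtain ⟨g, hg⟩ := h
    exact σ.t_ne_one (conj_eq_one_iff.1 hg)
  obtain ⟨c, -, hc⟩ := σ.conj x hx (σ.isT_sq h) hx1 σ.z σ.z_mem σ.z_sq σ.z_ne
  exact σ.not_isT_z hG S hTS (hc ▸ σ.isT_conj h c)

theorem isT_iff {x : G} (hx : x ∈ σ.T) (hx2 : x * x = 1) : σ.IsT x ↔ σ.t * x ∈ σ.D := by
  refine ⟨fun h => (σ.outer_iff hx).2 fun hD => σ.not_isT_D hG S hTS hD h, fun h => ?_⟩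
  rcases eq_or_ne (σ.t * x) 1 with h1 | h1
  · exact ⟨1, by rw [show x = σ.t by rw [← σ.t_mul_mul x, h1, mul_one]]; group⟩
  obtain ⟨g, hg, hgT, hgN⟩ := σ.exists_normalizer hG S hTS
  have hm := σ.moved_mem hG S hTS hg hgT hgN
  obtain ⟨c, hct, hc⟩ := σ.conj σ.z σ.z_mem σ.z_sq σ.z_ne _ h (by rw [σ.outer_sq hx, hx2]) h1
  refine ⟨c * g, ?_⟩
  calc c * g * σ.t * (c * g)⁻¹ = c * (g * σ.t * g⁻¹) * c⁻¹ := by group
    _ = c * σ.t * σ.z * c⁻¹ := by rw [hm]; group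
    _ = σ.t * (c * σ.z * c⁻¹) := by rw [hct.eq]; group
    _ = x := by rw [hc, σ.t_mul_mul]

theorem conj_D {g : G} (hg : ∀ x ∈ σ.T, g * x * g⁻¹ ∈ σ.T) {d : G} (hd : d ∈ σ.D) : g * d * g⁻¹ ∈ σ.D := by
  have hle : σ.D ≤ σ.D.comap (MulAut.conj g).toMonoidHom := by
    refine σ.gen.trans ((Subgroup.closure_le _).2 ?_)
    rintro x ⟨hx, hx2⟩
    show MulAut.conj g x ∈ σ.D
    rw [MulAut.conj_apply]
    have hT := hg x (σ.D_le hx)
    refine (σ.dec _ hT).resolve_right fun h => ?_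
    have hsq : g * x * g⁻¹ * (g * x * g⁻¹) = 1 := by
      rw [show g * x * g⁻¹ * (g * x * g⁻¹) = g * (x * x) * g⁻¹ by group, hx2, mul_one, mul_inv_cancel]
    have h1 := σ.isT_conj ((σ.isT_iff hG S hTS hT hsq).2 h) g⁻¹
    rw [show g⁻¹ * (g * x * g⁻¹) * g⁻¹⁻¹ = x by group] at h1
    exact σ.not_isT_D hG S hTS hx h1
  exact hle hd

/-- Classes of commuting products with an extremal conjugate. -/
theorem ext_mul {x : G} (hx : σ.Ext S x) {y : G} (hy : y ∈ (S : Subgroup G)) (hyx : Commute y x)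
    (hy2 : y * y = 1) : σ.IsT y ↔ ¬ σ.IsT (x * y) := by
  obtain ⟨g, hgx, hg⟩ := σ.ext_mem S.isPGroup' hx
  set y' := g⁻¹ * y * g with hy'
  have hy'T : y' ∈ σ.T := (hg y).1 ⟨hy, hyx⟩
  have hy'2 : y' * y' = 1 := by
    rw [hy', show g⁻¹ * y * g * (g⁻¹ * y * g) = g⁻¹ * (y * y) * g by group, hy2]; group
  have e1 : σ.IsT y ↔ σ.IsT y' :=
    ⟨fun h => by simpa [hy'] using σ.isT_conj h g⁻¹, fun h => by
      have := σ.isT_conj h g
      rwa [hy', show g * (g⁻¹ * y * g) * g⁻¹ = y by group] at this⟩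
  have e2 : σ.IsT (x * y) ↔ σ.IsT (σ.t * y') := by
    have e : σ.t * y' = g⁻¹ * (x * y) * g := by rw [hy', ← hgx]; group
    refine ⟨fun h => by rw [e]; simpa using σ.isT_conj h g⁻¹, fun h => ?_⟩
    have := σ.isT_conj h g
    rwa [e, show g * (g⁻¹ * (x * y) * g) * g⁻¹ = x * y by group] at this
  have hT' : σ.t * y' ∈ σ.T := σ.T.mul_mem σ.t_mem hy'T
  rw [e1, e2, σ.isT_iff hG S hTS hy'T hy'2, σ.isT_iff hG S hTS hT' (by rw [σ.outer_sq hy'T, hy'2]),
    σ.t_mul_mul, σ.outer_iff hy'T]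

end DihSetting

end CfsgLib.Core.TwoTimesPSL
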