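import Cfsg.Agent.Lib.Core.TwoTimesPSL.DihEightFour
import Cfsg.Agent.Lib.Core.TwoTimesPSL.CaseElementary

/-!
# The dihedral case of order eight: the centraliser of the four-group

`DihSetting.exists_eightData`: the structure of `W = C_S(E)` from the structure theorem applied in the
group of elements acting on `E` as powers of a 3-cycle.
-/

set_option autoImplicit false
set_option linter.unusedSectionVars false

namespace CfsgLib.Core.TwoTimesPSL

universe u

variable {G : Type u} [Group G]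

namespace DihSetting

variable (σ : DihSetting G)

include σ

/-- A Sylow subgroup `S`, a normal four-group `E ≤ D`, `W = C_S(E)` and an involution `d ∈ D ∖ E`. -/
structure EightData (S E W : Subgroup G) (d : G) : Prop where
  card_D : Nat.card σ.D = 8
  E_le : E ≤ σ.D
  card_E : Nat.card E = 4
  z_mem : σ.z ∈ E
  E_sq : ∀ x ∈ E, x * x = 1
  E_W : E ≤ W
  t_W : σ.t ∈ W
  half : HalfOf d S W
  d_mem : d ∈ σ.D
  d_sq : d * d = 1
  W_cent : ∀ x ∈ W, ∀ v ∈ E, Commute x v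
  outer : ∀ y ∈ S, y ∉ W → ∀ v ∈ E, Commute y v → v = 1 ∨ v = σ.z
  cent_t : ∀ x ∈ W, Commute x σ.t → x ∈ E ∨ σ.t * x ∈ E
  card_W : 32 ≤ Nat.card W

/-- An abelian subgroup of index two. -/
def EightA (E W : Subgroup G) : Prop :=
  ∃ K : Subgroup G, HalfOf σ.t W K ∧ E ≤ K ∧ (∀ a ∈ K, ∀ b ∈ K, Commute a b) ∧
    (∀ x ∈ K, Commute x σ.t → x ∈ E) ∧
    ((∃ j, 2 ≤ j ∧ (∀ x ∈ K, x ^ 2 ^ j = 1) ∧ (∀ x ∈ K, x * x = 1 → x ∈ E) ∧ Nat.card K = 4 ^ j) ∨
      ((∀ x ∈ K, x * x = 1) ∧ Nat.card K = 16))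

/-- A homocyclic inverted subgroup. -/
def EightB (E W : Subgroup G) : Prop :=
  ∃ M : Subgroup G, ∃ j, 2 ≤ j ∧ E ≤ M ∧ M ≤ W ∧ (∀ a ∈ M, ∀ b ∈ M, Commute a b) ∧
    (∀ m ∈ M, σ.t * m * σ.t = m⁻¹) ∧ (∀ m ∈ M, m * m = 1 → m ∈ E) ∧ (∀ m ∈ M, m ^ 2 ^ j = 1) ∧
    Nat.card M = 4 ^ j ∧ Nat.card W = 8 * Nat.card M ∧ (∀ x ∈ W, x * x ∈ M) ∧
    (∀ x ∈ W, ∀ m ∈ M, x * m * x⁻¹ ∈ M) ∧ ∀ x ∈ W, σ.t * (x * σ.t * x⁻¹) ∈ M

end DihSetting

/-- Transport of a subgroup of `↥H` to `G` through conjugation. -/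
def pullConj {H : Subgroup G} (g : H) (K : Subgroup H) : Subgroup G :=
  (K.comap (MulAut.conj g).toMonoidHom).map H.subtype

theorem mem_pullConj {H : Subgroup G} {g y : H} {K : Subgroup H} :
    (y : G) ∈ pullConj g K ↔ g * y * g⁻¹ ∈ K := by
  rw [pullConj, ← Subgroup.coe_subtype, Subgroup.mem_map_iff_mem (Subgroup.subtype_injective _),
    Subgroup.mem_comap]
  rfl

theorem card_pullConj {H : Subgroup G} (g : H) (K : Subgroup H) : Nat.card (pullConj g K) = Nat.card K := by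
  rw [pullConj, Subgroup.card_map_of_injective (Subgroup.subtype_injective _)]
  exact Nat.card_congr
    { toFun := fun x => ⟨_, x.2⟩
      invFun := fun x => ⟨(MulAut.conj g).symm x.1, by
        show MulAut.conj g ((MulAut.conj g).symm x.1) ∈ K
        rw [MulEquiv.apply_symm_apply]; exact x.2⟩
      left_inv := fun x => Subtype.ext ((MulAut.conj g).symm_apply_apply x.1)
      right_inv := fun x => Subtype.ext ((MulAut.conj g).apply_symm_apply x.1) }

namespace DihSetting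

variable (σ : DihSetting G) [Finite G] [IsSimpleGroup G] (hG : ¬ IsMulCommutative G) (S : Sylow 2 G)
  (hTS : σ.T ≤ (S : Subgroup G)) (hbig : Nat.card (S : Subgroup G) ≠ 2 * Nat.card σ.T)

include σ hG hTS hbig

theorem exists_eightData : ∃ (S' : Sylow 2 G) (E W : Subgroup G) (d : G), σ.T ≤ (S' : Subgroup G) ∧
    σ.EightData S' E W d ∧ (σ.EightA E W ∨ σ.EightB E W) := by
  classical
  have : Fact (Nat.Prime 2) := ⟨Nat.prime_two⟩
  obtain ⟨S', E, hTS', hcardS, hED, hE4, hzE, hEsq, hEn, -⟩ := σ.exists_four hG S hTS hbig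
  have hD8 : Nat.card σ.D = 8 := le_antisymm
    (σ.four E hED hE4 hEsq fun y hy x hx => hEn y (hTS' (σ.D_le hy)) x hx) σ.card_D
  have h64 : 64 ≤ Nat.card (S' : Subgroup G) := by
    have := σ.four_T_le_card hG S hTS hbig
    rw [hcardS]
    rw [σ.card_T, hD8] at this
    exact this
  obtain ⟨w, a, hwt, hwodd, ha, ha1, haz, hwz, hwa⟩ := σ.exists_rot hG S' hTS' hD8 hED hE4 hEsq hzE
  obtain ⟨d, hd, hd2, hdE⟩ : ∃ d, d ∈ σ.D ∧ d * d = 1 ∧ d ∉ E := by
    by_contra hc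
    push Not at hc
    have := Nat.card_le_card_of_injective _ (Subgroup.inclusion_injective
      (σ.gen.trans ((Subgroup.closure_le _).2 fun x hx => hc x hx.1 hx.2) : σ.D ≤ E))
    omega
  have helts := four_elems hE4 hEsq ha hzE ha1 σ.z_ne haz
  have hzS : ∀ y ∈ (S' : Subgroup G), Commute σ.z y := σ.z_central hG S' hTS'
  -- `W = C_S(E)`
  set W := (S' : Subgroup G) ⊓ Subgroup.centralizer (E : Set G) with hW
  have hWmem : ∀ {x : G}, x ∈ (S' : Subgroup G) → Commute x a → x ∈ W := by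
    intro x hx hxa
    refine ⟨hx, Subgroup.mem_centralizer_iff.2 fun v hv => ?_⟩
    rcases helts v hv with rfl | rfl | rfl | rfl
    · simp
    · exact hxa.symm.eq
    · exact (hzS x hx).eq
    · exact (hxa.mul_right (hzS x hx).symm).symm.eq
  have hWc : ∀ x ∈ W, ∀ v ∈ E, Commute x v := fun x hx v hv => (Subgroup.mem_centralizer_iff.1 hx.2 v hv).symm
  have himg : ∀ x ∈ (S' : Subgroup G), x * a * x⁻¹ = a ∨ x * a * x⁻¹ = a * σ.z := by
    intro x hx
    rcases helts _ (hEn x hx a ha) with h | h | h | h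
    · exact absurd (conj_eq_one_iff.1 h) ha1
    · exact Or.inl h
    · refine absurd ?_ haz
      calc a = x⁻¹ * (x * a * x⁻¹) * x := by group
        _ = x⁻¹ * (σ.z * x) := by rw [h, mul_assoc]
        _ = x⁻¹ * (x * σ.z) := by rw [(hzS x hx).eq]
        _ = σ.z := by group
    · exact Or.inr h
  have hda : ¬ Commute d a := fun h =>
    (σ.four_outer hD8 hED hE4 hEsq hd hdE ha h).elim ha1 haz
  have hdS : d ∈ (S' : Subgroup G) := hTS' (σ.D_le hd)
  have hdW : d ∉ W := fun h => hda (hWc d h a ha)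
  have hde : d * a * d⁻¹ = a * σ.z := (himg d hdS).resolve_left fun h => hda (mul_inv_eq_iff_eq_mul.1 h)
  have hhalf : HalfOf d (S' : Subgroup G) W := by
    refine ⟨inf_le_left, hdW, fun x hx => ?_⟩
    rcases himg x hx with h | h
    · exact Or.inl (hWmem hx (mul_inv_eq_iff_eq_mul.1 h))
    · refine Or.inr (hWmem ((S' : Subgroup G).mul_mem hdS hx) (mul_inv_eq_iff_eq_mul.1 ?_))
      rw [show d * x * a * (d * x)⁻¹ = d * (x * a * x⁻¹) * d⁻¹ by group, h,
        show d * (a * σ.z) * d⁻¹ = d * a * d⁻¹ * (d * σ.z * d⁻¹) by group, hde, (hzS d hdS).symm.eq,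
        mul_inv_cancel_right, mul_assoc, σ.z_sq, mul_one]
  have hEW : E ≤ W := fun v hv => hWmem (hTS' (σ.D_le (hED hv))) (by
    rcases helts v hv with rfl | rfl | rfl | rfl
    · exact Commute.one_left a
    · exact Commute.refl _
    · exact hzS a (hTS' (σ.D_le (hED ha)))
    · exact (Commute.refl a).mul_left (hzS a (hTS' (σ.D_le (hED ha)))))
  have htW : σ.t ∈ W := hWmem (hTS' σ.t_mem) (σ.cent a (σ.D_le (hED ha))).symm
  have houter : ∀ y ∈ (S' : Subgroup G), y ∉ W → ∀ v ∈ E, Commute y v → v = 1 ∨ v = σ.z := by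
    intro y hy hyW v hv hc
    by_contra hcon
    push Not at hcon
    refine hyW (hWmem hy ?_)
    rcases four_elems hE4 hEsq hv hzE hcon.1 σ.z_ne hcon.2 a ha with h | h | h | h
    · exact absurd h ha1
    · rw [h]; exact hc
    · exact absurd h haz
    · rw [h]; exact hc.mul_right (hzS y hy).symm
  have hcent : ∀ x ∈ W, Commute x σ.t → x ∈ E ∨ σ.t * x ∈ E := by
    intro x hx hxt
    have hxT := σ.mem_T S'.isPGroup' hTS' hx.1 hxt
    rcases σ.dec x hxT with h | h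
    · by_contra hc
      push Not at hc
      exact (σ.four_outer hD8 hED hE4 hEsq h hc.1 ha (hWc x hx a ha)).elim ha1 haz
    · by_contra hc
      push Not at hc
      exact (σ.four_outer hD8 hED hE4 hEsq h hc.2 ha
        ((hWc _ htW a ha).mul_left (hWc x hx a ha))).elim ha1 haz
  have hS2W : Nat.card (S' : Subgroup G) = 2 * Nat.card W := hhalf.card hd2 hdS
  have hW32 : 32 ≤ Nat.card W := by omega
  refine ⟨S', E, W, d, hTS', ⟨hD8, hED, hE4, hzE, hEsq, hEW, htW, hhalf, hd, hd2, hWc, houter, hcent, hW32⟩, ?_⟩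
  -- the action of `w`
  have hwazz : w * (a * σ.z) * w⁻¹ = σ.z := by
    rw [show w * (a * σ.z) * w⁻¹ = w * a * w⁻¹ * (w * σ.z * w⁻¹) by group, hwa, hwz,
      (σ.z_comm a (hED ha)).eq, mul_assoc, hEsq a ha, mul_one]
  have hwE : ∀ x ∈ E, w * x * w⁻¹ ∈ E := by
    intro x hx
    rcases helts x hx with rfl | rfl | rfl | rfl
    · simp
    · rw [hwa]; exact E.mul_mem hx hzE
    · rw [hwz]; exact ha
    · rw [hwazz]; exact hzE
  have hwiE : ∀ i : ℕ, ∀ x ∈ E, w ^ i * x * (w ^ i)⁻¹ ∈ E := by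
    intro i
    induction i with
    | zero => intro x hx; simpa using hx
    | succ i ih =>
      intro x hx
      rw [pow_succ', show w * w ^ i * x * (w * w ^ i)⁻¹ = w * (w ^ i * x * (w ^ i)⁻¹) * w⁻¹ by group]
      exact hwE _ (ih x hx)
  have hw3 : w ^ 3 ∈ Subgroup.centralizer (E : Set G) := by
    have e1 : w ^ 3 * σ.z * (w ^ 3)⁻¹ = σ.z := by
      rw [show w ^ 3 * σ.z * (w ^ 3)⁻¹ = w * (w * (w * σ.z * w⁻¹) * w⁻¹) * w⁻¹ by rw [pow_succ, pow_two]; group,
        hwz, hwa, hwazz]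
    have e2 : w ^ 3 * a * (w ^ 3)⁻¹ = a := by
      rw [show w ^ 3 * a * (w ^ 3)⁻¹ = w * (w * (w * a * w⁻¹) * w⁻¹) * w⁻¹ by rw [pow_succ, pow_two]; group,
        hwa, hwazz, hwz]
    have c1 : Commute (w ^ 3) σ.z := mul_inv_eq_iff_eq_mul.1 e1
    have c2 : Commute (w ^ 3) a := mul_inv_eq_iff_eq_mul.1 e2
    refine Subgroup.mem_centralizer_iff.2 fun x hx => ?_
    rcases helts x hx with rfl | rfl | rfl | rfl
    · simp
    · exact c2.symm.eq
    · exact c1.symm.eq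
    · exact (c2.mul_right c1).symm.eq
  let H : Subgroup G :=
    { carrier := {g | ∃ i : ℕ, ∀ x ∈ E, g * x * g⁻¹ = w ^ i * x * (w ^ i)⁻¹}
      one_mem' := ⟨0, fun x _ => by simp⟩
      mul_mem' := fun {g g'} ⟨i, hi⟩ ⟨i', hi'⟩ => ⟨i + i', fun x hx => by
        rw [show g * g' * x * (g * g')⁻¹ = g * (g' * x * g'⁻¹) * g⁻¹ by group, hi' x hx,
          hi _ (hwiE i' x hx), pow_add]
        group⟩
      inv_mem' := fun {g} ⟨i, hi⟩ => ⟨2 * i, fun x hx => by
        have h1 := hi _ (hwiE (2 * i) x hx)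
        have h2 : w ^ i * (w ^ (2 * i) * x * (w ^ (2 * i))⁻¹) * (w ^ i)⁻¹ = x := by
          rw [show w ^ i * (w ^ (2 * i) * x * (w ^ (2 * i))⁻¹) * (w ^ i)⁻¹
            = w ^ (i + 2 * i) * x * (w ^ (i + 2 * i))⁻¹ by rw [pow_add]; group,
            show i + 2 * i = 3 * i by ring, pow_mul,
            ← Subgroup.mem_centralizer_iff.1 ((Subgroup.centralizer (E : Set G)).pow_mem hw3 i) x hx,
            mul_inv_cancel_right]
        rw [h2] at h1
        calc g⁻¹ * x * g⁻¹⁻¹ = g⁻¹ * (g * (w ^ (2 * i) * x * (w ^ (2 * i))⁻¹) * g⁻¹) * g := by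
              rw [h1, inv_inv]
          _ = _ := by group⟩ }
  have hHE : ∀ g ∈ H, ∀ x ∈ E, g * x * g⁻¹ ∈ E := fun g ⟨i, hi⟩ x hx => hi x hx ▸ hwiE i x hx
  have hCH : ∀ {g : G}, (∀ x ∈ E, Commute g x) → g ∈ H := fun h => ⟨0, fun x hx => by simp [(h x hx).eq]⟩
  have htwoH : ∀ {g : G} (m : ℕ), g ^ 2 ^ m = 1 → g ∈ H → ∀ x ∈ E, Commute g x := by
    rintro g m hm ⟨i, hi⟩ x hx
    have hpow : ∀ n : ℕ, ∀ y ∈ E, g ^ n * y * (g ^ n)⁻¹ = w ^ (i * n) * y * (w ^ (i * n))⁻¹ := by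
      intro n
      induction n with
      | zero => intro y hy; simp
      | succ n ih =>
        intro y hy
        rw [pow_succ', show g * g ^ n * y * (g * g ^ n)⁻¹ = g * (g ^ n * y * (g ^ n)⁻¹) * g⁻¹ by group,
          ih y hy, hi _ (hwiE _ y hy), show i * (n + 1) = i + i * n by ring, pow_add]
        group
    have h1 : w ^ (i * 2 ^ m) ∈ Subgroup.centralizer (E : Set G) := Subgroup.mem_centralizer_iff.2 fun y hy => by
      have := hpow (2 ^ m) y hy
      rw [hm, one_mul, inv_one, mul_one] at this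
      exact (mul_inv_eq_iff_eq_mul.1 this.symm).symm
    obtain ⟨q, hq⟩ : ∃ q, 4 ^ m = 3 * q + 1 := ⟨4 ^ m / 3, by
      have : 4 ^ m % 3 = 1 := by simp [Nat.pow_mod]
      omega⟩
    have h2 : w ^ i ∈ Subgroup.centralizer (E : Set G) := by
      have h3 := Subgroup.pow_mem _ h1 (2 ^ m)
      rw [← pow_mul, mul_assoc, ← mul_pow, show (2 : ℕ) * 2 = 4 from rfl, hq,
        show i * (3 * q + 1) = 3 * (i * q) + i by ring, pow_add, pow_mul] at h3
      exact ((Subgroup.centralizer (E : Set G)).mul_mem_cancel_left (Subgroup.pow_mem _ hw3 _)).1 h3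
    have h4 : g * x * g⁻¹ = x := by
      rw [hi x hx, ← Subgroup.mem_centralizer_iff.1 h2 x hx, mul_inv_cancel_right]
    exact mul_inv_eq_iff_eq_mul.1 h4
  have hPE : ∀ {P : Subgroup G}, IsPGroup 2 P → P ≤ H → ∀ y ∈ P, ∀ x ∈ E, Commute y x := by
    intro P hP hPH y hy
    obtain ⟨m, hm⟩ := hP ⟨y, hy⟩
    exact htwoH m (congrArg Subtype.val hm :) (hPH hy)
  have htH : σ.t ∈ H := hCH fun x hx => (σ.cent x (σ.D_le (hED hx))).symm
  have hEH : E ≤ H := fun v hv => hCH fun x hx => hWc v (hEW hv) x hx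
  have hwH : w ∈ H := ⟨1, fun x _ => by rw [pow_one]⟩
  have hWH : W ≤ H := fun x hx => hCH (hWc x hx)
  have hWtwo : IsPGroup 2 W := S'.isPGroup'.to_le inf_le_left
  -- `W` is a Sylow subgroup of `H`
  have hWmax : ∀ P : Subgroup G, IsPGroup 2 P → P ≤ H → W ≤ P → P ≤ W := by
    intro P hP hPH hWP
    by_contra hne
    obtain ⟨p, hp⟩ := IsPGroup.iff_card.1 hP
    obtain ⟨q, hq⟩ := IsPGroup.iff_card.1 hWtwo
    have hlt : Nat.card W < Nat.card P := by
      rcases lt_or_ge (Nat.card W) (Nat.card P) with h | h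
      · exact h
      · exact absurd (Subgroup.eq_of_le_of_card_ge hWP h).ge hne
    have hge : Nat.card (S' : Subgroup G) ≤ Nat.card P := by
      rw [hp, hq] at hlt
      rw [hS2W, hp, hq]
      calc 2 * 2 ^ q = 2 ^ (q + 1) := by rw [pow_succ']
        _ ≤ 2 ^ p := Nat.pow_le_pow_right two_pos ((Nat.pow_lt_pow_iff_right (by norm_num)).1 hlt)
    obtain ⟨Q, hPQ⟩ := hP.exists_le_sylow
    have hPQ' : P = (Q : Subgroup G) := Subgroup.eq_of_le_of_card_ge hPQ (by
      rw [Q.card_eq_multiplicity, ← S'.card_eq_multiplicity]; exact hge)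
    obtain ⟨h, hh⟩ := MulAction.exists_smul_eq G S' Q
    have hQmem : ∀ {y : G}, y ∈ (S' : Subgroup G) → h * y * h⁻¹ ∈ P := fun {y} hy => by
      rw [hPQ', ← hh, Sylow.coe_subgroup_smul]
      exact Subgroup.smul_mem_pointwise_smul _ (MulAut.conj h) _ hy
    have hcen : ∀ v ∈ E, h⁻¹ * v * h = 1 ∨ h⁻¹ * v * h = σ.z := by
      intro v hv
      obtain ⟨y, hy, hyv⟩ : ∃ y ∈ (S' : Subgroup G), h * y * h⁻¹ = v := by
        have h1 : v ∈ (Q : Subgroup G) := hPQ' ▸ hWP (hEW hv)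
        rw [← hh, Sylow.coe_subgroup_smul] at h1
        obtain ⟨y, hy, e⟩ := h1
        exact ⟨y, hy, e⟩
      have hy' : h⁻¹ * v * h = y := by
        rw [← hyv]
        group
      rw [hy']
      refine σ.center_S hG S' hTS' hy fun s hs => ?_
      have h1 := hPE hP hPH _ (hQmem hs) v hv
      rw [← hy']
      calc h⁻¹ * v * h * s = h⁻¹ * (v * (h * s * h⁻¹)) * h := by group
        _ = h⁻¹ * ((h * s * h⁻¹) * v) * h := by rw [h1.eq]
        _ = s * (h⁻¹ * v * h) := by group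
    have e1 : ∀ v : G, h⁻¹ * v * h = 1 → v = 1 := fun v e => by
      calc v = h * (h⁻¹ * v * h) * h⁻¹ := by group
        _ = 1 := by rw [e]; group
    have h1 := (hcen a ha).resolve_left fun e => ha1 (e1 _ e)
    have h2 := (hcen σ.z hzE).resolve_left fun e => σ.z_ne (e1 _ e)
    exact haz (mul_left_cancel (mul_right_cancel (h1.trans h2.symm)))
  -- the setting in `H`
  set t' : H := ⟨σ.t, htH⟩ with ht'
  have hVmem : ∀ {x : H}, x ∈ E.subgroupOf H ↔ (x : G) ∈ E := Subgroup.mem_subgroupOf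
  have hfromz : ∀ v ∈ E, v ≠ 1 → ∃ k : ℕ, w ^ k * σ.z * (w ^ k)⁻¹ = v := by
    intro v hv hv1
    rcases helts v hv with h | h | h | h
    · exact absurd h hv1
    · exact ⟨1, by rw [pow_one, hwz, h]⟩
    · exact ⟨0, by rw [pow_zero, one_mul, inv_one, mul_one, h]⟩
    · exact ⟨2, by
        rw [pow_two, show w * w * σ.z * (w * w)⁻¹ = w * (w * σ.z * w⁻¹) * w⁻¹ by group, hwz, hwa, h]⟩
  have hwtr : ∀ u ∈ E, u ≠ 1 → ∀ v ∈ E, v ≠ 1 → ∃ k : ℕ, w ^ k * u * (w ^ k)⁻¹ = v := by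
    intro u hu hu1 v hv hv1
    obtain ⟨i, hi⟩ := hfromz u hu hu1
    obtain ⟨k, hk⟩ := hfromz v hv hv1
    refine ⟨k + 2 * i, ?_⟩
    have h3 : w ^ (2 * i) * u * (w ^ (2 * i))⁻¹ = σ.z := by
      rw [← hi, show w ^ (2 * i) * (w ^ i * σ.z * (w ^ i)⁻¹) * (w ^ (2 * i))⁻¹
        = w ^ (2 * i + i) * σ.z * (w ^ (2 * i + i))⁻¹ by rw [pow_add]; group,
        show 2 * i + i = 3 * i by ring, pow_mul,
        ← Subgroup.mem_centralizer_iff.1 ((Subgroup.centralizer (E : Set G)).pow_mem hw3 i) σ.z hzE,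
        mul_inv_cancel_right]
    rw [← hk, ← h3, pow_add]
    group
  let τ : Setting H :=
    { t := t'
      V := E.subgroupOf H
      w := ⟨w, hwH⟩
      invo := Subtype.ext σ.invo
      elem := fun v hv => Subtype.ext (hEsq _ (hVmem.1 hv))
      cent := fun v hv => Subtype.ext (σ.cent _ (σ.D_le (hED (hVmem.1 hv)))).symm.eq
      not_mem := fun h => σ.t_not_mem (hED (hVmem.1 h))
      four_le := by rw [Nat.card_congr (Subgroup.subgroupOfEquivOfLe hEH).toEquiv, hE4]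
      w_cent := Subtype.ext hwt.eq
      w_norm := fun v hv => hVmem.2 (hwE _ (hVmem.1 hv))
      w_odd := by rw [← Subgroup.orderOf_coe]; exact hwodd
      w_trans := fun u hu hu1 v hv hv1 => by
        have hu1' : (u : G) ≠ 1 := fun e => hu1 (Subtype.ext e)
        have hv1' : (v : G) ≠ 1 := fun e => hv1 (Subtype.ext e)
        suffices ∃ k : ℕ, w ^ k * (u : G) * (w ^ k)⁻¹ = v from this.imp fun k hk => Subtype.ext (by simpa using hk)
        exact hwtr _ (hVmem.1 hu) hu1' _ (hVmem.1 hv) hv1'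
      sylow := fun P hP hPt hVP htP x hx => by
        have hP' : IsPGroup 2 (P.map H.subtype) := hP.map _
        have hPH : P.map H.subtype ≤ H := Subgroup.map_subtype_le _
        have hC : ∀ {y : G}, y ∈ Subgroup.centralizer ({σ.t} : Set G) ↔ Commute y σ.t :=
          Subgroup.mem_centralizer_singleton_iff
        obtain ⟨c, hc, hcP⟩ := exists_conj_mem σ.two (H := Subgroup.centralizer ({σ.t} : Set G))
          (fun y hy => hC.2 (σ.cent y hy))
          (fun P' hP' hle hTP => σ.max P' hP' (fun y hy => hC.1 (hle hy)) hTP) hP'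
          (by rintro _ ⟨y, hy, rfl⟩; exact hC.2 (congrArg Subtype.val (hPt y hy) :))
        have hEP : ∀ v ∈ E, v ∈ P.map H.subtype := fun v hv => ⟨⟨v, hEH hv⟩, hVP (hVmem.2 hv), rfl⟩
        have hF : E.map (MulAut.conj c).toMonoidHom ≤ σ.D := by
          rintro _ ⟨v, hv, rfl⟩
          show MulAut.conj c v ∈ σ.D
          rw [MulAut.conj_apply]
          exact σ.mem_D_of_conj hG S' hTS' (hED hv) (hEsq v hv) (hcP _ (hEP v hv))
        have hF4 : Nat.card (E.map (MulAut.conj c).toMonoidHom) = 4 := by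
          rw [Subgroup.card_map_of_injective (MulAut.conj c).injective, hE4]
        have hFsq : ∀ y ∈ E.map (MulAut.conj c).toMonoidHom, y * y = 1 := by
          rintro _ ⟨v, hv, rfl⟩
          rw [← map_mul, hEsq v hv, map_one]
        have key : ∀ y : G, (∀ v ∈ E, Commute y v) → c * y * c⁻¹ ∈ σ.D → y ∈ E := by
          intro y hy hyD
          by_contra hyE
          have hyF : c * y * c⁻¹ ∉ E.map (MulAut.conj c).toMonoidHom := by
            rintro ⟨v, hv, hvy⟩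
            exact hyE (mul_left_cancel (mul_right_cancel (hvy : c * v * c⁻¹ = c * y * c⁻¹)) ▸ hv)
          have hcl : ∀ v ∈ E, c * v * c⁻¹ = 1 ∨ c * v * c⁻¹ = σ.z := fun v hv =>
            σ.four_outer hD8 hF hF4 hFsq hyD hyF ⟨v, hv, by simp⟩ (by
              show c * y * c⁻¹ * (c * v * c⁻¹) = c * v * c⁻¹ * (c * y * c⁻¹)
              calc c * y * c⁻¹ * (c * v * c⁻¹) = c * (y * v) * c⁻¹ := by group
                _ = c * (v * y) * c⁻¹ := by rw [(hy v hv).eq]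
                _ = _ := by group)
          exact haz (mul_left_cancel (mul_right_cancel
            (((hcl a ha).resolve_left fun e => ha1 (conj_eq_one_iff.1 e)).trans
              ((hcl σ.z hzE).resolve_left fun e => σ.z_ne (conj_eq_one_iff.1 e)).symm)))
        have hxE : ∀ v ∈ E, Commute (x : G) v := hPE hP' hPH _ ⟨x, hx, rfl⟩
        rcases σ.dec _ (hcP _ ⟨x, hx, rfl⟩) with h | h
        · exact Or.inl (hVmem.2 (key _ hxE h))
        · refine Or.inr (hVmem.2 (key _ (fun v hv => (σ.cent v (σ.D_le (hED hv))).symm.mul_left (hxE v hv)) ?_))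
          rw [show ((t' * x : H) : G) = σ.t * x from rfl, show c * (σ.t * (x : G)) * c⁻¹ = c * σ.t * c⁻¹ * (c * (x : G) * c⁻¹) by group, (hC.1 hc).eq,
            mul_inv_cancel_right]
          exact h
      inv := fun g _ _ v hv => hVmem.2 (hHE _ g.2 _ (hVmem.1 hv))
      normal := fun g _ _ => by
        refine ⟨1, fun v hv => Subtype.ext ?_⟩
        obtain ⟨i, hi⟩ := g.2
        have hv' : (g : G)⁻¹ * v * g ∈ E := by
          have := hHE _ (H.inv_mem g.2) _ (hVmem.1 hv)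
          rwa [inv_inv] at this
        simp only [Subgroup.coe_mul, Subgroup.coe_inv, pow_one]
        have h1 : (g : G) * ((g : G)⁻¹ * v * g) * (g : G)⁻¹ = v := by group
        rw [hi _ hv'] at h1
        rw [hi _ (hwE _ hv')]
        calc w ^ i * (w * ((g : G)⁻¹ * v * g) * w⁻¹) * (w ^ i)⁻¹
            = w ^ (i + 1) * ((g : G)⁻¹ * v * g) * (w ^ (i + 1))⁻¹ := by rw [pow_succ]; group
          _ = w * (w ^ i * ((g : G)⁻¹ * v * g) * (w ^ i)⁻¹) * w⁻¹ := by rw [pow_succ']; group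
          _ = w * v * w⁻¹ := by rw [h1] }
  have hτT : ∀ {x : H}, x ∈ τ.T ↔ (x : G) ∈ E ∨ σ.t * (x : G) ∈ E := Iff.rfl
  have hτ4 : Nat.card τ.V = 4 := by
    show Nat.card (E.subgroupOf H) = 4
    rw [Nat.card_congr (Subgroup.subgroupOfEquivOfLe hEH).toEquiv, hE4]
  have hτ8 : Nat.card τ.T = 8 := by rw [τ.card_T, hτ4]
  have hWsub : IsPGroup 2 (W.subgroupOf H) := hWtwo.comap_subtype
  have hTW : τ.T ≤ W.subgroupOf H := fun x hx => Subgroup.mem_subgroupOf.2 <| (hτT.1 hx).elim (fun h => hEW h)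
    fun h => by
      have := W.mul_mem htW (hEW h)
      rwa [σ.t_mul_mul] at this
  have hTmove : ∃ g0 ∈ W.subgroupOf H, g0 ∈ Subgroup.normalizer (τ.T : Set H) ∧ g0 * t' * g0⁻¹ ≠ t' := by
    obtain ⟨g0, hg0, hg0T, hg0N⟩ := exists_normalizer_mem hWsub hTW (fun h => by
      have := Nat.card_le_card_of_injective _ (Subgroup.inclusion_injective h)
      rw [Nat.card_congr (Subgroup.subgroupOfEquivOfLe hWH).toEquiv, hτ8] at this
      omega)
    refine ⟨g0, hg0, hg0N, fun e => hg0T ?_⟩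
    exact τ.mem_T_of_two_group hWsub (fun v hv => hTW (τ.V_le_T hv)) (hTW τ.t_mem_T) hg0 (mul_inv_eq_iff_eq_mul.1 e)
  obtain ⟨g0, -, hg0N, hg0t⟩ := hTmove
  have hout : ∀ g ∈ Subgroup.normalizer (τ.T : Set H), τ.t * (g * τ.t * g⁻¹) ∈ τ.V := by
    intro g hg
    refine ((Subgroup.mem_normalizer_iff.1 hg τ.t).1 τ.t_mem_T).resolve_left fun h => τ.not_mem ?_
    have := hHE _ (H.inv_mem g.2) _ (hVmem.1 h)
    refine hVmem.2 ?_
    simpa [mul_assoc] using this
  have horb : τ.Orbit := ⟨hout, fun v hv => by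
    rcases eq_or_ne v 1 with rfl | hv1
    · exact ⟨1, one_mem _, by simp [τ.invo]⟩
    · obtain ⟨k, hk⟩ := τ.w_trans _ (hout g0 hg0N) (fun e => hg0t (by
        have := congrArg (τ.t * ·) e
        simp only [τ.t_mul_mul, mul_one] at this
        exact this)) v hv hv1
      refine ⟨τ.w ^ k * g0, mul_mem (pow_mem τ.w_mem_normalizer k) hg0N, ?_⟩
      rw [← hk, show τ.t * (τ.w ^ k * g0 * τ.t * (τ.w ^ k * g0)⁻¹) = τ.t * τ.w ^ k * (g0 * τ.t * g0⁻¹) * (τ.w ^ k)⁻¹ by group,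
        ← (τ.w_cent.pow_left k).eq]
      group⟩
  obtain ⟨S1, hTS1, hO⟩ := τ.structure_theorem horb
  obtain ⟨Wp, hWp⟩ := exists_sylow_eq hWsub fun P hP hle x hx => by
    refine Subgroup.mem_subgroupOf.2 (hWmax (P.map H.subtype) (hP.map _) (Subgroup.map_subtype_le _) ?_ ⟨x, hx, rfl⟩)
    exact fun y hy => ⟨⟨y, hWH hy⟩, hle (Subgroup.mem_subgroupOf.2 hy), rfl⟩
  obtain ⟨g', hg'⟩ := MulAction.exists_smul_eq H S1 Wp
  obtain ⟨g, hg⟩ : ∃ g : H, g = g'⁻¹ := ⟨_, rfl⟩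
  have hWS1 : ∀ x : H, (x : G) ∈ W ↔ g * x * g⁻¹ ∈ (S1 : Subgroup H) := fun x => by
    rw [← Subgroup.mem_subgroupOf, ← hWp, ← hg', Sylow.coe_subgroup_smul,
      Subgroup.mem_pointwise_smul_iff_inv_smul_mem, ← map_inv, hg]
    rfl
  have hVg : ∀ {x : H}, g * x * g⁻¹ ∈ τ.V ↔ (x : G) ∈ E := fun {x} =>
    ⟨fun h => by
      have := hHE _ (H.inv_mem g.2) _ (hVmem.1 h)
      simpa [mul_assoc] using this, fun h => hVmem.2 (hHE _ g.2 _ h)⟩
  have ht1 : g * t' * g⁻¹ ∈ (S1 : Subgroup H) := (hWS1 t').1 htW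
  rcases hO with ⟨K, hK, hVK, hab, hct, hor⟩ | ⟨M, K, j, hj, hVM, hMab, hMinv, hMom, hMexp, hMcard, hK, hMK, hKcard, hsq, hnorm, hext⟩ |
    ⟨h8, -⟩
  · left
    have hK16 : 16 ≤ Nat.card K := by
      rcases hor with ⟨j, hj, -, -, e⟩ | ⟨-, e⟩
      · rw [e, hτ4]; exact (Nat.pow_le_pow_right (show 0 < 4 by norm_num) hj)
      · rw [e, hτ4]; norm_num
    have ht1K : g * t' * g⁻¹ ∉ K := by
      intro h
      have hKc : ∀ y ∈ K.map (MulAut.conj g⁻¹).toMonoidHom, Commute y τ.t := by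
        rintro _ ⟨y, hy, rfl⟩
        show MulAut.conj g⁻¹ y * t' = t' * MulAut.conj g⁻¹ y
        rw [MulAut.conj_apply, inv_inv]
        calc g⁻¹ * y * g * t' = g⁻¹ * (y * (g * t' * g⁻¹)) * g := by group
          _ = g⁻¹ * ((g * t' * g⁻¹) * y) * g := by rw [(hab y hy _ h).eq]
          _ = _ := by group
      have hKtwo : IsPGroup 2 K := S1.isPGroup'.to_le hK.1
      obtain ⟨c, -, hc⟩ := τ.exists_conj_T (hKtwo.map (MulAut.conj g⁻¹).toMonoidHom) hKc
      have hle : Nat.card (K.map (MulAut.conj g⁻¹).toMonoidHom) ≤ Nat.card τ.T :=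
        Nat.card_le_card_of_injective (fun y => (⟨_, hc y.1 y.2⟩ : τ.T)) fun p q e =>
          Subtype.ext (mul_left_cancel (mul_right_cancel (congrArg Subtype.val e :)))
      rw [Subgroup.card_map_of_injective (MulAut.conj g⁻¹).injective, hτ8] at hle
      omega
    have htt1 : t' * (g * t' * g⁻¹) ∈ K := (hK.2.2 _ ht1).resolve_left ht1K
    refine ⟨pullConj g K, ⟨?_, ?_, ?_⟩, ?_, ?_, ?_, ?_⟩
    · rintro _ ⟨y, hy, rfl⟩
      exact (hWS1 _).2 (hK.1 hy)
    · exact fun h => ht1K (mem_pullConj.1 (show ((t' : H) : G) ∈ pullConj g K from h))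
    · intro x hx
      by_cases h : g * ⟨x, hWH hx⟩ * g⁻¹ ∈ K
      · exact Or.inl ((mem_pullConj (y := ⟨x, hWH hx⟩)).2 h)
      · refine Or.inr ((mem_pullConj (y := t' * ⟨x, hWH hx⟩)).2 ?_)
        have h2 : t' * (g * ⟨x, hWH hx⟩ * g⁻¹) ∈ K := (hK.2.2 _ ((hWS1 ⟨x, hWH hx⟩).1 hx)).resolve_left h
        have := K.mul_mem (K.inv_mem htt1) h2
        rwa [show (t' * (g * t' * g⁻¹))⁻¹ * (t' * (g * ⟨x, hWH hx⟩ * g⁻¹)) = g * (t'⁻¹ * ⟨x, hWH hx⟩) * g⁻¹ by group,
          show t'⁻¹ = t' from τ.t_inv] at this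
    · exact fun v hv => (mem_pullConj (y := ⟨v, hEH hv⟩)).2 (hVK (hVg.2 hv))
    · rintro _ ⟨p, hp, rfl⟩ _ ⟨q, hq, rfl⟩
      have h1 := hab _ hp _ hq
      exact ((Commute.map h1 (MulAut.conj g).symm.toMonoidHom).map H.subtype) |> fun h => by simpa [mul_assoc] using h
    · rintro _ ⟨p, hp, rfl⟩ hpt
      refine hVg.1 (hct _ hp ?_)
      have h1 : Commute (g * p * g⁻¹) (g * t' * g⁻¹) := by
        show g * p * g⁻¹ * (g * t' * g⁻¹) = g * t' * g⁻¹ * (g * p * g⁻¹)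
        have e : p * t' = t' * p := Subtype.ext hpt.eq
        calc g * p * g⁻¹ * (g * t' * g⁻¹) = g * (p * t') * g⁻¹ := by group
          _ = g * (t' * p) * g⁻¹ := by rw [e]
          _ = _ := by group
      have h2 : Commute (g * p * g⁻¹) (t' * (g * t' * g⁻¹)) := hab _ hp _ htt1
      have := h2.mul_right h1.inv_right
      rwa [mul_inv_cancel_right] at this
    · rcases hor with ⟨j, hj, hexp, hom, e⟩ | ⟨hel, e⟩
      · refine Or.inl ⟨j, hj, ?_, ?_, by rw [card_pullConj, e, hτ4]⟩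
        · rintro _ ⟨p, hp, rfl⟩
          have := hexp _ hp
          change (MulAut.conj g p) ^ 2 ^ j = 1 at this
          rw [← map_pow, EmbeddingLike.map_eq_one_iff] at this
          exact congrArg Subtype.val this
        · rintro _ ⟨p, hp, rfl⟩ h2
          refine hVg.1 (hom _ hp ?_)
          rw [show g * p * g⁻¹ * (g * p * g⁻¹) = g * (p * p) * g⁻¹ by group, show p * p = 1 from Subtype.ext h2]
          group
      · refine Or.inr ⟨?_, by rw [card_pullConj, e, hτ4]; norm_num⟩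
        rintro _ ⟨p, hp, rfl⟩
        have := hel _ hp
        change (MulAut.conj g p) * (MulAut.conj g p) = 1 at this
        rw [← map_mul, EmbeddingLike.map_eq_one_iff] at this
        exact congrArg Subtype.val this
  · right
    have hextM : ∀ x : H, (x : G) ∈ W → t' * (g * (x * t' * x⁻¹) * g⁻¹) ∈ M := by
      intro x hx
      refine hext _ ((hWS1 (x * t' * x⁻¹)).1 (W.mul_mem (W.mul_mem hx htW) (W.inv_mem hx))) ?_
      have := τ.extremal_of_le S1.isPGroup' (g := g * x) fun y hy => by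
        have h1 : (y : G) ∈ W := Subgroup.mem_subgroupOf.1 (hTW hy)
        have h2 := (hWS1 _).1 (show ((x * y * x⁻¹ : H) : G) ∈ W from W.mul_mem (W.mul_mem hx h1) (W.inv_mem hx))
        rwa [show g * x * y * (g * x)⁻¹ = g * (x * y * x⁻¹) * g⁻¹ by group]
      rwa [show g * x * τ.t * (g * x)⁻¹ = g * (x * t' * x⁻¹) * g⁻¹ by rw [show τ.t = t' from rfl]; group] at this
    have hm0 : t' * (g * t' * g⁻¹) ∈ M := by
      have := hextM 1 W.one_mem
      rwa [one_mul, inv_one, mul_one] at this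
    refine ⟨pullConj g M, j, hj, ?_, ?_, ?_, ?_, ?_, ?_, ?_, ?_, ?_, ?_, ?_⟩
    · exact fun v hv => (mem_pullConj (y := ⟨v, hEH hv⟩)).2 (hVM (hVg.2 hv))
    · rintro _ ⟨y, hy, rfl⟩
      exact (hWS1 _).2 (hK.1 (hMK hy))
    · rintro _ ⟨p, hp, rfl⟩ _ ⟨q, hq, rfl⟩
      have h1 := hMab _ hp _ hq
      exact ((Commute.map h1 (MulAut.conj g).symm.toMonoidHom).map H.subtype) |> fun h => by simpa [mul_assoc] using h
    · rintro _ ⟨p, hp, rfl⟩
      show ((t' * p * t' : H) : G) = ((p⁻¹ : H) : G)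
      refine congrArg Subtype.val ?_
      apply (MulAut.conj g).injective
      rw [map_inv, MulAut.conj_apply, MulAut.conj_apply]
      set m0 := t' * (g * t' * g⁻¹) with hm0'
      set q := g * p * g⁻¹ with hq
      have hq' : q ∈ M := hp
      have e1 : g * t' * g⁻¹ = t' * m0 := by rw [hm0', ← mul_assoc, show t' * t' = 1 from τ.invo, one_mul]
      have e2 : (g * t' * g⁻¹) * (g * t' * g⁻¹) = 1 := by
        rw [show g * t' * g⁻¹ * (g * t' * g⁻¹) = g * (t' * t') * g⁻¹ by group, show t' * t' = 1 from τ.invo]; group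
      calc g * (t' * p * t') * g⁻¹ = (g * t' * g⁻¹) * q * (g * t' * g⁻¹)⁻¹ := by
            rw [inv_eq_of_mul_eq_one_right e2, hq]; group
        _ = t' * (m0 * q * m0⁻¹) * t' := by
            rw [e1, mul_inv_rev, show t'⁻¹ = t' from τ.t_inv]; group
        _ = t' * q * t' := by rw [(hMab m0 hm0 q hq').eq, mul_inv_cancel_right]
        _ = q⁻¹ := hMinv q hq'
    · rintro _ ⟨p, hp, rfl⟩ h2
      refine hVg.1 (hMom _ hp ?_)
      rw [show g * p * g⁻¹ * (g * p * g⁻¹) = g * (p * p) * g⁻¹ by group, show p * p = 1 from Subtype.ext h2]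
      group
    · rintro _ ⟨p, hp, rfl⟩
      have := hMexp _ hp
      change (MulAut.conj g p) ^ 2 ^ j = 1 at this
      rw [← map_pow, EmbeddingLike.map_eq_one_iff] at this
      exact congrArg Subtype.val this
    · rw [card_pullConj, hMcard, hτ4]
    · rw [card_pullConj]
      have h1 : Nat.card (S1 : Subgroup H) = 2 * Nat.card K := HalfOf.card τ.invo hK (hTS1 τ.t_mem_T)
      have h2 : Nat.card (Wp : Subgroup H) = Nat.card (S1 : Subgroup H) :=
        Wp.card_eq_multiplicity.trans S1.card_eq_multiplicity.symm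
      rw [hWp, Nat.card_congr (Subgroup.subgroupOfEquivOfLe hWH).toEquiv, h1, hKcard, hτ4] at h2
      omega
    · intro x hx
      have := hsq _ ((hWS1 ⟨x, hWH hx⟩).1 hx)
      rw [show g * ⟨x, hWH hx⟩ * g⁻¹ * (g * ⟨x, hWH hx⟩ * g⁻¹) = g * (⟨x, hWH hx⟩ * ⟨x, hWH hx⟩) * g⁻¹ by group] at this
      exact (mem_pullConj (y := ⟨x, hWH hx⟩ * ⟨x, hWH hx⟩)).2 this
    · rintro x hx _ ⟨p, hp, rfl⟩
      refine (mem_pullConj (y := ⟨x, hWH hx⟩ * p * ⟨x, hWH hx⟩⁻¹)).2 ?_
      have := hnorm _ ((hWS1 ⟨x, hWH hx⟩).1 hx) _ hp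
      rw [show g * (⟨x, hWH hx⟩ * p * ⟨x, hWH hx⟩⁻¹) * g⁻¹
        = g * ⟨x, hWH hx⟩ * g⁻¹ * (g * p * g⁻¹) * (g * ⟨x, hWH hx⟩ * g⁻¹)⁻¹ by group]
      exact this
    · intro x hx
      refine (mem_pullConj (y := t' * (⟨x, hWH hx⟩ * t' * ⟨x, hWH hx⟩⁻¹))).2 ?_
      have := M.mul_mem (M.inv_mem hm0) (hextM ⟨x, hWH hx⟩ hx)
      rwa [show (t' * (g * t' * g⁻¹))⁻¹ * (t' * (g * (⟨x, hWH hx⟩ * t' * ⟨x, hWH hx⟩⁻¹) * g⁻¹))
        = g * (t'⁻¹ * (⟨x, hWH hx⟩ * t' * ⟨x, hWH hx⟩⁻¹)) * g⁻¹ by group,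
        show t'⁻¹ = t' from τ.t_inv] at this
  · rw [hτ4] at h8
    exact absurd h8 (by norm_num)

end DihSetting

end CfsgLib.Core.TwoTimesPSL
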