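import Cfsg.Agent.Lib.Core.TwoTimesPSL.DihLarge

/-!
# The dihedral case of order eight: four-groups in `D`

`DihSetting.exists_rot`: some element of odd order in `C(t)` permutes the involutions of a four-group
`E ≤ D`, normal in a Sylow subgroup, cyclically.
-/

set_option autoImplicit false
set_option linter.unusedSectionVars false

namespace CfsgLib.Core.TwoTimesPSL

universe u

variable {G : Type u} [Group G]

theorem mem_normalizer_of_conj_le [Finite G] {H : Subgroup G} {g : G} (h : ∀ x ∈ H, g * x * g⁻¹ ∈ H) :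
    g ∈ Subgroup.normalizer (H : Set G) := by
  let f : H → H := fun x => ⟨_, h x.1 x.2⟩
  have hs : Function.Surjective f := Finite.injective_iff_surjective.1 fun a b e =>
    Subtype.ext (mul_left_cancel (mul_right_cancel (congrArg Subtype.val e :)))
  rw [Subgroup.mem_normalizer_iff]
  refine fun x => ⟨h x, fun hx => ?_⟩
  obtain ⟨a, ha⟩ := hs ⟨_, hx⟩
  have : (a : G) = x := mul_left_cancel (mul_right_cancel (congrArg Subtype.val ha :))
  exact this ▸ a.2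

theorem four_elems [Finite G] {E : Subgroup G} (hE4 : Nat.card E = 4) (hsq : ∀ x ∈ E, x * x = 1) {a b : G}
    (ha : a ∈ E) (hb : b ∈ E) (ha1 : a ≠ 1) (hb1 : b ≠ 1) (hne : a ≠ b) :
    ∀ x ∈ E, x = 1 ∨ x = a ∨ x = b ∨ x = a * b := by
  have hab : Commute a b := by
    have h3 := inv_eq_of_mul_eq_one_right (hsq _ (E.mul_mem ha hb))
    rw [mul_inv_rev, inv_eq_of_mul_eq_one_right (hsq _ ha), inv_eq_of_mul_eq_one_right (hsq _ hb)] at h3
    exact h3.symm
  have he := Subgroup.eq_of_le_of_card_ge (fourOf_le ha hb : fourOf a b (hsq _ ha) (hsq _ hb) hab ≤ E)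
    (by rw [card_fourOf ha1 hb1 hne, hE4])
  exact fun x hx => mem_fourOf.1 (he.ge hx)

theorem exists_ne_ne [Finite G] {E : Subgroup G} (hE4 : Nat.card E = 4) (z : G) :
    ∃ a ∈ E, a ≠ 1 ∧ a ≠ z := by
  classical
  by_contra hcon
  push Not at hcon
  have hle : Nat.card E ≤ Nat.card (Fin 2) := by
    refine Nat.card_le_card_of_injective (fun b : E => if b.1 = 1 then (0 : Fin 2) else 1) fun b b' e => ?_
    by_cases hb : b.1 = 1 <;> by_cases hb' : b'.1 = 1 <;> simp [hb, hb'] at e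
    · exact Subtype.ext (hb.trans hb'.symm)
    · exact Subtype.ext ((hcon _ b.2 hb).trans (hcon _ b'.2 hb').symm)
  rw [hE4, Nat.card_fin] at hle
  omega

namespace DihSetting

variable (σ : DihSetting G)

include σ

variable [Finite G] (hD8 : Nat.card σ.D = 8) {F : Subgroup G} (hFD : F ≤ σ.D) (hF4 : Nat.card F = 4)

include hD8 hFD hF4

theorem four_index : (F.subgroupOf σ.D).index = 2 := by
  have h1 := Subgroup.card_mul_index (F.subgroupOf σ.D)
  rw [Nat.card_congr (Subgroup.subgroupOfEquivOfLe hFD).toEquiv, hF4, hD8] at h1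
  omega

theorem four_split {u x : G} (hu : u ∈ σ.D) (huF : u ∉ F) (hx : x ∈ σ.D) (hxF : x ∉ F) : u⁻¹ * x ∈ F := by
  have h := Subgroup.mul_mem_iff_of_index_two (σ.four_index hD8 hFD hF4) (a := (⟨u, hu⟩ : σ.D)⁻¹)
    (b := ⟨x, hx⟩)
  simp only [Subgroup.mem_subgroupOf, Subgroup.coe_mul, Subgroup.coe_inv] at h
  exact h.2 (iff_of_false (fun h' => huF (by simpa using F.inv_mem h')) hxF)

theorem four_normal_T {y : G} (hy : y ∈ σ.T) {x : G} (hx : x ∈ F) : y * x * y⁻¹ ∈ F := by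
  have hn := Subgroup.normal_of_index_eq_two (σ.four_index hD8 hFD hF4)
  rcases σ.dec y hy with h | h
  · exact hn.conj_mem ⟨x, hFD hx⟩ hx ⟨y, h⟩
  · have h1 : σ.t * y * x * (σ.t * y)⁻¹ ∈ F := hn.conj_mem ⟨x, hFD hx⟩ hx ⟨_, h⟩
    have h2 : Commute (y * x * y⁻¹) σ.t :=
      σ.cent _ (σ.T.mul_mem (σ.T.mul_mem hy (σ.D_le (hFD hx))) (σ.T.inv_mem hy))
    rwa [show σ.t * y * x * (σ.t * y)⁻¹ = σ.t * (y * x * y⁻¹) * σ.t⁻¹ by group, ← h2.eq,
      mul_inv_cancel_right] at h1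

/-- An element of `D ∖ F` centralises only `1` and `z` in `F`. -/
theorem four_outer (hsq : ∀ x ∈ F, x * x = 1) {u : G} (hu : u ∈ σ.D) (huF : u ∉ F) {v : G} (hv : v ∈ F)
    (hc : Commute u v) : v = 1 ∨ v = σ.z := by
  have hFc : ∀ a ∈ F, Commute v a := fun a ha => by
    have h3 := inv_eq_of_mul_eq_one_right (hsq _ (F.mul_mem hv ha))
    rw [mul_inv_rev, inv_eq_of_mul_eq_one_right (hsq _ hv), inv_eq_of_mul_eq_one_right (hsq _ ha)] at h3
    exact h3.symm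
  refine σ.center v (hFD hv) fun x hx => ?_
  by_cases hxF : x ∈ F
  · exact hFc x hxF
  · have h := σ.four_split hD8 hFD hF4 hu huF hx hxF
    rw [show x = u * (u⁻¹ * x) by group]
    exact hc.symm.mul_right (hFc _ h)

end DihSetting

namespace DihSetting

variable (σ : DihSetting G) [Finite G]

include σ

/-- There are at most two four-groups in `D` containing `z`. -/
theorem four_eq (hD8 : Nat.card σ.D = 8) {E F₁ F₂ : Subgroup G} (hED : E ≤ σ.D) (hE4 : Nat.card E = 4)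
    (hEsq : ∀ x ∈ E, x * x = 1) (hzE : σ.z ∈ E)
    (h1D : F₁ ≤ σ.D) (h14 : Nat.card F₁ = 4) (h1sq : ∀ x ∈ F₁, x * x = 1) (h1ne : F₁ ≠ E)
    (h2D : F₂ ≤ σ.D) (h24 : Nat.card F₂ = 4) (h2sq : ∀ x ∈ F₂, x * x = 1) (hz2 : σ.z ∈ F₂)
    (h2ne : F₂ ≠ E) : F₁ = F₂ := by
  obtain ⟨e2, he2, he2E⟩ : ∃ e2 ∈ F₂, e2 ∉ E := by
    by_contra hc
    push Not at hc
    exact h2ne (Subgroup.eq_of_le_of_card_ge hc (by rw [hE4, h24]))
  obtain ⟨f1, hf1, hf1E⟩ : ∃ f1 ∈ F₁, f1 ∉ E := by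
    by_contra hc
    push Not at hc
    exact h1ne (Subgroup.eq_of_le_of_card_ge hc (by rw [hE4, h14]))
  have hout : ∀ f ∈ F₁, f ∉ E → f ∈ F₂ := by
    intro f hf hfE
    have hx := σ.four_split hD8 hED hE4 (h2D he2) he2E (h1D hf) hfE
    set x := e2⁻¹ * f with hxdef
    have hf' : f = e2 * x := by rw [hxdef]; group
    have he2i : e2⁻¹ = e2 := inv_eq_of_mul_eq_one_right (h2sq _ he2)
    have hc : Commute e2 x := by
      have h := h1sq f hf
      rw [hf'] at h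
      have h3 := inv_eq_of_mul_eq_one_right h
      rw [mul_inv_rev, he2i, inv_eq_of_mul_eq_one_right (hEsq _ hx)] at h3
      exact h3.symm
    rcases σ.four_outer hD8 hED hE4 hEsq (h2D he2) he2E hx hc with h | h
    · rw [hf', h, mul_one]; exact he2
    · rw [hf', h]; exact F₂.mul_mem he2 hz2
  refine Subgroup.eq_of_le_of_card_ge (fun f hf => ?_) (by rw [h14, h24])
  by_cases hfE : f ∈ E
  · have h3 : f * f1 ∈ F₂ := hout _ (F₁.mul_mem hf hf1) fun h => hf1E (by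
      have := E.mul_mem (E.inv_mem hfE) h
      rwa [inv_mul_cancel_left] at this)
    have := F₂.mul_mem h3 (F₂.inv_mem (hout f1 hf1 hf1E))
    rwa [mul_inv_cancel_right] at this
  · exact hout f hf hfE

variable [IsSimpleGroup G] (hG : ¬ IsMulCommutative G) (S : Sylow 2 G) (hTS : σ.T ≤ (S : Subgroup G))

include hG hTS

/-- A conjugate in `T` of an involution of `D` lies in `D`. -/
theorem mem_D_of_conj {k y : G} (hy : y ∈ σ.D) (hy2 : y * y = 1) (hk : k * y * k⁻¹ ∈ σ.T) :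
    k * y * k⁻¹ ∈ σ.D := by
  refine (σ.dec _ hk).resolve_right fun h => σ.not_isT_D hG S hTS hy ?_
  have hsq : k * y * k⁻¹ * (k * y * k⁻¹) = 1 := by
    rw [show k * y * k⁻¹ * (k * y * k⁻¹) = k * (y * y) * k⁻¹ by group, hy2, mul_one, mul_inv_cancel]
  have h1 := σ.isT_conj ((σ.isT_iff hG S hTS hk hsq).2 h) k⁻¹
  rwa [show k⁻¹ * (k * y * k⁻¹) * k⁻¹⁻¹ = y by group] at h1

variable (hD8 : Nat.card σ.D = 8) {E : Subgroup G} (hED : E ≤ σ.D) (hE4 : Nat.card E = 4)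
  (hEsq : ∀ x ∈ E, x * x = 1) (hzE : σ.z ∈ E)

include hD8 hED hE4 hEsq hzE

/-- An element of `C(t)` normalising `E` and moving some other involution of `E` to `z`. -/
theorem exists_move : ∃ k e, Commute k σ.t ∧ (∀ x ∈ E, k * x * k⁻¹ ∈ E) ∧ e ∈ E ∧ e ≠ 1 ∧ e ≠ σ.z ∧
    k * e * k⁻¹ = σ.z := by
  obtain ⟨e, he, he1, hez⟩ := exists_ne_ne hE4 σ.z
  obtain ⟨c, hct, hc⟩ := σ.conj e (hED he) (hEsq e he) he1 σ.z σ.z_mem σ.z_sq σ.z_ne
  have hC : ∀ {a x : G}, x ∈ Subgroup.centralizer ({a} : Set G) ↔ Commute x a :=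
    Subgroup.mem_centralizer_singleton_iff
  have hEc : ∀ a ∈ E, ∀ b ∈ E, Commute a b := fun a ha b hb => by
    have h3 := inv_eq_of_mul_eq_one_right (hEsq _ (E.mul_mem ha hb))
    rw [mul_inv_rev, inv_eq_of_mul_eq_one_right (hEsq _ ha), inv_eq_of_mul_eq_one_right (hEsq _ hb)] at h3
    exact h3.symm
  obtain ⟨h, hh, hhE⟩ := exists_conj_mem σ.two
    (H := Subgroup.centralizer ({σ.t} : Set G) ⊓ Subgroup.centralizer ({σ.z} : Set G))
    (fun x hx => ⟨hC.2 (σ.cent x hx), hC.2 (σ.z_comm_T hx)⟩)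
    (fun P' hP' hle hTP => σ.max P' hP' (fun x hx => hC.1 (hle hx).1) hTP)
    (Q := E.map (MulAut.conj c).toMonoidHom) ((σ.two.to_le (hED.trans σ.D_le)).map _)
    (by
      rintro _ ⟨x, hx, rfl⟩
      show MulAut.conj c x ∈ _
      rw [MulAut.conj_apply]
      refine ⟨hC.2 ((hct.mul_left (σ.cent x (σ.D_le (hED hx)))).mul_left hct.inv_left), hC.2 ?_⟩
      rw [← hc]
      show c * x * c⁻¹ * (c * e * c⁻¹) = c * e * c⁻¹ * (c * x * c⁻¹)
      calc c * x * c⁻¹ * (c * e * c⁻¹) = c * (x * e) * c⁻¹ := by group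
        _ = c * (e * x) * c⁻¹ := by rw [(hEc x hx e he).eq]
        _ = _ := by group)
  set k := h * c with hk
  have hkt : Commute k σ.t := (hC.1 hh.1).mul_left hct
  have hke : k * e * k⁻¹ = σ.z := by
    rw [hk, show h * c * e * (h * c)⁻¹ = h * (c * e * c⁻¹) * h⁻¹ by group, hc, (hC.1 hh.2).eq,
      mul_inv_cancel_right]
  have hkD : ∀ x ∈ E, k * x * k⁻¹ ∈ σ.D := fun x hx => σ.mem_D_of_conj hG S hTS (hED hx) (hEsq x hx) (by
    have := hhE _ ⟨x, hx, rfl⟩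
    change h * MulAut.conj c x * h⁻¹ ∈ σ.T at this
    rw [MulAut.conj_apply] at this
    rwa [hk, show h * c * x * (h * c)⁻¹ = h * (c * x * c⁻¹) * h⁻¹ by group])
  set E2 := E.map (MulAut.conj k).toMonoidHom with hE2
  have hE2mem : ∀ x ∈ E, k * x * k⁻¹ ∈ E2 := fun x hx => ⟨x, hx, by simp⟩
  suffices hEE : E2 = E by exact ⟨k, e, hkt, fun x hx => hEE ▸ hE2mem x hx, he, he1, hez, hke⟩
  by_contra hne
  have h2D : E2 ≤ σ.D := by
    rintro _ ⟨x, hx, rfl⟩
    show MulAut.conj k x ∈ σ.D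
    rw [MulAut.conj_apply]
    exact hkD x hx
  have h24 : Nat.card E2 = 4 := by rw [hE2, Subgroup.card_map_of_injective (MulAut.conj k).injective, hE4]
  have h2sq : ∀ x ∈ E2, x * x = 1 := by
    rintro _ ⟨x, hx, rfl⟩
    rw [← map_mul, hEsq x hx, map_one]
  have hz2 : σ.z ∈ E2 := hke ▸ hE2mem e he
  -- a second conjugation normalising `T`
  obtain ⟨h', hh', hh'T⟩ := exists_conj_mem σ.two
    (H := Subgroup.centralizer ({σ.t} : Set G) ⊓ Subgroup.normalizer (E2 : Set G))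
    (fun x hx => ⟨hC.2 (σ.cent x hx), mem_normalizer_of_conj_le fun v hv => σ.four_normal_T hD8 h2D h24 hx hv⟩)
    (fun P' hP' hle hTP => σ.max P' hP' (fun x hx => hC.1 (hle hx).1) hTP)
    (Q := σ.T.map (MulAut.conj k).toMonoidHom) (σ.two.map _)
    (by
      rintro _ ⟨y, hy, rfl⟩
      show MulAut.conj k y ∈ _
      rw [MulAut.conj_apply]
      refine ⟨hC.2 ((hkt.mul_left (σ.cent y hy)).mul_left hkt.inv_left), mem_normalizer_of_conj_le ?_⟩
      rintro _ ⟨x, hx, rfl⟩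
      show k * y * k⁻¹ * MulAut.conj k x * (k * y * k⁻¹)⁻¹ ∈ E2
      rw [MulAut.conj_apply, show k * y * k⁻¹ * (k * x * k⁻¹) * (k * y * k⁻¹)⁻¹ = k * (y * x * y⁻¹) * k⁻¹ by group]
      exact hE2mem _ (σ.four_normal_T hD8 hED hE4 hy hx))
  set n := h' * k with hn
  have hnT : ∀ y ∈ σ.T, n * y * n⁻¹ ∈ σ.T := fun y hy => by
    have := hh'T _ ⟨y, hy, rfl⟩
    change h' * MulAut.conj k y * h'⁻¹ ∈ σ.T at this
    rw [MulAut.conj_apply] at this
    rwa [hn, show h' * k * y * (h' * k)⁻¹ = h' * (k * y * k⁻¹) * h'⁻¹ by group]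
  have hnt : Commute n σ.t := (hC.1 hh'.1).mul_left hkt
  have hn12 : ∀ x ∈ E, n * x * n⁻¹ ∈ E2 := fun x hx => by
    rw [hn, show h' * k * x * (h' * k)⁻¹ = h' * (k * x * k⁻¹) * h'⁻¹ by group]
    exact (Subgroup.mem_normalizer_iff.1 hh'.2 _).1 (hE2mem x hx)
  set E3 := E2.map (MulAut.conj n).toMonoidHom with hE3
  have hE3mem : ∀ x ∈ E2, n * x * n⁻¹ ∈ E3 := fun x hx => ⟨x, hx, by simp⟩
  have hE3E : E3 = E := by
    by_contra h3
    have h3eq : E3 = E2 := σ.four_eq hD8 hED hE4 hEsq hzE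
      (by
        rintro _ ⟨x, hx, rfl⟩
        show MulAut.conj n x ∈ σ.D
        rw [MulAut.conj_apply]
        exact σ.conj_D hG S hTS hnT (h2D hx))
      (by rw [hE3, Subgroup.card_map_of_injective (MulAut.conj n).injective, h24])
      (by rintro _ ⟨x, hx, rfl⟩; rw [← map_mul, h2sq x hx, map_one])
      h3 h2D h24 h2sq hz2 hne
    refine hne (Subgroup.eq_of_le_of_card_ge (fun v hv => ?_) (by rw [h24, hE4]) : E = E2).symm
    obtain ⟨x, hx, hxv⟩ := h3eq.ge (hn12 v hv)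
    change MulAut.conj n x = n * v * n⁻¹ at hxv
    rw [← MulAut.conj_apply] at hxv
    exact (MulAut.conj n).injective hxv ▸ hx
  have hn21 : ∀ x ∈ E2, n * x * n⁻¹ ∈ E := fun x hx => hE3E ▸ hE3mem x hx
  have heven : ∀ m : ℕ, ∀ x ∈ E, n ^ (2 * m) * x * (n ^ (2 * m))⁻¹ ∈ E := by
    intro m
    induction m with
    | zero => intro x hx; simpa using hx
    | succ m ih =>
      intro x hx
      rw [show n ^ (2 * (m + 1)) = n * n * n ^ (2 * m) by rw [← pow_two, ← pow_add]; ring_nf,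
        show n * n * n ^ (2 * m) * x * (n * n * n ^ (2 * m))⁻¹
          = n * (n * (n ^ (2 * m) * x * (n ^ (2 * m))⁻¹) * n⁻¹) * n⁻¹ by group]
      exact hn21 _ (hn12 _ (ih x hx))
  obtain ⟨i, o, ⟨m, rfl⟩, hord⟩ := Nat.exists_eq_two_pow_mul_odd (orderOf_pos n).ne'
  have hodd : ∀ x ∈ E, n ^ (2 * m + 1) * x * (n ^ (2 * m + 1))⁻¹ ∈ E2 := fun x hx => by
    rw [pow_succ', show n * n ^ (2 * m) * x * (n * n ^ (2 * m))⁻¹
      = n * (n ^ (2 * m) * x * (n ^ (2 * m))⁻¹) * n⁻¹ by group]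
    exact hn12 _ (heven m x hx)
  have hmem : n ^ (2 * m + 1) ∈ σ.T := by
    have : Fact (Nat.Prime 2) := ⟨Nat.prime_two⟩
    have hz : IsPGroup 2 (Subgroup.zpowers (n ^ (2 * m + 1))) := by
      obtain ⟨l, -, hl⟩ := (Nat.dvd_prime_pow Nat.prime_two).1
        (orderOf_dvd_of_pow_eq_one (show (n ^ (2 * m + 1)) ^ 2 ^ i = 1 by
          rw [← pow_mul, mul_comm, ← hord, pow_orderOf_eq_one]))
      exact IsPGroup.of_card (by rw [Nat.card_zpowers, hl])
    have hP := IsPGroup.to_sup_of_normal_right' hz σ.two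
      ((Subgroup.zpowers_le).2 (pow_mem (mem_normalizer_of_conj_le hnT) _))
    exact σ.mem_T hP le_sup_right (Subgroup.mem_sup_left (Subgroup.mem_zpowers _)) (hnt.pow_left _)
  refine hne (Subgroup.eq_of_le_of_card_ge (fun v hv => ?_) (by rw [hE4, h24])).symm
  have hinv : ∀ x ∈ E, (n ^ (2 * m + 1))⁻¹ * x * n ^ (2 * m + 1) ∈ E := fun x hx => by
    have := σ.four_normal_T hD8 hED hE4 (σ.T.inv_mem hmem) hx
    rwa [inv_inv] at this
  have := hodd _ (hinv v hv)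
  rwa [show n ^ (2 * m + 1) * ((n ^ (2 * m + 1))⁻¹ * v * n ^ (2 * m + 1)) * (n ^ (2 * m + 1))⁻¹ = v by group] at this

/-- An element of odd order in `C(t)` permuting the involutions of `E` cyclically. -/
theorem exists_rot : ∃ w a, Commute w σ.t ∧ Odd (orderOf w) ∧ a ∈ E ∧ a ≠ 1 ∧ a ≠ σ.z ∧
    w * σ.z * w⁻¹ = a ∧ w * a * w⁻¹ = a * σ.z := by
  obtain ⟨k, e, hkt, hkE, he, he1, hez, hke⟩ := σ.exists_move hG S hTS hD8 hED hE4 hEsq hzE
  have hzeq : σ.z * σ.z = 1 := σ.z_sq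
  have hcomm : Commute e σ.z := σ.z_comm e (hED he)
  have hez1 : e * σ.z ≠ 1 := fun h => hez (by rw [← σ.z_inv]; exact eq_inv_of_mul_eq_one_left h)
  have hezz : e * σ.z ≠ σ.z := fun h => he1 (mul_eq_right.1 h)
  -- the cycle
  obtain ⟨h, a, hht, ha, ha1, haz, hza, haa⟩ : ∃ h a, Commute h σ.t ∧ a ∈ E ∧ a ≠ 1 ∧ a ≠ σ.z ∧
      h * σ.z * h⁻¹ = a ∧ h * a * h⁻¹ = a * σ.z := by
    rcases four_elems hE4 hEsq he hzE he1 σ.z_ne hez _ (hkE _ hzE) with h | h | h | h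
    · exact absurd (conj_eq_one_iff.1 h) σ.z_ne
    · obtain ⟨d, hd, hd2, hdE⟩ : ∃ d, d ∈ σ.D ∧ d * d = 1 ∧ d ∉ E := by
        by_contra hc
        push Not at hc
        have := Nat.card_le_card_of_injective _ (Subgroup.inclusion_injective
          (σ.gen.trans ((Subgroup.closure_le _).2 fun x hx => hc x hx.1 hx.2) : σ.D ≤ E))
        omega
      have hde : d * e * d⁻¹ = e * σ.z := by
        rcases four_elems hE4 hEsq he hzE he1 σ.z_ne hez _ (σ.four_normal_T hD8 hED hE4 (σ.D_le hd) he) with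
          h1 | h1 | h1 | h1
        · exact absurd (conj_eq_one_iff.1 h1) he1
        · exact absurd ((σ.four_outer hD8 hED hE4 hEsq hd hdE he (mul_inv_eq_iff_eq_mul.1 h1)).resolve_left he1) hez
        · refine absurd ?_ hez
          rw [← mul_right_cancel (a := d * e) (b := d⁻¹) (c := d * σ.z)
            (by rw [h1, (σ.z_comm d hd).eq, mul_inv_cancel_right]) |> mul_left_cancel]
        · exact h1
      refine ⟨k * d, e, hkt.mul_left (σ.cent d (σ.D_le hd)), he, he1, hez, ?_, ?_⟩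
      · rw [show k * d * σ.z * (k * d)⁻¹ = k * (d * σ.z * d⁻¹) * k⁻¹ by group, (σ.z_comm d hd).eq,
          mul_inv_cancel_right, h]
      · rw [show k * d * e * (k * d)⁻¹ = k * (d * e * d⁻¹) * k⁻¹ by group, hde,
          show k * (e * σ.z) * k⁻¹ = k * e * k⁻¹ * (k * σ.z * k⁻¹) by group, hke, h, hcomm.eq]
    · exact absurd (mul_left_cancel (mul_right_cancel (h.trans hke.symm))).symm hez
    · refine ⟨k, e * σ.z, hkt, E.mul_mem he hzE, hez1, hezz, h, ?_⟩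
      rw [show k * (e * σ.z) * k⁻¹ = k * e * k⁻¹ * (k * σ.z * k⁻¹) by group, hke, h, hcomm.eq,
        ← mul_assoc, hzeq, one_mul, mul_assoc σ.z e σ.z, hcomm.eq, ← mul_assoc, hzeq, one_mul]
  have hh3 : h ^ 3 ∈ Subgroup.centralizer (E : Set G) := by
    have hzz : h * (a * σ.z) * h⁻¹ = σ.z := by
      rw [show h * (a * σ.z) * h⁻¹ = h * a * h⁻¹ * (h * σ.z * h⁻¹) by group, hza, haa,
        (σ.z_comm a (hED ha)).eq, mul_assoc, hEsq a ha, mul_one]
    have e1 : h ^ 3 * σ.z * (h ^ 3)⁻¹ = σ.z := by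
      rw [show h ^ 3 * σ.z * (h ^ 3)⁻¹ = h * (h * (h * σ.z * h⁻¹) * h⁻¹) * h⁻¹ by rw [pow_succ, pow_two]; group, hza, haa, hzz]
    have e2 : h ^ 3 * a * (h ^ 3)⁻¹ = a := by
      rw [show h ^ 3 * a * (h ^ 3)⁻¹ = h * (h * (h * a * h⁻¹) * h⁻¹) * h⁻¹ by rw [pow_succ, pow_two]; group, haa, hzz, hza]
    refine Subgroup.mem_centralizer_iff.2 fun x hx => ?_
    have c1 : Commute (h ^ 3) σ.z := mul_inv_eq_iff_eq_mul.1 e1
    have c2 : Commute (h ^ 3) a := mul_inv_eq_iff_eq_mul.1 e2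
    rcases four_elems hE4 hEsq ha hzE ha1 σ.z_ne haz x hx with rfl | rfl | rfl | rfl
    · simp
    · exact c2.symm.eq
    · exact c1.symm.eq
    · exact (c2.mul_right c1).symm.eq
  obtain ⟨i, o, ho, hord⟩ := Nat.exists_eq_two_pow_mul_odd (orderOf_pos h).ne'
  obtain ⟨m, hm⟩ : ∃ m, 4 ^ i = 3 * m + 1 := ⟨4 ^ i / 3, by
    have : 4 ^ i % 3 = 1 := by simp [Nat.pow_mod]
    omega⟩
  have hact : ∀ x ∈ E, h ^ (4 ^ i) * x * (h ^ (4 ^ i))⁻¹ = h * x * h⁻¹ := by
    intro x hx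
    have h1 := Subgroup.mem_centralizer_iff.1 ((Subgroup.centralizer (E : Set G)).pow_mem hh3 m) x hx
    rw [hm, pow_succ', pow_mul, show h * (h ^ 3) ^ m * x * (h * (h ^ 3) ^ m)⁻¹
      = h * ((h ^ 3) ^ m * x * ((h ^ 3) ^ m)⁻¹) * h⁻¹ by group, ← h1, mul_inv_cancel_right]
  refine ⟨h ^ (4 ^ i), a, hht.pow_left _, ?_, ha, ha1, haz, by rw [hact _ hzE, hza], by rw [hact _ ha, haa]⟩
  refine ho.of_dvd_nat (orderOf_dvd_of_pow_eq_one ?_)
  rw [← pow_mul, show 4 ^ i * o = 2 ^ i * o * 2 ^ i by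
    rw [show (4 : ℕ) = 2 * 2 from rfl, mul_pow]; ring, pow_mul, ← hord, pow_orderOf_eq_one, one_pow]

end DihSetting

end CfsgLib.Core.TwoTimesPSL
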