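import Cfsg.Agent.Lib.Core.TwoTimesPSL.DihBasic
import Cfsg.Agent.Lib.Core.TwoTimesPSL.NormalFour

/-!
# The dihedral case with `|S| ≥ 4|T|`: a normal four-group

`DihSetting.exists_four`: some Sylow subgroup `S ⊇ T` has a normal four-group inside `D`.
-/

set_option autoImplicit false
set_option linter.unusedSectionVars false

namespace CfsgLib.Core.TwoTimesPSL

universe u

variable {G : Type u} [Group G]

/-- The four-group generated by two commuting involutions. -/
def fourOf (a b : G) (ha : a * a = 1) (hb : b * b = 1) (hab : Commute a b) : Subgroup G where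
  carrier := {x | x = 1 ∨ x = a ∨ x = b ∨ x = a * b}
  one_mem' := Or.inl rfl
  mul_mem' := fun {x y} hx hy => by
    have e1 : a * (a * b) = b := by rw [← mul_assoc, ha, one_mul]
    have e2 : b * (a * b) = a := by rw [← mul_assoc, ← hab.eq, mul_assoc, hb, mul_one]
    have e3 : a * b * a = b := by rw [hab.eq, mul_assoc, ha, mul_one]
    have e4 : a * b * b = a := by rw [mul_assoc, hb, mul_one]
    have e5 : a * b * (a * b) = 1 := by rw [mul_assoc, e2, ha]
    rcases hx with rfl | rfl | rfl | rfl <;> rcases hy with rfl | rfl | rfl | rfl <;>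
      simp [ha, hb, e1, e2, e3, e4, e5, hab.eq.symm]
  inv_mem' := fun {x} hx => by
    rcases hx with rfl | rfl | rfl | rfl
    · exact Or.inl inv_one
    · exact Or.inr (Or.inl (inv_eq_of_mul_eq_one_right ha))
    · exact Or.inr (Or.inr (Or.inl (inv_eq_of_mul_eq_one_right hb)))
    · refine Or.inr (Or.inr (Or.inr ?_))
      rw [mul_inv_rev, inv_eq_of_mul_eq_one_right ha, inv_eq_of_mul_eq_one_right hb, hab.eq]

theorem mem_fourOf {a b : G} {ha : a * a = 1} {hb : b * b = 1} {hab : Commute a b} {x : G} :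
    x ∈ fourOf a b ha hb hab ↔ x = 1 ∨ x = a ∨ x = b ∨ x = a * b := Iff.rfl

theorem fourOf_le {a b : G} {ha : a * a = 1} {hb : b * b = 1} {hab : Commute a b} {H : Subgroup G}
    (hA : a ∈ H) (hB : b ∈ H) : fourOf a b ha hb hab ≤ H := by
  rintro x (rfl | rfl | rfl | rfl)
  exacts [H.one_mem, hA, hB, H.mul_mem hA hB]

theorem card_fourOf {a b : G} {ha : a * a = 1} {hb : b * b = 1} {hab : Commute a b} (ha1 : a ≠ 1)
    (hb1 : b ≠ 1) (hne : a ≠ b) : Nat.card (fourOf a b ha hb hab) = 4 := by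
  classical
  have h : a * b ≠ 1 := fun e => hne (by
    rw [← inv_eq_of_mul_eq_one_right ha]; exact inv_eq_of_mul_eq_one_right e)
  have hset : (fourOf a b ha hb hab : Set G) = ↑({1, a, b, a * b} : Finset G) := by
    ext x; simp [mem_fourOf]
  have h1 : Nat.card (fourOf a b ha hb hab) = Nat.card (↑({1, a, b, a * b} : Finset G) : Set G) :=
    Nat.card_congr (Equiv.setCongr hset)
  rw [h1, Nat.card_eq_fintype_card, ← Set.toFinset_card, Finset.toFinset_coe]
  have ha' : a * b ≠ a := fun e => hb1 (mul_eq_left.1 e)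
  have hb' : a * b ≠ b := fun e => ha1 (mul_eq_right.1 e)
  rw [Finset.card_insert_of_notMem, Finset.card_insert_of_notMem, Finset.card_pair hb'.symm]
  · simp [hne, ha'.symm]
  · simp [ha1.symm, hb1.symm, h.symm]

namespace DihSetting

variable (σ : DihSetting G)

include σ

theorem exists_noncentral [Finite G] : ∃ e ∈ σ.D, e * e = 1 ∧ e ≠ 1 ∧ e ≠ σ.z := by
  by_contra hcon
  push Not at hcon
  have hle : σ.D ≤ Subgroup.centralizer (σ.D : Set G) := by
    refine σ.gen.trans ((Subgroup.closure_le _).2 ?_)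
    rintro x ⟨hx, hx2⟩
    refine Subgroup.mem_centralizer_iff.2 fun y hy => ?_
    rcases eq_or_ne x 1 with rfl | hx1
    · simp
    · rw [hcon x hx hx2 hx1]; exact σ.z_comm y hy
  classical
  have hle2 : Nat.card σ.D ≤ Nat.card (Fin 2) := by
    refine Nat.card_le_card_of_injective (fun b : σ.D => if b.1 = 1 then (0 : Fin 2) else 1) fun b b' e => ?_
    have hc : ∀ x : σ.D, ∀ y ∈ σ.D, Commute (x : G) y := fun x y hy =>
      (Subgroup.mem_centralizer_iff.1 (hle x.2) y hy).symm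
    by_cases hb : b.1 = 1 <;> by_cases hb' : b'.1 = 1 <;> simp [hb, hb'] at e
    · exact Subtype.ext (hb.trans hb'.symm)
    · exact Subtype.ext (((σ.center _ b.2 (hc b)).resolve_left hb).trans
        ((σ.center _ b'.2 (hc b')).resolve_left hb').symm)
  rw [Nat.card_fin] at hle2
  have := σ.card_D
  omega

variable [Finite G] [IsSimpleGroup G] (hG : ¬ IsMulCommutative G) (S : Sylow 2 G)
  (hTS : σ.T ≤ (S : Subgroup G)) (hbig : Nat.card (S : Subgroup G) ≠ 2 * Nat.card σ.T)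

include hG hTS hbig

theorem four_T_le_card : 4 * Nat.card σ.T ≤ Nat.card (S : Subgroup G) := by
  have : Fact (Nat.Prime 2) := ⟨Nat.prime_two⟩
  obtain ⟨a, ha⟩ := IsPGroup.iff_card.1 σ.two
  obtain ⟨b, hb⟩ := IsPGroup.iff_card.1 S.isPGroup'
  have hlt : Nat.card σ.T < Nat.card (S : Subgroup G) := by
    rcases lt_or_ge (Nat.card σ.T) (Nat.card (S : Subgroup G)) with h | h
    · exact h
    · exact absurd (Subgroup.eq_of_le_of_card_ge hTS h).ge (σ.ne_T hG S hTS)
  rw [hb] at hlt hbig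
  rw [ha] at hlt hbig ⊢
  rw [hb]
  have h1 : a < b := (Nat.pow_lt_pow_iff_right (by norm_num)).1 hlt
  have h2 : b ≠ a + 1 := fun e => hbig (by rw [e, pow_succ'])
  calc 4 * 2 ^ a = 2 ^ (a + 2) := by ring
    _ ≤ 2 ^ b := Nat.pow_le_pow_right two_pos (by omega)

/-- A Sylow subgroup with a normal four-group inside `D`. -/
theorem exists_four : ∃ (S' : Sylow 2 G) (E : Subgroup G), σ.T ≤ (S' : Subgroup G) ∧
    Nat.card (S' : Subgroup G) = Nat.card (S : Subgroup G) ∧ E ≤ σ.D ∧ Nat.card E = 4 ∧ σ.z ∈ E ∧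
    (∀ x ∈ E, x * x = 1) ∧ (∀ g ∈ (S' : Subgroup G), ∀ x ∈ E, g * x * g⁻¹ ∈ E) ∧
    ∃ g ∈ (S' : Subgroup G), ∃ e ∈ E, g * e * g⁻¹ ≠ e := by
  classical
  have hbig4 := σ.four_T_le_card hG S hTS hbig
  -- an elementary subgroup of order eight
  obtain ⟨e0, he0, he02, he01, he0z⟩ := σ.exists_noncentral
  set E4 := fourOf σ.z e0 σ.z_sq he02 (σ.z_comm e0 he0).symm with hE4
  have hE4D : E4 ≤ σ.D := fourOf_le σ.z_mem he0
  have hE4sq : ∀ x ∈ E4, x * x = 1 := by
    rintro x (rfl | rfl | rfl | rfl)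
    · exact one_mul 1
    · exact σ.z_sq
    · exact he02
    · rw [mul_assoc, ← mul_assoc e0, (σ.z_comm e0 he0).eq, mul_assoc σ.z e0, he02, mul_one, σ.z_sq]
  have htc : ∀ x ∈ E4, Commute x σ.t := fun x hx => σ.cent x (σ.D_le (hE4D hx))
  let E8 : Subgroup G :=
    { carrier := {x | x ∈ E4 ∨ σ.t * x ∈ E4}
      one_mem' := Or.inl E4.one_mem
      mul_mem' := fun {a b} ha hb => by
        rcases ha with ha | ha <;> rcases hb with hb | hb
        · exact Or.inl (E4.mul_mem ha hb)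
        · exact Or.inr (by rw [← mul_assoc, ← (htc a ha).eq, mul_assoc]; exact E4.mul_mem ha hb)
        · exact Or.inr (by rw [← mul_assoc]; exact E4.mul_mem ha hb)
        · refine Or.inl ?_
          have h1 := E4.mul_mem ha hb
          rwa [← (htc _ ha).eq |> fun e => show (σ.t * a) * σ.t * b = σ.t * a * (σ.t * b) by rw [mul_assoc],
            (htc _ ha).eq, σ.t_mul_mul] at h1
      inv_mem' := fun {a} ha => by
        rcases ha with ha | ha
        · exact Or.inl (E4.inv_mem ha)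
        · refine Or.inr ?_
          have h1 := E4.inv_mem ha
          have h2 : Commute σ.t (σ.t * a)⁻¹ := (htc _ h1).symm
          have e : σ.t * a⁻¹ = (σ.t * a)⁻¹ := by
            have e' : a⁻¹ = (σ.t * a)⁻¹ * σ.t := by group
            rw [e', ← mul_assoc, h2.eq, mul_assoc, σ.invo, mul_one]
          rwa [e] }
  have hE8mem : ∀ {x : G}, x ∈ E8 ↔ x ∈ E4 ∨ σ.t * x ∈ E4 := Iff.rfl
  have hE8T : E8 ≤ σ.T := fun x hx => (hE8mem.1 hx).elim (fun h => σ.D_le (hE4D h)) fun h => by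
    have := σ.T.mul_mem σ.t_mem (σ.D_le (hE4D h))
    rwa [σ.t_mul_mul] at this
  have hE8sq : ∀ x ∈ E8, x * x = 1 := fun x hx => (hE8mem.1 hx).elim (hE4sq x) fun h => by
    rw [← hE4sq _ h, σ.outer_sq (hE8T hx)]
  have hE8card : 8 ≤ Nat.card E8 := by
    rw [HalfOf.card σ.invo (⟨fun x hx => hE8mem.2 (Or.inl hx), fun h => σ.t_not_mem (hE4D h),
      fun x hx => hE8mem.1 hx⟩ : HalfOf σ.t E8 E4) (hE8mem.2 (Or.inr (by rw [σ.invo]; exact E4.one_mem))),
      hE4, card_fourOf σ.z_ne he01 he0z.symm]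
  obtain ⟨U, hUn, hUsq, hU4, hUC⟩ := exists_normal_four S.isPGroup' (E := E8.subgroupOf (S : Subgroup G))
    (fun x hx => Subtype.ext (hE8sq x (Subgroup.mem_subgroupOf.1 hx)))
    (by rw [Nat.card_congr (Subgroup.subgroupOfEquivOfLe (hE8T.trans hTS)).toEquiv]; exact hE8card)
  set Wc := Subgroup.centralizer (U : Set (S : Subgroup G)) with hWc
  have hWidx : Wc.index = 2 := by
    refine le_antisymm hUC ?_
    by_contra h
    have h1 : Wc.index = 1 := by have := Subgroup.index_ne_zero_of_finite (H := Wc); omega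
    rw [Subgroup.index_eq_one] at h1
    have hle : Nat.card U ≤ Nat.card (Fin 2) := by
      refine Nat.card_le_card_of_injective (fun x : U => if x.1 = 1 then (0 : Fin 2) else 1) fun b b' e => ?_
      have hc : ∀ x : U, x.1 ≠ 1 → ((x.1 : (S : Subgroup G)) : G) = σ.z := fun x hx => by
        refine (σ.center_S hG S hTS x.1.2 fun y hy => ?_).resolve_left fun e => hx (Subtype.ext e)
        have h2 : (⟨y, hy⟩ : (S : Subgroup G)) ∈ Wc := h1 ▸ Subgroup.mem_top _
        exact congrArg Subtype.val (Subgroup.mem_centralizer_iff.1 h2 x.1 x.2)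
      by_cases hb : b.1 = 1 <;> by_cases hb' : b'.1 = 1 <;> simp [hb, hb'] at e
      · exact Subtype.ext (hb.trans hb'.symm)
      · exact Subtype.ext (Subtype.ext ((hc b hb).trans (hc b' hb').symm))
    rw [hU4, Nat.card_fin] at hle
    omega
  -- a moved element
  obtain ⟨g, hg⟩ : ∃ g, g ∉ Wc := by
    by_contra h
    push Not at h
    rw [Subgroup.index_eq_one.2 ((Subgroup.eq_top_iff' _).2 h)] at hWidx
    omega
  obtain ⟨e, he, hge⟩ : ∃ e ∈ U, g * e * g⁻¹ ≠ e := by
    by_contra h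
    push Not at h
    exact hg (Subgroup.mem_centralizer_iff.2 fun y hy => (mul_inv_eq_iff_eq_mul.1 (h y hy)).symm)
  have hUcomm : ∀ a ∈ U, ∀ b ∈ U, a * b = b * a := fun a ha b hb => by
    have h3 := inv_eq_of_mul_eq_one_right (hUsq _ (U.mul_mem ha hb))
    rw [mul_inv_rev, inv_eq_of_mul_eq_one_right (hUsq _ ha), inv_eq_of_mul_eq_one_right (hUsq _ hb)] at h3
    exact h3.symm
  have hge' : g * e * g⁻¹ ∈ U := hUn.conj_mem e he g
  have hgg : g * g ∈ Wc := (Subgroup.mul_mem_iff_of_index_two hWidx).2 (iff_of_false hg hg)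
  set x := e * (g * e * g⁻¹) with hx
  have hxU : x ∈ U := U.mul_mem he hge'
  have hgx : g * x * g⁻¹ = x := by
    have h1 : g * (g * e * g⁻¹) * g⁻¹ = e := by
      rw [show g * (g * e * g⁻¹) * g⁻¹ = (g * g) * e * (g * g)⁻¹ by group,
        ← Subgroup.mem_centralizer_iff.1 hgg e he, mul_inv_cancel_right]
    rw [hx, show g * (e * (g * e * g⁻¹)) * g⁻¹ = g * e * g⁻¹ * (g * (g * e * g⁻¹) * g⁻¹) by group, h1]
    exact hUcomm _ hge' _ he
  have hxz : (x : G) = σ.z := by
    refine (σ.center_S hG S hTS x.2 fun y hy => ?_).resolve_left fun h => hge ?_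
    · have hfix : ∀ s : (S : Subgroup G), s * x = x * s := by
        intro s
        by_cases hs : s ∈ Wc
        · exact (Subgroup.mem_centralizer_iff.1 hs x hxU).symm
        · have hgs : g * s ∈ Wc := (Subgroup.mul_mem_iff_of_index_two hWidx).2 (iff_of_false hg hs)
          have h1 := Subgroup.mem_centralizer_iff.1 hgs x hxU
          calc s * x = g⁻¹ * (g * s * x) := by group
            _ = g⁻¹ * (x * (g * s)) := by rw [← h1]
            _ = g⁻¹ * (g * x * g⁻¹) * g * s := by rw [hgx]; group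
            _ = x * s := by group
      exact (congrArg Subtype.val (hfix ⟨y, hy⟩) :).symm
    · have h1 : e * (g * e * g⁻¹) = 1 := Subtype.ext h
      exact ((inv_eq_of_mul_eq_one_right h1).symm.trans (inv_eq_of_mul_eq_one_right (hUsq e he)))
  set E := U.map (S : Subgroup G).subtype with hE
  have hES : E ≤ (S : Subgroup G) := Subgroup.map_subtype_le _
  have hmemE : ∀ {a : (S : Subgroup G)}, (a : G) ∈ E ↔ a ∈ U := fun {a} =>
    ⟨fun ⟨b, hb, e'⟩ => (Subtype.ext e' : b = a) ▸ hb, fun h => ⟨a, h, rfl⟩⟩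
  have hE4' : Nat.card E = 4 := by rw [hE, Subgroup.card_map_of_injective (Subgroup.subtype_injective _), hU4]
  have hEn : ∀ s ∈ (S : Subgroup G), ∀ a ∈ E, s * a * s⁻¹ ∈ E := by
    rintro s hs _ ⟨a, ha, rfl⟩
    exact ⟨⟨s, hs⟩ * a * ⟨s, hs⟩⁻¹, hUn.conj_mem a ha _, rfl⟩
  have hEsq : ∀ a ∈ E, a * a = 1 := by
    rintro _ ⟨a, ha, rfl⟩
    exact congrArg Subtype.val (hUsq a ha)
  -- no element of `E` is a conjugate of `t`
  have hEnT : ∀ a ∈ E, ¬ σ.IsT a := by
    intro a ha h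
    have hle := σ.card_le_of_isT h ((S.isPGroup'.to_subgroup Wc).map (S : Subgroup G).subtype) (by
      rintro _ ⟨y, hy, rfl⟩
      obtain ⟨b, hb, rfl⟩ := ha
      exact (congrArg Subtype.val (Subgroup.mem_centralizer_iff.1 hy b hb) :).symm)
    rw [Subgroup.card_map_of_injective (Subgroup.subtype_injective _)] at hle
    have h1 := Subgroup.card_mul_index Wc
    rw [hWidx] at h1
    have : 0 < Nat.card σ.T := Nat.card_pos
    omega
  -- an extremal conjugate centralising `E`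
  obtain ⟨u, huW, hu⟩ : ∃ u, (∀ a ∈ E, Commute u a) ∧ σ.Ext S u := by
    by_cases ht : (⟨σ.t, hTS σ.t_mem⟩ : (S : Subgroup G)) ∈ Wc
    · refine ⟨σ.t, ?_, 1, by group, fun y hy => by rw [one_mul, inv_one, mul_one]; exact hTS hy⟩
      rintro _ ⟨b, hb, rfl⟩
      exact (congrArg Subtype.val (Subgroup.mem_centralizer_iff.1 ht b hb) :).symm
    · have hhalf : HalfOf σ.t (S : Subgroup G) (Wc.map (S : Subgroup G).subtype) := by
        refine ⟨Subgroup.map_subtype_le _, ?_, fun y hy => ?_⟩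
        · rintro ⟨b, hb, hb'⟩
          exact ht ((Subtype.ext hb' : b = ⟨σ.t, hTS σ.t_mem⟩) ▸ hb)
        · by_cases h : (⟨y, hy⟩ : (S : Subgroup G)) ∈ Wc
          · exact Or.inl ⟨_, h, rfl⟩
          · exact Or.inr ⟨_, (Subgroup.mul_mem_iff_of_index_two hWidx).2 (iff_of_false ht h), rfl⟩
      obtain ⟨u, ⟨b, hb, hbu⟩, hu⟩ := σ.exists_ext hG S hTS hhalf
      refine ⟨u, ?_, hu⟩
      rintro _ ⟨c, hc, rfl⟩
      rw [← hbu]
      exact (congrArg Subtype.val (Subgroup.mem_centralizer_iff.1 hb c hc) :).symm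
  obtain ⟨k, hku, hk⟩ := σ.ext_mem S.isPGroup' hu
  have : Fact (Nat.Prime 2) := ⟨Nat.prime_two⟩
  let S' : Sylow 2 G := k⁻¹ • S
  have hS'mem : ∀ {y : G}, y ∈ (S' : Subgroup G) ↔ k * y * k⁻¹ ∈ (S : Subgroup G) := fun {y} => by
    rw [Sylow.coe_subgroup_smul]
    show y ∈ (S : Subgroup G).map (MulAut.conj k⁻¹).toMonoidHom ↔ _
    rw [Subgroup.mem_map_equiv, MulAut.conj_symm_apply, inv_inv]
  have hTS' : σ.T ≤ (S' : Subgroup G) := fun y hy => hS'mem.2
    ((hk _).2 (by rw [show k⁻¹ * (k * y * k⁻¹) * k = y by group]; exact hy)).1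
  have hcardS : Nat.card (S' : Subgroup G) = Nat.card (S : Subgroup G) := S'.card_eq_multiplicity.trans S.card_eq_multiplicity.symm
  let E' : Subgroup G := E.map (MulAut.conj k⁻¹).toMonoidHom
  have hE'mem : ∀ {y : G}, y ∈ E' ↔ k * y * k⁻¹ ∈ E := fun {y} => by
    show y ∈ E.map _ ↔ _
    rw [Subgroup.mem_map_equiv, MulAut.conj_symm_apply, inv_inv]
  have hE'sq : ∀ y ∈ E', y * y = 1 := by
    intro y hy
    have h1 := hEsq _ (hE'mem.1 hy)
    rw [show k * y * k⁻¹ * (k * y * k⁻¹) = k * (y * y) * k⁻¹ by group] at h1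
    exact conj_eq_one_iff.1 h1
  have hE'D : E' ≤ σ.D := by
    intro y hy
    have hy' := hE'mem.1 hy
    have hyT : y ∈ σ.T := by
      have h1 := (hk (k * y * k⁻¹)).1 ⟨hES hy', (huW _ hy').symm⟩
      rwa [show k⁻¹ * (k * y * k⁻¹) * k = y by group] at h1
    refine (σ.dec y hyT).resolve_right fun h => hEnT _ hy' ?_
    exact σ.isT_conj ((σ.isT_iff hG S hTS hyT (hE'sq y hy)).2 h) k
  have hzE : σ.z ∈ E := by rw [← hxz]; exact hmemE.2 hxU
  have hzE' : σ.z ∈ E' := by
    have hmem : k⁻¹ * σ.z * k ∈ E' := hE'mem.2 (by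
      rw [show k * (k⁻¹ * σ.z * k) * k⁻¹ = σ.z by group]; exact hzE)
    have hcen : ∀ y ∈ (S' : Subgroup G), Commute (k⁻¹ * σ.z * k) y := fun y hy => by
      have h1 := σ.z_central hG S hTS _ (hS'mem.1 hy)
      show k⁻¹ * σ.z * k * y = y * (k⁻¹ * σ.z * k)
      calc k⁻¹ * σ.z * k * y = k⁻¹ * (σ.z * (k * y * k⁻¹)) * k := by group
        _ = k⁻¹ * ((k * y * k⁻¹) * σ.z) * k := by rw [h1.eq]
        _ = _ := by group
    rcases σ.center_S hG S' hTS' (hTS' (σ.D_le (hE'D hmem))) hcen with h | h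
    · exact absurd (show σ.z = 1 by
        calc σ.z = k * (k⁻¹ * σ.z * k) * k⁻¹ := by group
          _ = 1 := by rw [h]; group) σ.z_ne
    · rw [h] at hmem; exact hmem
  refine ⟨S', E', hTS', hcardS, hE'D, ?_, hzE', hE'sq, ?_, k⁻¹ * (g : G) * k, ?_, k⁻¹ * (e : G) * k, ?_, ?_⟩
  · rw [Subgroup.card_map_of_injective (MulAut.conj k⁻¹).injective, hE4']
  · intro s hs y hy
    refine hE'mem.2 ?_
    rw [show k * (s * y * s⁻¹) * k⁻¹ = k * s * k⁻¹ * (k * y * k⁻¹) * (k * s * k⁻¹)⁻¹ by group]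
    exact hEn _ (hS'mem.1 hs) _ (hE'mem.1 hy)
  · exact hS'mem.2 (by rw [show k * (k⁻¹ * (g : G) * k) * k⁻¹ = (g : G) by group]; exact g.2)
  · exact hE'mem.2 (by rw [show k * (k⁻¹ * (e : G) * k) * k⁻¹ = (e : G) by group]; exact hmemE.2 he)
  · intro h
    refine hge (Subtype.ext ?_)
    show (g : G) * (e : G) * (g : G)⁻¹ = e
    calc (g : G) * (e : G) * (g : G)⁻¹
        = k * (k⁻¹ * (g : G) * k * (k⁻¹ * (e : G) * k) * (k⁻¹ * (g : G) * k)⁻¹) * k⁻¹ := by group
      _ = e := by rw [h]; group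

end DihSetting

end CfsgLib.Core.TwoTimesPSL
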