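import Cfsg.Agent.Lib.Core.TwoTimesPSL.CentralizerModel
import Cfsg.Agent.Lib.TwoGroups.DihedralFusion

/-!
# The dihedral case: the setting

`DihSetting G`: an involution `t` whose centraliser has a Sylow 2-subgroup `⟨t⟩ × D`, `D` dihedral of
order at least `8` with central involution `z`, the involutions of `D` being conjugate in `C(t)`.
-/

set_option autoImplicit false
set_option linter.unusedSectionVars false

namespace CfsgLib.Core.TwoTimesPSL

universe u v

/-- The dihedral setting. -/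
structure DihSetting (G : Type u) [Group G] where
  t : G
  T : Subgroup G
  D : Subgroup G
  z : G
  invo : t * t = 1
  t_mem : t ∈ T
  t_not_mem : t ∉ D
  D_le : D ≤ T
  dec : ∀ x ∈ T, x ∈ D ∨ t * x ∈ D
  cent : ∀ x ∈ T, Commute x t
  two : IsPGroup 2 T
  max : ∀ R : Subgroup G, IsPGroup 2 R → (∀ x ∈ R, Commute x t) → T ≤ R → R ≤ T
  card_D : 8 ≤ Nat.card D
  z_mem : z ∈ D
  z_sq : z * z = 1
  z_ne : z ≠ 1
  z_comm : ∀ x ∈ D, Commute x z
  sq_unique : ∀ y ∈ D, y * y * (y * y) = 1 → y * y = 1 ∨ y * y = z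
  center : ∀ x ∈ D, (∀ y ∈ D, Commute x y) → x = 1 ∨ x = z
  gen : D ≤ Subgroup.closure {x | x ∈ D ∧ x * x = 1}
  rot : ∀ d ∈ D, d * d = z → ∃ e ∈ D, e * e = 1 ∧ d * e * d⁻¹ = e * z
  four : ∀ E : Subgroup G, E ≤ D → Nat.card E = 4 → (∀ x ∈ E, x * x = 1) →
    (∀ y ∈ D, ∀ x ∈ E, y * x * y⁻¹ ∈ E) → Nat.card D ≤ 8
  conj : ∀ x ∈ D, x * x = 1 → x ≠ 1 → ∀ y ∈ D, y * y = 1 → y ≠ 1 → ∃ c, Commute c t ∧ c * x * c⁻¹ = y

section Model

open DihedralGroup CfsgLib.TwoGroups CfsgLib.TwoGroups.Dihedral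

variable {n : ℕ}

theorem dih_two_ne_zero (hn : 2 ≤ n) : (2 : ZMod (2 ^ n)) ≠ 0 := by
  intro h
  have h2 : ((2 : ℕ) : ZMod (2 ^ n)) = 0 := by exact_mod_cast h
  rw [ZMod.natCast_eq_zero_iff] at h2
  have := Nat.le_of_dvd two_pos h2
  have : 4 ≤ 2 ^ n := by simpa using Nat.pow_le_pow_right two_pos hn
  omega

theorem dih_rot (hn : 1 ≤ n) (d : DihedralGroup (2 ^ n)) (h : d * d = r (half n)) :
    ∃ e : DihedralGroup (2 ^ n), e * e = 1 ∧ d * e * d⁻¹ = e * r (half n) := by
  rcases d with a | a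
  · rw [r_mul_r, DihedralGroup.r.injEq] at h
    refine ⟨sr 0, sr_mul_self 0, ?_⟩
    rw [conj_r_sr, sr_mul_r, zero_add, two_mul, h, zero_sub, neg_half hn]
  · rw [sr_mul_self, one_def, DihedralGroup.r.injEq] at h
    exact absurd h.symm (half_ne_zero hn)

theorem dih_gen (y : DihedralGroup (2 ^ n)) :
    y ∈ Subgroup.closure {x : DihedralGroup (2 ^ n) | x * x = 1} := by
  rcases y with a | a
  · have e : r a = sr (0 : ZMod (2 ^ n)) * sr a := by rw [sr_mul_sr, sub_zero]
    rw [e]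
    exact mul_mem (Subgroup.subset_closure (sr_mul_self 0)) (Subgroup.subset_closure (sr_mul_self a))
  · exact Subgroup.subset_closure (sr_mul_self a)

theorem dih_four (hn : 1 ≤ n) (E : Subgroup (DihedralGroup (2 ^ n))) (hE : Nat.card E = 4)
    (hsq : ∀ x ∈ E, x * x = 1) (hnorm : ∀ y, ∀ x ∈ E, y * x * y⁻¹ ∈ E) : n ≤ 2 := by
  obtain ⟨i, hi⟩ : ∃ i, sr i ∈ E := by
    by_contra hcon
    push Not at hcon
    have : NeZero (2 ^ n) := ⟨pow_ne_zero _ two_ne_zero⟩
    have hle : Nat.card E ≤ Nat.card ({r 0, r (half n)} : Finset (DihedralGroup (2 ^ n))) := by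
      refine Nat.card_le_card_of_injective (fun x : E => ⟨x.1, ?_⟩) fun a b e =>
        Subtype.ext (congrArg Subtype.val e :)
      rcases hx : x.1 with a | a
      · rcases sq_eq_one_r hn (by rw [← hx]; exact hsq _ x.2) with h | h
        · rw [one_def] at h; simp [h]
        · simp [h]
      · exact absurd (hx ▸ x.2) (hcon a)
    rw [hE, Nat.card_eq_finsetCard] at hle
    have := hle.trans (Finset.card_le_two (a := (r 0 : DihedralGroup (2 ^ n))) (b := r (half n)))
    omega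
  have h1 := hnorm (r 1) _ hi
  rw [conj_r_sr, mul_one] at h1
  have h2 := hsq _ (E.mul_mem hi h1)
  rw [sr_mul_sr, r_mul_r, one_def, DihedralGroup.r.injEq] at h2
  by_contra hn'
  have h4 : ((4 : ℕ) : ZMod (2 ^ n)) = 0 := by
    push_cast
    linear_combination -h2
  rw [ZMod.natCast_eq_zero_iff] at h4
  have := Nat.le_of_dvd (by norm_num) h4
  have : 8 ≤ 2 ^ n := by simpa using Nat.pow_le_pow_right two_pos (show 3 ≤ n by omega)
  omega

theorem dih_center (hn : 2 ≤ n) (x : DihedralGroup (2 ^ n)) (h : ∀ y, x * y = y * x) :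
    x = 1 ∨ x = r (half n) := by
  rcases x with a | a
  · have h1 := h (sr 0)
    rw [r_mul_sr, sr_mul_r, DihedralGroup.sr.injEq, zero_sub, zero_add] at h1
    rcases sq_eq_one_r (n := n) (by omega) (t := a) (by
      rw [r_mul_r, one_def, DihedralGroup.r.injEq]
      linear_combination -h1) with h2 | h2
    · exact Or.inl h2
    · exact Or.inr (by rw [h2])
  · exfalso
    have h1 := h (r 1)
    rw [sr_mul_r, r_mul_sr, DihedralGroup.sr.injEq] at h1
    exact dih_two_ne_zero hn (by linear_combination h1)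

end Model

namespace CentData

variable {G : Type u} [Group G] [Finite G] {t : G} {P : Type v} [Group P] {Δ : CentData G t P}
  {T D : Subgroup G} {Q : Sylow 2 P}

open DihedralGroup CfsgLib.TwoGroups CfsgLib.TwoGroups.Dihedral in
/-- A dihedral Sylow subgroup of `P` gives a dihedral setting. -/
theorem SylowData.dihSetting (h : Δ.SylowData T D Q) [Finite P] {k : ℕ} (hk : 2 ≤ k)
    (e : (Q : Subgroup P) ≃* DihedralGroup (2 ^ k)) (hidx : ∀ H : Subgroup P, H.index ≠ 2) :
    Nonempty (DihSetting G) := by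
  have : NeZero (2 ^ k) := ⟨pow_ne_zero _ two_ne_zero⟩
  have hk1 : 1 ≤ k := by omega
  let φ : D →* (Q : Subgroup P) :=
    MonoidHom.mk' (fun x => ⟨Δ.proj ⟨x, h.mem_L x.2⟩, h.proj_mem _ _ (h.D_le x.2)⟩) fun a b =>
      Subtype.ext (map_mul Δ.proj ⟨a, h.mem_L a.2⟩ ⟨b, h.mem_L b.2⟩)
  have hφ : Function.Bijective φ := by
    refine ⟨fun a b e' => Subtype.ext (h.proj_inj a.2 b.2 (congrArg Subtype.val e' :)), ?_⟩
    rintro ⟨q, hq⟩
    obtain ⟨x, hx, _, e'⟩ := h.proj_surj q hq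
    exact ⟨⟨x, hx⟩, Subtype.ext e'⟩
  let ψ : D ≃* DihedralGroup (2 ^ k) := (MulEquiv.ofBijective φ hφ).trans e
  let f : DihedralGroup (2 ^ k) →* G := D.subtype.comp ψ.symm.toMonoidHom
  have hf : Function.Injective f := D.subtype_injective.comp ψ.symm.injective
  have hfD : ∀ a, f a ∈ D := fun a => (ψ.symm a).2
  have hfs : ∀ x ∈ D, ∃ a, f a = x := fun x hx =>
    ⟨ψ ⟨x, hx⟩, congrArg Subtype.val (ψ.symm_apply_apply ⟨x, hx⟩)⟩
  -- all involutions of `P` are conjugate
  have hcls : ∀ a b : P, orderOf a = 2 → orderOf b = 2 → IsConj a b :=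
    all_conj_of_no_index_two (f := (Q : Subgroup P).subtype.comp e.symm.toMonoidHom)
      ((Q : Subgroup P).subtype_injective.comp e.symm.injective)
      (by rw [MonoidHom.range_comp, MonoidHom.range_eq_top.2 e.symm.surjective, ← MonoidHom.range_eq_map,
        Subgroup.range_subtype]) hk1 hidx
  have hconj : ∀ x ∈ D, x * x = 1 → x ≠ 1 → ∀ y ∈ D, y * y = 1 → y ≠ 1 →
      ∃ c, Commute c t ∧ c * x * c⁻¹ = y := by
    intro x hx hx2 hx1 y hy hy2 hy1
    have hord : ∀ {z : G} (hz : z ∈ D), z * z = 1 → z ≠ 1 → orderOf (Δ.proj ⟨z, h.mem_L hz⟩) = 2 := by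
      intro z hz hz2 hz1
      refine orderOf_eq_prime ?_ fun e' => hz1 (h.proj_inj hz D.one_mem (e'.trans (map_one Δ.proj).symm))
      rw [← map_pow, pow_two, show (⟨z, h.mem_L hz⟩ : Δ.L) * ⟨z, h.mem_L hz⟩ = 1 from Subtype.ext hz2, map_one]
    obtain ⟨p, hp⟩ := isConj_iff.1 (hcls _ _ (hord hx hx2 hx1) (hord hy hy2 hy1))
    obtain ⟨l, rfl⟩ := Δ.proj_surj p
    obtain ⟨hxL, -, hsx⟩ := (h.mem_D x).1 hx
    obtain ⟨hyL, -, hsy⟩ := (h.mem_D y).1 hy
    obtain ⟨x', hx'⟩ : ∃ x' : Δ.L, x' = l * ⟨x, hxL⟩ * l⁻¹ := ⟨_, rfl⟩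
    set y' : Δ.L := ⟨y, hyL⟩ with hy'
    have hx'2 : x' * x' = 1 := by
      rw [hx', show l * ⟨x, hxL⟩ * l⁻¹ * (l * ⟨x, hxL⟩ * l⁻¹) = l * (⟨x, hxL⟩ * ⟨x, hxL⟩) * l⁻¹ by group,
        show (⟨x, hxL⟩ : Δ.L) * ⟨x, hxL⟩ = 1 from Subtype.ext hx2, mul_one, mul_inv_cancel]
    have hy'2 : y' * y' = 1 := Subtype.ext hy2
    have hx'i : x'⁻¹ = x' := inv_eq_of_mul_eq_one_right hx'2
    have hy'i : y'⁻¹ = y' := inv_eq_of_mul_eq_one_right hy'2
    have hker : Δ.f (x' * y') = 1 := by
      have hsx' : Δ.sgn x' = 1 := by rw [hx', map_mul, map_mul, hsx, mul_one, ← map_mul, mul_inv_cancel, map_one]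
      have hpx : Δ.proj x' = Δ.proj y' := by rw [hx', map_mul, map_mul, map_inv, hp]
      rw [Δ.f_eq, Δ.sgn.map_mul x' y', Δ.proj.map_mul x' y', hsx', hsy, hpx, ← Δ.proj.map_mul, hy'2, map_one, mul_one]
      rfl
    obtain ⟨m, hm⟩ := Δ.ker_odd _ hker
    set d := x' * y' with hd
    have hidi : x' * d * x'⁻¹ = d⁻¹ := by
      rw [hd, mul_inv_rev, hx'i, hy'i, ← mul_assoc x' x' y', hx'2, one_mul]
    set q := d ^ (m + 1)
    have hiq : x' * q * x'⁻¹ = q⁻¹ := by rw [← conj_pow, hidi, inv_pow]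
    have hqq : q * q = d := by
      rw [← pow_add, show (m + 1) + (m + 1) = (2 * m + 1) + 1 by ring, pow_succ, ← hm,
        pow_orderOf_eq_one, one_mul]
    have key : q⁻¹ * x' * q = y' := by
      calc q⁻¹ * x' * q = (x' * q * x'⁻¹) * x' * q := by rw [hiq]
        _ = x' * (q * q) := by group
        _ = y' := by rw [hqq, hd, ← mul_assoc, hx'2, one_mul]
    refine ⟨((q⁻¹ * l : Δ.L) : G), Δ.le _ (q⁻¹ * l).2, ?_⟩
    have := congrArg Subtype.val key
    simp only [hx', hy', Subgroup.coe_mul, Subgroup.coe_inv] at this ⊢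
    rw [← this]
    group
  have hzf : ∀ b : DihedralGroup (2 ^ k), b * r (half k) = r (half k) * b := by
    intro b
    rcases b with b | b
    · rw [r_mul_r, r_mul_r, add_comm]
    · rw [sr_mul_r, r_mul_sr, sub_eq_add_neg, neg_half hk1]
  refine ⟨{
    t := t
    T := T
    D := D
    z := f (r (half k))
    invo := Δ.t_sq
    t_mem := h.t_mem
    t_not_mem := h.t_not_mem
    D_le := h.D_le
    dec := fun x hx => h.cases hx
    cent := fun x hx => (h.cent hx).symm
    two := h.two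
    max := h.max
    card_D := by
      rw [Nat.card_congr ψ.toEquiv, DihedralGroup.nat_card]
      have : 4 ≤ 2 ^ k := by simpa using Nat.pow_le_pow_right two_pos hk
      omega
    z_mem := hfD _
    z_sq := by rw [← map_mul, r_mul_r, half_add_half hk1, ← one_def, map_one]
    z_ne := fun e' => by
      rw [← map_one f] at e'
      exact half_ne_zero hk1 (DihedralGroup.r.inj ((hf e').trans one_def))
    z_comm := fun x hx => by
      obtain ⟨a, rfl⟩ := hfs x hx
      show f a * f _ = f _ * f a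
      rw [← map_mul, ← map_mul, hzf]
    sq_unique := fun y hy h4 => by
      obtain ⟨a, rfl⟩ := hfs y hy
      rcases a with a | a
      · rw [← map_mul, ← map_mul, ← map_one f] at h4
        have h4' := hf h4
        rw [r_mul_r] at h4'
        rcases sq_eq_one_r hk1 h4' with h5 | h5
        · exact Or.inl (by rw [← map_mul, r_mul_r, h5, map_one])
        · exact Or.inr (by rw [← map_mul, r_mul_r, h5])
      · exact Or.inl (by rw [← map_mul, sr_mul_self, map_one])
    center := fun x hx hc => by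
      obtain ⟨a, rfl⟩ := hfs x hx
      rcases dih_center hk a (fun b => hf (by rw [map_mul, map_mul]; exact hc _ (hfD b))) with h1 | h1
      · exact Or.inl (by rw [h1, map_one])
      · exact Or.inr (by rw [h1])
    gen := fun x hx => by
      obtain ⟨a, rfl⟩ := hfs x hx
      have h1 := Subgroup.mem_map_of_mem f (dih_gen a)
      rw [MonoidHom.map_closure] at h1
      refine Subgroup.closure_mono ?_ h1
      rintro _ ⟨b, hb, rfl⟩
      exact ⟨hfD b, by rw [← map_mul, show b * b = 1 from hb, map_one]⟩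
    rot := fun d hd h2 => by
      obtain ⟨a, rfl⟩ := hfs d hd
      rw [← map_mul] at h2
      obtain ⟨b, hb, hb'⟩ := dih_rot hk1 a (hf h2)
      exact ⟨f b, hfD b, by rw [← map_mul, hb, map_one], by rw [← map_inv, ← map_mul, ← map_mul, hb', map_mul]⟩
    four := fun E hED hE hEsq hnorm => by
      have hcard : Nat.card (E.comap f) = 4 := by
        rw [← hE]
        refine Nat.card_congr (Equiv.ofBijective (fun x : E.comap f => (⟨f x, x.2⟩ : E)) ⟨?_, ?_⟩)
        · exact fun a b e' => Subtype.ext (hf (congrArg Subtype.val e' :))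
        · rintro ⟨x, hx⟩
          obtain ⟨a, rfl⟩ := hfs x (hED hx)
          exact ⟨⟨a, hx⟩, rfl⟩
      have hk2 := dih_four hk1 (E.comap f) hcard (fun x hx => hf (by rw [map_mul, map_one]; exact hEsq _ hx))
        fun y x hx => by
          rw [Subgroup.mem_comap, map_mul, map_mul, map_inv]
          exact hnorm _ (hfD y) _ hx
      rw [Nat.card_congr ψ.toEquiv, DihedralGroup.nat_card, show k = 2 by omega]
      norm_num
    conj := hconj }⟩

end CentData

end CfsgLib.Core.TwoTimesPSL
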