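import Cfsg.Agent.Lib.Core.TwoTimesPSL.Setting

/-!
# The orbit hypothesis and the possible outcomes

* `exists_conj_mem`: a 2-subgroup of `H` is conjugate in `H` into a maximal one
* `Setting.Orbit`: `N(T)` maps `t` onto exactly `tV`
* `Setting.Outcome`: the possible Sylow 2-subgroups
-/

set_option autoImplicit false
set_option linter.unusedSectionVars false

namespace CfsgLib.Core.TwoTimesPSL

universe u

variable {G : Type u} [Group G]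

/-- A 2-subgroup of `H` is conjugate in `H` into any maximal one. -/
theorem exists_conj_mem [Finite G] {H P Q : Subgroup G} (hP : IsPGroup 2 P) (hPH : P ≤ H)
    (hmax : ∀ P' : Subgroup G, IsPGroup 2 P' → P' ≤ H → P ≤ P' → P' ≤ P) (hQ : IsPGroup 2 Q)
    (hQH : Q ≤ H) : ∃ h ∈ H, ∀ x ∈ Q, h * x * h⁻¹ ∈ P := by
  have : Fact (Nat.Prime 2) := ⟨Nat.prime_two⟩
  obtain ⟨SP, hSP⟩ := (hP.comap_subtype : IsPGroup 2 (P.subgroupOf H)).exists_le_sylow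
  obtain ⟨SQ, hSQ⟩ := (hQ.comap_subtype : IsPGroup 2 (Q.subgroupOf H)).exists_le_sylow
  obtain ⟨h, hh⟩ := MulAction.exists_smul_eq H SQ SP
  have hle : (SP : Subgroup H).map H.subtype ≤ P :=
    hmax _ (SP.isPGroup'.map _) (Subgroup.map_subtype_le _) fun x hx =>
      ⟨⟨x, hPH hx⟩, hSP (Subgroup.mem_subgroupOf.2 hx), rfl⟩
  refine ⟨h, h.2, fun x hx => hle ⟨h * ⟨x, hQH hx⟩ * h⁻¹, ?_, rfl⟩⟩
  have hx' : (⟨x, hQH hx⟩ : H) ∈ (SQ : Subgroup H) := hSQ (Subgroup.mem_subgroupOf.2 hx)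
  have hconj := Subgroup.smul_mem_pointwise_smul _ (MulAut.conj h) _ hx'
  rw [← hh, Sylow.coe_subgroup_smul]
  exact hconj

/-- A maximal 2-subgroup is a Sylow subgroup. -/
theorem exists_sylow_eq {S : Subgroup G} (hS : IsPGroup 2 S)
    (hmax : ∀ P : Subgroup G, IsPGroup 2 P → S ≤ P → P ≤ S) : ∃ P : Sylow 2 G, (P : Subgroup G) = S := by
  obtain ⟨P, hP⟩ := hS.exists_le_sylow
  exact ⟨P, le_antisymm (hmax _ P.isPGroup' hP) hP⟩

namespace Setting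

variable (σ : Setting G)

include σ

theorem T_two : IsPGroup 2 σ.T := fun x => ⟨1, Subtype.ext (by simpa [pow_two] using σ.T_sq x.2)⟩

/-- Every 2-subgroup of `C(t)` is conjugate there into `T`. -/
theorem exists_conj_T [Finite G] {P : Subgroup G} (hP : IsPGroup 2 P) (hPt : ∀ x ∈ P, Commute x σ.t) :
    ∃ c : G, Commute c σ.t ∧ ∀ x ∈ P, c * x * c⁻¹ ∈ σ.T := by
  have hC : ∀ {x : G}, x ∈ Subgroup.centralizer ({σ.t} : Set G) ↔ Commute x σ.t :=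
    Subgroup.mem_centralizer_singleton_iff
  obtain ⟨c, hc, h⟩ := exists_conj_mem σ.T_two (H := Subgroup.centralizer ({σ.t} : Set G))
    (fun x hx => hC.2 (σ.T_comm_t hx))
    (fun P' hP' hle hTP x hx => σ.mem_T_of_two_group hP' (fun v hv => hTP (σ.V_le_T hv)) (hTP σ.t_mem_T) hx
      (hC.1 (hle hx))) hP (fun x hx => hC.2 (hPt x hx))
  exact ⟨c, hC.1 hc, h⟩

/-- `N(T)` moves `t` onto exactly `tV`. -/
structure Orbit : Prop where
  mem : ∀ g ∈ Subgroup.normalizer (σ.T : Set G), σ.t * (g * σ.t * g⁻¹) ∈ σ.V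
  surj : ∀ v ∈ σ.V, ∃ g ∈ Subgroup.normalizer (σ.T : Set G), σ.t * (g * σ.t * g⁻¹) = v

variable {σ}

theorem Orbit.conj_eq (h : σ.Orbit) {x : G} (hx : σ.t * x ∈ σ.V) :
    ∃ g ∈ Subgroup.normalizer (σ.T : Set G), g * σ.t * g⁻¹ = x := by
  obtain ⟨g, hg, hg2⟩ := h.surj _ hx
  exact ⟨g, hg, mul_left_cancel hg2⟩

theorem Orbit.conj_V (h : σ.Orbit) {g : G} (hg : g ∈ Subgroup.normalizer (σ.T : Set G)) {v : G}
    (hv : v ∈ σ.V) : g * v * g⁻¹ ∈ σ.V := by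
  rcases (Subgroup.mem_normalizer_iff.1 hg v).1 (Or.inl hv) with h1 | h1
  · exact h1
  · exfalso
    obtain ⟨g', hg', he⟩ := h.conj_eq h1
    have h2 := h.mem _ (mul_mem (inv_mem hg) hg')
    rw [show σ.t * (g⁻¹ * g' * σ.t * (g⁻¹ * g')⁻¹) = σ.t * (g⁻¹ * (g' * σ.t * g'⁻¹) * g) by group, he,
      show g⁻¹ * (g * v * g⁻¹) * g = v by group] at h2
    refine σ.not_mem ?_
    have := σ.V.mul_mem h2 (σ.V.inv_mem hv)
    rwa [mul_inv_cancel_right] at this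

/-- No conjugate of `t` lies in `V`. -/
theorem Orbit.conj_not_mem_V [Finite G] (h : σ.Orbit) (g : G) : g * σ.t * g⁻¹ ∉ σ.V := by
  intro hv
  set v := g * σ.t * g⁻¹ with hvdef
  have hcomm : ∀ x ∈ σ.T.map (MulAut.conj g⁻¹).toMonoidHom, Commute x σ.t := by
    rintro _ ⟨x, hx, rfl⟩
    have h1 : Commute x v := by
      rcases hx with hx | hx
      · exact σ.v_comm hx hv
      · rw [← σ.t_mul_mul x]
        exact (σ.cent v hv).mul_left (σ.v_comm hx hv)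
    have h2 : g⁻¹ * v * g = σ.t := by rw [hvdef]; group
    show MulAut.conj g⁻¹ x * σ.t = σ.t * MulAut.conj g⁻¹ x
    rw [MulAut.conj_apply, inv_inv, ← h2]
    calc g⁻¹ * x * g * (g⁻¹ * v * g) = g⁻¹ * (x * v) * g := by group
      _ = g⁻¹ * (v * x) * g := by rw [h1.eq]
      _ = _ := by group
  obtain ⟨c, hc, hcT⟩ := σ.exists_conj_T (σ.T_two.map _) hcomm
  have hn : c * g⁻¹ ∈ Subgroup.normalizer (σ.T : Set G) := by
    rw [Subgroup.mem_normalizer_iff]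
    have hf : ∀ x ∈ σ.T, c * g⁻¹ * x * (c * g⁻¹)⁻¹ ∈ σ.T := by
      intro x hx
      have := hcT _ ⟨x, hx, rfl⟩
      rw [show c * g⁻¹ * x * (c * g⁻¹)⁻¹ = c * (MulAut.conj g⁻¹ x) * c⁻¹ by
        rw [MulAut.conj_apply]; group]
      exact this
    let f : σ.T → σ.T := fun x => ⟨_, hf x.1 x.2⟩
    have hs : Function.Surjective f := Finite.injective_iff_surjective.1 fun a b e =>
      Subtype.ext (mul_left_cancel (mul_right_cancel (congrArg Subtype.val e :)))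
    refine fun x => ⟨hf x, fun hx => ?_⟩
    obtain ⟨y, hy⟩ := hs ⟨_, hx⟩
    have : (y : G) = x := mul_left_cancel (mul_right_cancel (congrArg Subtype.val hy :))
    exact this ▸ y.2
  have h3 := h.mem _ (inv_mem hn)
  rw [show σ.t * ((c * g⁻¹)⁻¹ * σ.t * ((c * g⁻¹)⁻¹)⁻¹) = σ.t * (g * (c⁻¹ * σ.t * c) * g⁻¹) by group,
    hc.inv_left.eq, inv_mul_cancel_right, ← hvdef] at h3
  refine σ.not_mem ?_
  have := σ.V.mul_mem h3 (σ.V.inv_mem hv)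
  rwa [mul_inv_cancel_right] at this

variable (σ)

/-- `K` has index `2` in `S` and misses `t`. -/
def IndexTwo (S K : Subgroup G) : Prop := K ≤ S ∧ σ.t ∉ K ∧ ∀ x ∈ S, x ∈ K ∨ σ.t * x ∈ K

/-- An abelian subgroup of index `2`. -/
def AbelianCase (S : Subgroup G) : Prop :=
  ∃ K : Subgroup G, σ.IndexTwo S K ∧ σ.V ≤ K ∧ (∀ a ∈ K, ∀ b ∈ K, Commute a b) ∧
    (∀ x ∈ K, Commute x σ.t → x ∈ σ.V) ∧
    ((∃ j, 2 ≤ j ∧ (∀ x ∈ K, x ^ 2 ^ j = 1) ∧ (∀ x ∈ K, x * x = 1 → x ∈ σ.V) ∧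
        Nat.card K = Nat.card σ.V ^ j) ∨
      ((∀ x ∈ K, x * x = 1) ∧ Nat.card K = Nat.card σ.V ^ 2))

/-- A homocyclic inverted subgroup with elementary quotient. -/
def InvertedCase (S : Subgroup G) : Prop :=
  ∃ M K : Subgroup G, ∃ j, 2 ≤ j ∧ σ.V ≤ M ∧ (∀ a ∈ M, ∀ b ∈ M, Commute a b) ∧
    (∀ m ∈ M, σ.t * m * σ.t = m⁻¹) ∧ (∀ m ∈ M, m * m = 1 → m ∈ σ.V) ∧ (∀ m ∈ M, m ^ 2 ^ j = 1) ∧
    Nat.card M = Nat.card σ.V ^ j ∧ σ.IndexTwo S K ∧ M ≤ K ∧ Nat.card K = Nat.card M * Nat.card σ.V ∧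
    (∀ x ∈ S, x * x ∈ M) ∧ (∀ x ∈ S, ∀ m ∈ M, x * m * x⁻¹ ∈ M) ∧
    ∀ x ∈ S, σ.Extremal S x → σ.t * x ∈ M

/-- The exceptional case. -/
def Exceptional (S : Subgroup G) : Prop :=
  Nat.card σ.V = 8 ∧ ∃ W : Subgroup G, σ.IndexTwo S W ∧ ∀ x ∈ W, ¬ σ.Extremal S x

/-- The possible Sylow subgroups. -/
def Outcome : Prop :=
  ∃ S : Sylow 2 G, σ.T ≤ (S : Subgroup G) ∧
    (σ.AbelianCase S ∨ σ.InvertedCase S ∨ σ.Exceptional S)

end Setting

end CfsgLib.Core.TwoTimesPSL
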