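import Cfsg.Agent.Lib.Core.TwoTimesPSL.Level
import Cfsg.Agent.Lib.Core.TwoTimesPSL.Orbit

/-!
# Sylow subgroups of the normaliser of a level

Basic facts used in the inductive step: the image of a Sylow 2-subgroup of `X` has order `|V|` and
is regular on the outer coset; a Sylow subgroup all of whose extremal conjugates of `t` lie in `tM`
is a Sylow subgroup of `G`.
-/

set_option autoImplicit false
set_option linter.unusedSectionVars false

namespace CfsgLib.Core.TwoTimesPSL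

universe u

variable {G : Type u} [Group G]

/-- A proper subgroup of a 2-group is properly contained in its normaliser. -/
theorem exists_normalizer_mem [Finite G] {P R : Subgroup G} (hP : IsPGroup 2 P) (hRP : R ≤ P)
    (hne : ¬ P ≤ R) : ∃ g ∈ P, g ∉ R ∧ g ∈ Subgroup.normalizer (R : Set G) := by
  have : Fact (Nat.Prime 2) := ⟨Nat.prime_two⟩
  have := hP.isNilpotent
  have hlt : R.subgroupOf P < ⊤ := lt_top_iff_ne_top.2 fun h => hne fun x hx => by
    have := (Subgroup.eq_top_iff' _).1 h ⟨x, hx⟩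
    exact Subgroup.mem_subgroupOf.1 this
  obtain ⟨g, hg, hgR⟩ := SetLike.exists_of_lt (Group.normalizerCondition_of_isNilpotent (R.subgroupOf P) hlt)
  refine ⟨g, g.2, fun h => hgR (Subgroup.mem_subgroupOf.2 h), Subgroup.mem_normalizer_iff.2 fun x => ?_⟩
  have hg' := Subgroup.mem_normalizer_iff.1 hg
  refine ⟨fun hx => ?_, fun hx => ?_⟩
  · have := Subgroup.mem_subgroupOf.1 ((hg' ⟨x, hRP hx⟩).1 (Subgroup.mem_subgroupOf.2 hx))
    simpa using this
  · have hxP : x ∈ P := by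
      have := P.mul_mem (P.mul_mem (P.inv_mem g.2) (hRP hx)) g.2
      simpa [mul_assoc] using this
    exact Subgroup.mem_subgroupOf.1 ((hg' ⟨x, hxP⟩).2 (Subgroup.mem_subgroupOf.2 (by simpa using hx)))

/-- The order of an image of a 2-element is a power of `2`. -/
theorem orderOf_map_two_pow {X : Type*} {A : Type*} [Group X] [Group A] {P : Subgroup X}
    (hP : IsPGroup 2 P) (f : X →* A) {g : X} (hg : g ∈ P) : ∃ j, orderOf (f g) = 2 ^ j := by
  obtain ⟨k, hk⟩ := hP ⟨g, hg⟩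
  have h2 : g ^ 2 ^ k = 1 := congrArg Subtype.val hk
  obtain ⟨j, -, hj⟩ := (Nat.dvd_prime_pow Nat.prime_two).1
    (orderOf_dvd_of_pow_eq_one (show f g ^ 2 ^ k = 1 by rw [← map_pow, h2, map_one]))
  exact ⟨j, hj⟩

namespace Level

variable {σ : Setting G} {M : Subgroup G} {k : ℕ} (L : Level σ M k)

include L

theorem M_le_V (hk : k = 1) : M ≤ σ.V := fun x hx => L.omega x hx (by
  have := L.exp x hx
  rwa [hk, pow_one, pow_two] at this)

theorem R_eq_T (hk : k = 1) : L.R = σ.T :=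
  le_antisymm (fun _ hx => hx.imp (fun h => L.M_le_V hk h) fun h => L.M_le_V hk h) L.T_le_R

variable [Finite G]

theorem card_V_le : Nat.card σ.V ≤ Nat.card M := Subgroup.card_le_of_le L.V_le

theorem exists_order_four (hk : 2 ≤ k) : ∃ m ∈ M, m * m ≠ 1 := by
  obtain ⟨v, hv, hv1⟩ := (Subgroup.bot_or_exists_ne_one σ.V).resolve_left σ.V_ne_bot
  obtain ⟨m, hm, hmv⟩ := L.pw_surj hv
  refine ⟨m, hm, fun h => hv1 ?_⟩
  rw [← hmv, pw, show k - 1 = (k - 2) + 1 by omega, pow_succ, mul_comm, pow_mul, pow_two, h, one_pow]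

theorem normalizer_le_X (horb : σ.Orbit) : Subgroup.normalizer (L.R : Set G) ≤ L.X := by
  intro g hg
  refine ⟨hg, Subgroup.mem_normalizer_iff.2 fun m => ⟨fun hm => ?_, fun hm => ?_⟩⟩
  · exact L.mem_M_of_normalizer hg (fun hk v hv => horb.conj_V (L.R_eq_T hk ▸ hg) hv) hm
  · have := L.mem_M_of_normalizer (inv_mem hg)
      (fun hk v hv => horb.conj_V (L.R_eq_T hk ▸ inv_mem hg) hv) hm
    rwa [show g⁻¹ * (g * m * g⁻¹) * g⁻¹⁻¹ = m by group] at this

theorem dV_onto_of_one (horb : σ.Orbit) (hk : k = 1) (v : Vsp σ) : ∃ g : L.X, L.dV g = v := by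
  obtain ⟨g, hg, hgv⟩ := horb.surj _ v.mem
  refine ⟨⟨g, L.normalizer_le_X horb (L.R_eq_T hk ▸ hg)⟩, Vsp.ext' ?_⟩
  show L.pw (L.disp g) = v.val'
  rw [pw, show (2 : ℕ) ^ (k - 1) = 1 by rw [hk]; rfl, pow_one]
  exact hgv

theorem dV_eq_one_of_rho {g : L.X} (h : L.rho g = 1) : L.dV g = 1 := by
  have := L.rho_t g
  rw [h, MulAut.one_apply] at this
  exact (Prod.ext_iff.1 this).1.symm

theorem mem_R_of_dV_one {P : Subgroup G} (hP : IsPGroup 2 P) (hRP : L.R ≤ P) {g : L.X}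
    (hg : (g : G) ∈ P) (h : L.dV g = 1) : (g : G) ∈ L.R := by
  obtain ⟨r, hr, hc⟩ := L.exists_fix h
  have h1 := L.T_le_R (σ.mem_T_of_two_group hP (fun v hv => hRP (Or.inl (L.V_le hv))) (hRP L.t_mem_R)
    (P.mul_mem (hRP hr) hg) hc)
  have h2 := L.R.mul_mem (L.R.inv_mem hr) h1
  rwa [inv_mul_cancel_left] at h2

/-- A fixed displacement: `g` fixes the point `t * v`. -/
theorem odd_of_fix_point (hd : ∀ v : Vsp σ, ∃ g : L.X, L.dV g = v) {g : L.X} {v : Vsp σ}
    (h : L.rho g (v, flag) = (v, flag)) : Odd (orderOf (L.rho g)) := by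
  obtain ⟨h', hh⟩ := hd v
  have he : L.rho h' (1, flag) = (v, flag) := by rw [L.rho_t, hh]
  have h1 : L.rho (h'⁻¹ * g * h') (1, flag) = (1, flag) := by
    rw [map_mul, map_mul, MulAut.mul_apply, MulAut.mul_apply, he, h, ← he, ← MulAut.mul_apply, ← map_mul,
      inv_mul_cancel, map_one, MulAut.one_apply]
  rw [L.rho_t] at h1
  have h2 := L.odd_of_fix (Prod.ext_iff.1 h1).1
  have h3 := orderOf_conj (L.rho h')⁻¹ (L.rho g)
  rw [map_mul, map_mul, map_inv] at h2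
  rw [inv_inv] at h3
  rwa [h3] at h2

theorem rho_eq_one_of_fix (hd : ∀ v : Vsp σ, ∃ g : L.X, L.dV g = v) {P : Subgroup G}
    (hP : IsPGroup 2 P) {g : L.X} (hg : (g : G) ∈ P) {x : G} (hx : σ.t * x ∈ M)
    (hgx : Commute (g : G) x) : L.rho g = 1 := by
  have hfix : L.rho g (Vsp.mk (L.pw (σ.t * x)) (L.pw_mem hx), flag) =
      (Vsp.mk (L.pw (σ.t * x)) (L.pw_mem hx), flag) := by
    rw [rho_apply, act]
    refine Prod.ext (Vsp.ext' ?_) rfl
    simp only [if_neg flag_ne, dV, cV, Vsp.val_mk, Vsp.val_mul]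
    have h1 : L.disp (g : G) * ((g : G) * (σ.t * x) * (g : G)⁻¹) = σ.t * x := by
      have e : (g : G) * x * (g : G)⁻¹ = x := by rw [hgx.eq, mul_inv_cancel_right]
      calc L.disp (g : G) * ((g : G) * (σ.t * x) * (g : G)⁻¹)
          = σ.t * ((g : G) * (σ.t * σ.t) * x * (g : G)⁻¹) := by rw [disp]; group
        _ = σ.t * x := by rw [σ.invo, mul_one, e]
    rw [← L.pw_conj, ← L.pw_mul (L.X_conj g.2 hx) (L.disp_mem g.2),
      (L.comm _ (L.X_conj g.2 hx) _ (L.disp_mem g.2)).eq, h1]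
  obtain ⟨j, hj⟩ := orderOf_map_two_pow (hP.comap_subtype : IsPGroup 2 (P.subgroupOf L.X)) L.rho
    (Subgroup.mem_subgroupOf.2 hg)
  have hodd := L.odd_of_fix_point hd hfix
  rw [hj] at hodd
  rcases Nat.eq_zero_or_pos j with h0 | h0
  · rw [h0, pow_zero] at hj
    exact orderOf_eq_one_iff.1 hj
  · exact absurd hodd (by simp [parity_simps, h0.ne'])

theorem exists_sylowX : ∃ P : Sylow 2 L.X, L.R.subgroupOf L.X ≤ (P : Subgroup L.X) :=
  (L.R_two.comap_subtype : IsPGroup 2 (L.R.subgroupOf L.X)).exists_le_sylow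

/-- The Sylow subgroup of `X` as a subgroup of `G`. -/
def sylG (P : Sylow 2 L.X) : Subgroup G := (P : Subgroup L.X).map L.X.subtype

theorem sylG_le_X (P : Sylow 2 L.X) : L.sylG P ≤ L.X := Subgroup.map_subtype_le _

theorem mem_sylG {P : Sylow 2 L.X} {g : L.X} : (g : G) ∈ L.sylG P ↔ g ∈ (P : Subgroup L.X) :=
  ⟨fun ⟨_, ha, e⟩ => Subtype.ext e ▸ ha, fun h => ⟨g, h, rfl⟩⟩

theorem sylG_two (P : Sylow 2 L.X) : IsPGroup 2 (L.sylG P) := P.isPGroup'.map _

theorem R_le_sylG {P : Sylow 2 L.X} (hP : L.R.subgroupOf L.X ≤ (P : Subgroup L.X)) : L.R ≤ L.sylG P :=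
  fun x hx => ⟨⟨x, L.R_le_X hx⟩, hP (Subgroup.mem_subgroupOf.2 hx), rfl⟩

theorem exists_two_pow_V : ∃ n, Nat.card σ.V = 2 ^ n := by
  have : Fact (Nat.Prime 2) := ⟨Nat.prime_two⟩
  exact IsPGroup.iff_card.1 fun v => ⟨1, Subtype.ext (by simpa [pow_two] using σ.elem v.1 v.2)⟩

theorem card_affV (hd : ∀ v : Vsp σ, ∃ g : L.X, L.dV g = v) :
    Nat.card (L.affData hd).V = Nat.card σ.V :=
  Nat.card_congr
    { toFun := fun x => ⟨x.1.1.val', x.1.1.mem⟩
      invFun := fun v => ⟨(Vsp.mk v.1 v.2, 1), Subgroup.mem_prod.2 ⟨trivial, Subgroup.mem_bot.2 rfl⟩⟩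
      left_inv := fun ⟨⟨a, e⟩, h⟩ => by
        have he : e = 1 := Subgroup.mem_bot.1 (Subgroup.mem_prod.1 h).2
        subst he
        rfl
      right_inv := fun _ => rfl }

theorem affV_ne_bot (hd : ∀ v : Vsp σ, ∃ g : L.X, L.dV g = v) : (L.affData hd).V ≠ ⊥ := by
  intro h
  have h1 := L.card_affV hd
  rw [h, Subgroup.card_bot] at h1
  have := σ.four_le
  omega

/-- The image of a Sylow subgroup of `X`. -/
def img (P : Sylow 2 L.X) : Subgroup L.rho.range := (P : Subgroup L.X).map L.rho.rangeRestrict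

theorem img_two (P : Sylow 2 L.X) : IsPGroup 2 (L.img P) := P.isPGroup'.map _

theorem card_img (hd : ∀ v : Vsp σ, ∃ g : L.X, L.dV g = v) (P : Sylow 2 L.X) :
    Nat.card (L.img P) = Nat.card σ.V := by
  have : Fact (Nat.Prime 2) := ⟨Nat.prime_two⟩
  have h1 : (P.mapSurjective L.rho.rangeRestrict_surjective : Subgroup L.rho.range) = L.img P :=
    Sylow.coe_mapSurjective ..
  have hle := Nat.le_of_dvd Nat.card_pos ((L.affData hd).card_two_group (L.img_two P))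
  rw [L.card_affV hd] at hle
  refine le_antisymm hle (Nat.le_of_dvd Nat.card_pos ?_)
  have h2 := (L.affData hd).card_V_dvd
  rw [L.card_affV hd, ← Subgroup.card_mul_index (L.img P)] at h2
  obtain ⟨n, hn⟩ := L.exists_two_pow_V
  rw [hn] at h2 ⊢
  refine (Nat.Coprime.pow_left n ?_).dvd_of_dvd_mul_right h2
  rw [Nat.prime_two.coprime_iff_not_dvd, ← h1]
  exact Sylow.not_dvd_index _

theorem dV_surj_sylow (hd : ∀ v : Vsp σ, ∃ g : L.X, L.dV g = v) (P : Sylow 2 L.X) (v : Vsp σ) :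
    ∃ s ∈ (P : Subgroup L.X), L.dV s = v := by
  have hdisp : ∀ g : L.X, (L.affData hd).disp (L.rho.rangeRestrict g) = (L.dV g, 1) := by
    intro g
    show ((1 : Vsp σ), flag) * L.rho g (1, flag) = _
    rw [L.rho_t, Prod.mk_mul_mk, one_mul, flag_mul]
  let D := L.affData hd
  let f : L.img P → Vsp σ := fun a => (D.disp a.1).1
  have hinj : Function.Injective f := by
    rintro ⟨_, g, hg, rfl⟩ ⟨_, g', hg', rfl⟩ h
    have h' : L.dV g = L.dV g' := by
      simpa only [f, D, hdisp] using h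
    refine Subtype.ext (inv_mul_eq_one.1 ?_)
    rw [← map_inv, ← map_mul]
    have h2 : L.rho (g⁻¹ * g') (1, flag) = (1, flag) := by
      rw [map_mul, MulAut.mul_apply, L.rho_t, ← h', ← L.rho_t, ← MulAut.mul_apply, ← map_mul, inv_mul_cancel,
        map_one, MulAut.one_apply]
    rw [L.rho_t] at h2
    have hodd := L.odd_of_fix (Prod.ext_iff.1 h2).1
    obtain ⟨j, hj⟩ := orderOf_map_two_pow P.isPGroup' L.rho (mul_mem (inv_mem hg) hg')
    rw [hj] at hodd
    apply Subtype.ext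
    show L.rho (g⁻¹ * g') = 1
    rcases Nat.eq_zero_or_pos j with h0 | h0
    · rw [h0, pow_zero] at hj
      exact orderOf_eq_one_iff.1 hj
    · exact absurd hodd (by simp [parity_simps, h0.ne'])
  have hbij : Function.Bijective f := (Nat.bijective_iff_injective_and_card f).2
    ⟨hinj, (L.card_img hd P).trans rfl⟩
  obtain ⟨⟨_, g, hg, rfl⟩, ha⟩ := hbij.2 v
  exact ⟨g, hg, by simpa only [f, D, hdisp] using ha⟩

theorem mem_R_of_rho {P : Sylow 2 L.X} (hP : L.R.subgroupOf L.X ≤ (P : Subgroup L.X)) {g : L.X}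
    (hg : g ∈ (P : Subgroup L.X)) (h : L.rho g = 1) : (g : G) ∈ L.R :=
  L.mem_R_of_dV_one (L.sylG_two P) (L.R_le_sylG hP) (L.mem_sylG.2 hg) (L.dV_eq_one_of_rho h)

/-- If all extremal conjugates lie in `tM`, the Sylow subgroup of `X` is one of `G`. -/
theorem sylow_of_extremal (hd : ∀ v : Vsp σ, ∃ g : L.X, L.dV g = v) {P : Sylow 2 L.X}
    (hP : L.R.subgroupOf L.X ≤ (P : Subgroup L.X))
    (hext : ∀ x ∈ L.sylG P, σ.Extremal (L.sylG P) x → σ.t * x ∈ M) :
    ∃ S : Sylow 2 G, (S : Subgroup G) = L.sylG P := by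
  have hR := L.R_le_sylG hP
  refine exists_sylow_eq (L.sylG_two P) fun Q hQ hle => ?_
  by_contra hne
  obtain ⟨g, hgQ, hgS, hgN⟩ := exists_normalizer_mem hQ hle hne
  have hgN' := Subgroup.mem_normalizer_iff.1 hgN
  have hx := σ.extremal_of_normalizer (L.sylG_two P) (fun v hv => hR (Or.inl (L.V_le hv)))
    (hR L.t_mem_R) hgN'
  have hxM := hext _ ((hgN' _).1 (hR L.t_mem_R)) hx
  obtain ⟨s, hs, hsv⟩ := L.dV_surj_sylow hd P (Vsp.mk _ (L.pw_mem hxM))
  have h1 : L.pw ((σ.t * (g * σ.t * g⁻¹)) * (L.disp (s : G))⁻¹) = 1 := by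
    rw [L.pw_mul hxM (M.inv_mem (L.disp_mem s.2))]
    have h2 : L.pw (L.disp (s : G)) = L.pw (σ.t * (g * σ.t * g⁻¹)) := congrArg Vsp.val' hsv
    rw [← h2, show L.pw (L.disp (s : G))⁻¹ = (L.pw (L.disp (s : G)))⁻¹ from inv_pow _ _, h2,
      mul_inv_cancel]
  obtain ⟨n, hn, hn2⟩ := (L.pw_eq_one_iff (M.mul_mem hxM (M.inv_mem (L.disp_mem s.2)))).1 h1
  -- `s n' t (s n')⁻¹` equals `g t g⁻¹`
  set n' : G := (s : G)⁻¹ * n⁻¹ * s with hn'
  have hn'M : n' ∈ M := by
    have := L.X_conj (L.X.inv_mem s.2) (M.inv_mem hn)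
    rwa [inv_inv] at this
  have key : (s : G) * n' * σ.t * ((s : G) * n')⁻¹ = g * σ.t * g⁻¹ := by
    rw [mul_inv_eq_iff_eq_mul] at hn2
    have e1 : (s : G) * n' * σ.t * ((s : G) * n')⁻¹ = n⁻¹ * ((s : G) * σ.t * (s : G)⁻¹) * n := by
      rw [hn']; group
    rw [e1]
    apply mul_left_cancel (a := σ.t)
    rw [hn2]
    show σ.t * (n⁻¹ * ((s : G) * σ.t * (s : G)⁻¹) * n) = n * n * L.disp (s : G)
    have e2 : σ.t * n⁻¹ = n * σ.t := by
      rw [L.t_mul _ (M.inv_mem hn), inv_inv]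
    calc σ.t * (n⁻¹ * ((s : G) * σ.t * (s : G)⁻¹) * n)
        = σ.t * n⁻¹ * ((s : G) * σ.t * (s : G)⁻¹) * n := by group
      _ = n * σ.t * ((s : G) * σ.t * (s : G)⁻¹) * n := by rw [e2]
      _ = n * L.disp (s : G) * n := by rw [disp]; group
      _ = n * n * L.disp (s : G) := by
          rw [mul_assoc, (L.comm _ (L.disp_mem s.2) n hn).eq, ← mul_assoc]
  have hsnS : (s : G) * n' ∈ L.sylG P :=
    (L.sylG P).mul_mem (L.mem_sylG.2 hs) (hR (Or.inl hn'M))
  have hc : Commute (((s : G) * n')⁻¹ * g) σ.t := by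
    show ((s : G) * n')⁻¹ * g * σ.t = σ.t * (((s : G) * n')⁻¹ * g)
    calc ((s : G) * n')⁻¹ * g * σ.t = ((s : G) * n')⁻¹ * (g * σ.t * g⁻¹) * g := by group
      _ = _ := by rw [← key]; group
  have h3 := σ.mem_T_of_two_group hQ (fun v hv => hle (hR (Or.inl (L.V_le hv)))) (hle (hR L.t_mem_R))
    (Q.mul_mem (Q.inv_mem (hle hsnS)) hgQ) hc
  have := (L.sylG P).mul_mem hsnS (hR (L.T_le_R h3))
  rw [mul_inv_cancel_left] at this
  exact hgS this

end Level

end CfsgLib.Core.TwoTimesPSL
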