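import Cfsg.Agent.Lib.Core.TwoTimesPSL.LevelBasic
import Cfsg.Agent.Lib.Core.TwoTimesPSL.AffineMain

/-!
# The exceptional branch

If the involutions of the affine group at a level are not translations then `|V| = 8` and a Sylow
2-subgroup has a subgroup of index `2` containing no extremal conjugate of `t`.
-/

set_option autoImplicit false
set_option linter.unusedSectionVars false

namespace CfsgLib.Core.TwoTimesPSL

universe u

variable {G : Type u} [Group G]

/-- The subgroup generated by two involutions with product of order dividing `4`. -/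
theorem card_closure_le_eight {Q : Type*} [Group Q] {x y : Q} (hx : x * x = 1) (hy : y * y = 1)
    (h4 : (x * y) ^ 4 = 1) : Nat.card (Subgroup.closure ({x, y} : Set Q)) ≤ 8 := by
  have key : ∀ z ∈ Subgroup.closure ({x, y} : Set Q), ∃ p : Fin 4 × Fin 2,
      z = (x * y) ^ (p.1 : ℕ) * x ^ (p.2 : ℕ) := by
    have norm : ∀ (i j : ℕ), ∃ p : Fin 4 × Fin 2,
        (x * y) ^ i * x ^ j = (x * y) ^ (p.1 : ℕ) * x ^ (p.2 : ℕ) := fun i j =>
      ⟨(⟨i % 4, Nat.mod_lt _ (by omega)⟩, ⟨j % 2, Nat.mod_lt _ (by omega)⟩), by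
        show _ = (x * y) ^ (i % 4) * x ^ (j % 2)
        rw [← pow_eq_pow_mod i h4, ← pow_eq_pow_mod j (show x ^ 2 = 1 by rw [pow_two, hx])]⟩
    have hxi : x⁻¹ = x := inv_eq_of_mul_eq_one_right hx
    have hyi : y⁻¹ = y := inv_eq_of_mul_eq_one_right hy
    have hxc : ∀ i : ℕ, x * (x * y) ^ i = (x * y) ^ (3 * i) * x := by
      intro i
      induction i with
      | zero => simp
      | succ i ih =>
        have h3 : (x * y) ^ 3 = y * x :=
          calc (x * y) ^ 3 = (x * y)⁻¹ := eq_inv_of_mul_eq_one_left (by rw [← pow_succ, h4])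
            _ = y * x := by rw [mul_inv_rev, hxi, hyi]
        rw [pow_succ, ← mul_assoc, ih, Nat.mul_succ, pow_add, h3]
        simp only [mul_assoc]
        rw [← mul_assoc x x, hx]
        simp
    intro z hz
    induction hz using Subgroup.closure_induction_left with
    | one => exact ⟨(0, 0), by simp⟩
    | mul_left a ha b hb ih =>
      obtain ⟨⟨i, j⟩, rfl⟩ := ih
      rcases ha with rfl | ha
      · obtain ⟨p, hp⟩ := norm (3 * (i : ℕ)) ((j : ℕ) + 1)
        exact ⟨p, by rw [← hp, ← mul_assoc, hxc, mul_assoc, ← pow_succ']⟩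
      · rw [Set.mem_singleton_iff] at ha
        subst ha
        obtain ⟨p, hp⟩ := norm (3 * ((i : ℕ) + 1)) ((j : ℕ) + 1)
        refine ⟨p, ?_⟩
        rw [← hp, pow_succ' x, ← mul_assoc _ x, ← hxc, pow_succ' (x * a)]
        simp only [← mul_assoc, hx, one_mul]
    | inv_mul_cancel a ha b hb ih =>
      obtain ⟨⟨i, j⟩, rfl⟩ := ih
      rcases ha with rfl | ha
      · obtain ⟨p, hp⟩ := norm (3 * (i : ℕ)) ((j : ℕ) + 1)
        exact ⟨p, by rw [← hp, hxi, ← mul_assoc, hxc, mul_assoc, ← pow_succ']⟩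
      · rw [Set.mem_singleton_iff] at ha
        subst ha
        obtain ⟨p, hp⟩ := norm (3 * ((i : ℕ) + 1)) ((j : ℕ) + 1)
        refine ⟨p, ?_⟩
        rw [← hp, hyi, pow_succ' x, ← mul_assoc _ x, ← hxc, pow_succ' (x * a)]
        simp only [← mul_assoc, hx, one_mul]
  choose f hf using key
  refine le_trans (Nat.card_le_card_of_injective (fun z : Subgroup.closure ({x, y} : Set Q) => f z.1 z.2) ?_) ?_
  · intro z z' h
    exact Subtype.ext (by rw [hf z.1 z.2, hf z'.1 z'.2, show f z.1 z.2 = f z'.1 z'.2 from h])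
  · simp

/-- The subgroup generated by two commuting involutions. -/
theorem card_closure_le_four {Q : Type*} [Group Q] {x y : Q} (hx : x * x = 1) (hy : y * y = 1)
    (hc : Commute x y) : Nat.card (Subgroup.closure ({x, y} : Set Q)) ≤ 4 := by
  have key : ∀ z ∈ Subgroup.closure ({x, y} : Set Q), ∃ p : Fin 2 × Fin 2, z = x ^ (p.1 : ℕ) * y ^ (p.2 : ℕ) := by
    have norm : ∀ (i j : ℕ), ∃ p : Fin 2 × Fin 2, x ^ i * y ^ j = x ^ (p.1 : ℕ) * y ^ (p.2 : ℕ) := fun i j =>
      ⟨(⟨i % 2, Nat.mod_lt _ (by omega)⟩, ⟨j % 2, Nat.mod_lt _ (by omega)⟩), by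
        show _ = x ^ (i % 2) * y ^ (j % 2)
        rw [← pow_eq_pow_mod i (show x ^ 2 = 1 by rw [pow_two, hx]),
          ← pow_eq_pow_mod j (show y ^ 2 = 1 by rw [pow_two, hy])]⟩
    intro z hz
    induction hz using Subgroup.closure_induction_left with
    | one => exact ⟨(0, 0), by simp⟩
    | mul_left a ha b hb ih =>
      obtain ⟨⟨i, j⟩, rfl⟩ := ih
      rcases ha with rfl | ha
      · obtain ⟨p, hp⟩ := norm ((i : ℕ) + 1) j
        exact ⟨p, by rw [← hp, pow_succ', mul_assoc]⟩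
      · rw [Set.mem_singleton_iff] at ha
        subst ha
        obtain ⟨p, hp⟩ := norm i ((j : ℕ) + 1)
        exact ⟨p, by rw [← hp, ← mul_assoc, (hc.symm.pow_right _).eq, pow_succ' a, mul_assoc]⟩
    | inv_mul_cancel a ha b hb ih =>
      obtain ⟨⟨i, j⟩, rfl⟩ := ih
      rcases ha with rfl | ha
      · obtain ⟨p, hp⟩ := norm ((i : ℕ) + 1) j
        exact ⟨p, by rw [← hp, inv_eq_of_mul_eq_one_right hx, pow_succ', mul_assoc]⟩
      · rw [Set.mem_singleton_iff] at ha
        subst ha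
        obtain ⟨p, hp⟩ := norm i ((j : ℕ) + 1)
        exact ⟨p, by rw [← hp, inv_eq_of_mul_eq_one_right hy, ← mul_assoc, (hc.symm.pow_right _).eq,
          pow_succ' a, mul_assoc]⟩
  choose f hf using key
  refine le_trans (Nat.card_le_card_of_injective (fun z : Subgroup.closure ({x, y} : Set Q) => f z.1 z.2) ?_) ?_
  · intro z z' h
    exact Subtype.ext (by rw [hf z.1 z.2, hf z'.1 z'.2, show f z.1 z.2 = f z'.1 z'.2 from h])
  · simp

/-- A proper subgroup of a group of order `8` has order at most `4`. -/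
theorem card_le_four_of_lt {B C : Subgroup G} [Finite G] (hC : Nat.card C = 8) (hle : B ≤ C)
    (hne : B ≠ C) : Nat.card B ≤ 4 := by
  have h1 := Subgroup.card_dvd_of_le hle
  rw [hC] at h1
  have h2 : Nat.card B ≠ 8 := fun h => hne (Subgroup.eq_of_le_of_card_ge hle (by omega))
  have h3 := Nat.le_of_dvd (by omega) h1
  interval_cases h : Nat.card B <;> omega

namespace Level

variable {σ : Setting G} {M : Subgroup G} {k : ℕ} (L : Level σ M k) [Finite G]

include L

/-- A square landing in `R` lands in `M`. -/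
theorem sq_mem_M (hd : ∀ v : Vsp σ, ∃ g : L.X, L.dV g = v) {P : Sylow 2 L.X}
    (hP : L.R.subgroupOf L.X ≤ (P : Subgroup L.X)) {g : L.X} (hg : g ∈ (P : Subgroup L.X))
    (h2 : L.rho (g * g) = 1) (h1 : L.rho g ≠ 1) : (g : G) * g ∈ M := by
  rcases L.mem_R_of_rho hP (mul_mem hg hg) h2 with h | h
  · exact h
  · exact absurd (L.rho_eq_one_of_fix hd (L.sylG_two P) (L.mem_sylG.2 hg) h
      ((Commute.refl _).mul_right (Commute.refl _))) h1

variable (hd : ∀ v : Vsp σ, ∃ g : L.X, L.dV g = v)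

include hd

/-- The index two subgroup. -/
theorem exists_indexTwo {P : Sylow 2 L.X} (hP : L.R.subgroupOf L.X ≤ (P : Subgroup L.X))
    (hV8 : Nat.card σ.V = 8)
    (hgen : ∃ a ∈ L.img P, ∃ b ∈ L.img P, orderOf a = 2 ∧ orderOf b = 2 ∧
      Subgroup.closure {a, b} = L.img P ∧ (a * b) ^ 4 = 1) :
    (∃ W : Subgroup G, M ≤ W ∧ σ.IndexTwo (L.sylG P) W) ∧
      ∃ g h : L.X, g ∈ (P : Subgroup L.X) ∧ h ∈ (P : Subgroup L.X) ∧ ¬ Commute (L.rho g) (L.rho h) := by
  classical
  obtain ⟨a, haI, b, hbI, ha2, hb2, hcl, h4⟩ := hgen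
  obtain ⟨ga, hga, rfl⟩ := haI
  obtain ⟨gb, hgb, rfl⟩ := hbI
  have hcardI := L.card_img hd P
  rw [hV8] at hcardI
  have hsq : ∀ {g : L.X}, orderOf (L.rho.rangeRestrict g) = 2 →
      L.rho.rangeRestrict g * L.rho.rangeRestrict g = 1 := fun {g} h => by
    rw [← pow_two]
    have := pow_orderOf_eq_one (L.rho.rangeRestrict g)
    rwa [h] at this
  have hne : ∀ {g : L.X}, orderOf (L.rho.rangeRestrict g) = 2 → L.rho g ≠ 1 := fun h e => by
    rw [show L.rho.rangeRestrict _ = 1 from Subtype.ext e, orderOf_one] at h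
    omega
  have hncomm : ¬ Commute (L.rho.rangeRestrict ga) (L.rho.rangeRestrict gb) := by
    intro hc
    have := card_closure_le_four (hsq ha2) (hsq hb2) hc
    rw [hcl, hcardI] at this
    omega
  refine ⟨?_, ga, gb, hga, hgb, fun h => hncomm (Subtype.ext h)⟩
  have haM : (ga : G) * ga ∈ M :=
    L.sq_mem_M hd hP hga (congrArg Subtype.val ((map_mul _ _ _).trans (hsq ha2))) (hne ha2)
  have hbM : (gb : G) * gb ∈ M :=
    L.sq_mem_M hd hP hgb (congrArg Subtype.val ((map_mul _ _ _).trans (hsq hb2))) (hne hb2)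
  have hcM : ((ga : G) * gb) ^ 4 ∈ M := by
    have hh : L.rho.rangeRestrict ((ga * gb) ^ 2) ≠ 1 := by
      intro e
      refine hncomm ?_
      rw [map_pow, map_mul, pow_two, mul_eq_one_iff_eq_inv, mul_inv_rev,
        inv_eq_of_mul_eq_one_right (hsq ha2), inv_eq_of_mul_eq_one_right (hsq hb2)] at e
      exact e
    have := L.sq_mem_M hd hP (g := (ga * gb) ^ 2) (pow_mem (mul_mem hga hgb) 2) ?_
      (fun e => hh (Subtype.ext e))
    · rw [show ((ga : G) * gb) ^ 4 = (((ga * gb) ^ 2 : L.X) : G) * ((ga * gb) ^ 2 : L.X) by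
        rw [SubmonoidClass.coe_pow, Subgroup.coe_mul, ← pow_add]]
      exact this
    · rw [← pow_add]
      have := congrArg Subtype.val h4
      rw [← map_mul, ← map_pow] at this
      exact this
  have hSX := L.sylG_le_X P
  have hRS := L.R_le_sylG hP
  set S := L.sylG P with hS
  have hnorm : (M.subgroupOf S).Normal :=
    ⟨fun m hm s => Subgroup.mem_subgroupOf.2 (L.X_conj (hSX s.2) (Subgroup.mem_subgroupOf.1 hm))⟩
  let q : S →* S ⧸ M.subgroupOf S := QuotientGroup.mk' _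
  have hq1 : ∀ s : S, q s = 1 ↔ (s : G) ∈ M := fun s =>
    (QuotientGroup.eq_one_iff _).trans Subgroup.mem_subgroupOf
  let A : S := ⟨ga, L.mem_sylG.2 hga⟩
  let B : S := ⟨gb, L.mem_sylG.2 hgb⟩
  let tS : S := ⟨σ.t, hRS L.t_mem_R⟩
  have hqA : q A * q A = 1 := by rw [← map_mul, hq1]; exact haM
  have hqB : q B * q B = 1 := by rw [← map_mul, hq1]; exact hbM
  have hq4 : (q A * q B) ^ 4 = 1 := by rw [← map_mul, ← map_pow, hq1]; exact hcM
  set Wb := Subgroup.closure ({q A, q B} : Set (S ⧸ M.subgroupOf S)) with hWb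
  have hWcard : Nat.card Wb ≤ 8 := card_closure_le_eight hqA hqB hq4
  -- the action factors through the quotient
  let r : S →* L.rho.range := L.rho.rangeRestrict.comp (Subgroup.inclusion hSX)
  have hker : M.subgroupOf S ≤ r.ker := fun s hs => MonoidHom.mem_ker.2 (Subtype.ext
    (L.rho_R (r := ⟨s, hSX s.2⟩) (Or.inl (Subgroup.mem_subgroupOf.1 hs))))
  let rb : S ⧸ M.subgroupOf S →* L.rho.range := QuotientGroup.lift _ r hker
  have hmap : Wb.map rb = L.img P := by
    rw [hWb, MonoidHom.map_closure, Set.image_pair, ← hcl]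
    rfl
  have hcardmap : Nat.card (Wb.map rb) = 8 := by rw [hmap, hcardI]
  let f : Wb → Wb.map rb := fun z => ⟨rb z, z, z.2, rfl⟩
  have hfs : Function.Surjective f := fun ⟨_, z, hz, e⟩ => ⟨⟨z, hz⟩, Subtype.ext e⟩
  have hfi : Function.Injective f := by
    refine (Nat.bijective_iff_surjective_and_card f).2 ⟨hfs, le_antisymm ?_ ?_⟩ |>.1
    · exact hcardmap ▸ hWcard
    · exact Nat.card_le_card_of_surjective f hfs
  have hrt : rb (q tS) = 1 := Subtype.ext (L.rho_R (r := ⟨σ.t, hSX tS.2⟩) L.t_mem_R)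
  have htW : q tS ∉ Wb := by
    intro h
    have := @hfi ⟨q tS, h⟩ 1 (Subtype.ext (hrt.trans (map_one rb).symm))
    exact L.t_not_mem ((hq1 tS).1 (congrArg Subtype.val this))
  have htc : ∀ s : S, (∀ m, m ∈ M ↔ (s : G) * m * (s : G)⁻¹ ∈ M) → Commute (q tS) (q s) := by
    intro s _
    show q tS * q s = q s * q tS
    rw [← inv_mul_eq_one, ← map_mul, ← map_mul, ← map_inv, ← map_mul, hq1]
    show (σ.t * (s : G))⁻¹ * ((s : G) * σ.t) ∈ M
    have := L.X_conj (L.X.inv_mem (hSX s.2)) (L.disp_mem (hSX s.2))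
    rw [disp] at this
    rw [show (σ.t * (s : G))⁻¹ * ((s : G) * σ.t) =
      (s : G)⁻¹ * (σ.t⁻¹ * ((s : G) * σ.t * (s : G)⁻¹)) * ((s : G)⁻¹)⁻¹ by group, σ.t_inv]
    exact this
  refine ⟨(Wb.comap q).map S.subtype, ?_, Subgroup.map_subtype_le _, ?_, ?_⟩
  · intro m hm
    refine ⟨⟨m, hRS (Or.inl hm)⟩, Subgroup.mem_comap.2 ?_, rfl⟩
    rw [(hq1 _).2 hm]
    exact one_mem _
  · rintro ⟨s, hs, e⟩
    exact htW ((show s = tS from Subtype.ext e) ▸ hs)
  · intro x hx
    set xs : S := ⟨x, hx⟩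
    have hmem : r xs ∈ Wb.map rb := by
      rw [hmap]
      exact ⟨⟨x, hSX hx⟩, L.mem_sylG.1 hx, rfl⟩
    obtain ⟨z, hz, hzr⟩ := hmem
    obtain ⟨w, rfl⟩ := QuotientGroup.mk'_surjective _ z
    have hR : (((w⁻¹ * xs : S)) : G) ∈ L.R := by
      have h1 : r (w⁻¹ * xs) = 1 := by
        rw [map_mul, map_inv, ← hzr]
        exact inv_mul_cancel _
      exact L.mem_R_of_rho hP (g := ⟨_, hSX (w⁻¹ * xs).2⟩) (L.mem_sylG.1 (w⁻¹ * xs).2)
        (congrArg Subtype.val h1)
    rcases hR with h | h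
    · refine Or.inl ⟨xs, Subgroup.mem_comap.2 ?_, rfl⟩
      have : q xs = q w := (inv_mul_eq_one.1 (by rw [← map_inv, ← map_mul, hq1]; exact h)).symm
      rw [this]
      exact hz
    · refine Or.inr ⟨tS * xs, Subgroup.mem_comap.2 ?_, rfl⟩
      have h2 : q tS * (q w⁻¹ * q xs) = 1 := by rw [← map_mul, ← map_mul, hq1]; exact h
      rw [map_mul]
      have h3 : q tS * q xs = q w := by
        rw [← mul_assoc, map_inv, (htc w (fun m => ⟨fun hm => L.X_conj (hSX w.2) hm, fun hm => by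
          have := L.X_conj (L.X.inv_mem (hSX w.2)) hm
          simpa [mul_assoc] using this⟩)).inv_right.eq, mul_assoc, inv_mul_eq_one] at h2
        exact h2.symm
      rw [h3]
      exact hz

/-- Extremal conjugates lie in `tM`. -/
theorem extremal_exceptional (horb : σ.Orbit) {P : Sylow 2 L.X}
    (hP : L.R.subgroupOf L.X ≤ (P : Subgroup L.X)) (hV8 : Nat.card σ.V = 8)
    (hNT : ∀ a : L.rho.range, orderOf a = 2 → ¬ (L.affData hd).IsTranslation a)
    (hnc : ∃ g h : L.X, g ∈ (P : Subgroup L.X) ∧ h ∈ (P : Subgroup L.X) ∧ ¬ Commute (L.rho g) (L.rho h))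
    {x : G} (hx : x ∈ L.sylG P) (hext : σ.Extremal (L.sylG P) x) : σ.t * x ∈ M := by
  classical
  have hSX := L.sylG_le_X P
  have hRS := L.R_le_sylG hP
  set xX : L.X := ⟨x, hSX hx⟩ with hxX
  obtain ⟨g, hgx, hg⟩ := id hext
  have hxx : x * x = 1 := σ.extremal_sq hext hx (Commute.refl x)
  by_cases h1 : L.rho xX = 1
  · rcases L.mem_R_of_rho hP (L.mem_sylG.1 hx) h1 with h | h
    · exfalso
      rcases eq_or_lt_of_le L.one_le with hk | hk
      · exact horb.conj_not_mem_V g (hgx.symm ▸ L.M_le_V hk.symm h)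
      · obtain ⟨m, hm, hne⟩ := L.exists_order_four hk
        exact hne (σ.extremal_sq hext (hRS (Or.inl hm)) (L.comm m hm x h))
    · exact h
  exfalso
  have horder : ∀ {y : L.X}, (y : G) * y = 1 → L.rho y ≠ 1 → orderOf (L.rho.rangeRestrict y) = 2 := by
    intro y hy hne
    refine orderOf_eq_prime ?_ fun e => hne (congrArg Subtype.val e)
    rw [pow_two, ← map_mul, show y * y = 1 from Subtype.ext hy, map_one]
  -- an involution of the image moves some element of `V`
  have hmove : ∀ {y : L.X}, (y : G) * y = 1 → L.rho y ≠ 1 → ∃ v ∈ σ.V, ¬ Commute (y : G) v := by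
    intro y hy hne
    by_contra hcon
    push Not at hcon
    refine hNT _ (horder hy hne) fun v hv => ?_
    obtain ⟨v', e⟩ := v
    have he : e = 1 := Subgroup.mem_bot.1 (Subgroup.mem_prod.1 hv).2
    subst he
    show L.rho y (v', 1) = (v', 1)
    rw [L.rho_V]
    refine Prod.ext (Vsp.ext' ?_) rfl
    simp only [cV, Vsp.val_mk]
    rw [(hcon _ v'.mem).eq, mul_inv_cancel_right]
  have hxinv : x⁻¹ = x := inv_eq_of_mul_eq_one_right hxx
  rcases eq_or_lt_of_le L.one_le with hk | hk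
  · -- `M = V`
    have hk' := hk.symm
    have hMV := L.M_le_V hk'
    have hRT := L.R_eq_T hk'
    let Tx : Subgroup G := σ.T.map (MulAut.conj g).toMonoidHom
    let Vx : Subgroup G := σ.V.map (MulAut.conj g).toMonoidHom
    have hmem : ∀ {H : Subgroup G} {y : G}, y ∈ H.map (MulAut.conj g).toMonoidHom ↔ g⁻¹ * y * g ∈ H := by
      intro H y
      rw [Subgroup.mem_map_equiv, MulAut.conj_symm_apply]
    have hTx : ∀ {y : G}, y ∈ Tx ↔ y ∈ L.sylG P ∧ Commute y x := fun {y} => hmem.trans (hg y).symm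
    have hTxcard : Nat.card Tx = 16 := by
      rw [Subgroup.card_map_of_injective (MulAut.conj g).injective, σ.card_T, hV8]
    have hVxcard : Nat.card Vx = 8 := by
      rw [Subgroup.card_map_of_injective (MulAut.conj g).injective, hV8]
    have hVxTx : Vx ≤ Tx := Subgroup.map_mono σ.V_le_T
    have hnV : ∀ {z h' : G}, z ∈ Vx → h' * σ.t * h'⁻¹ = z → False := by
      intro z h' hz he
      refine horb.conj_not_mem_V (g⁻¹ * h') ?_
      have := hmem.1 hz
      rwa [← he, show g⁻¹ * (h' * σ.t * h'⁻¹) * g = g⁻¹ * h' * σ.t * (g⁻¹ * h')⁻¹ by group] at this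
    have hDV : σ.T ⊓ Tx ≤ σ.V := by
      rintro y ⟨hy, hy'⟩
      rcases hy with hy | hy
      · exact hy
      · exact absurd (L.rho_eq_one_of_fix hd (L.sylG_two P) (g := xX) hx (L.V_le hy) (hTx.1 hy').2.symm) h1
    have hDVx : σ.T ⊓ Tx ≤ Vx := by
      intro y hy
      rcases hmem.1 hy.2 with h | h
      · exact hmem.2 h
      · exfalso
        obtain ⟨g', -, he⟩ := horb.conj_eq h
        refine horb.conj_not_mem_V (g * g') ?_
        rw [show g * g' * σ.t * (g * g')⁻¹ = g * (g' * σ.t * g'⁻¹) * g⁻¹ by group, he,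
          show g * (g⁻¹ * y * g) * g⁻¹ = y by group]
        exact hDV hy
    have hDle : Nat.card (σ.T ⊓ Tx : Subgroup G) ≤ 4 := by
      refine card_le_four_of_lt hV8 hDV fun e => ?_
      obtain ⟨v, hv, hnc'⟩ := hmove (y := xX) hxx h1
      exact hnc' (hTx.1 (show v ∈ σ.T ⊓ Tx from e.symm ▸ hv).2).2.symm
    have hDge : 4 ≤ Nat.card (σ.T ⊓ Tx : Subgroup G) := by
      let ψ : Tx →* L.rho.range :=
        L.rho.rangeRestrict.comp (Subgroup.inclusion fun y hy => hSX (hTx.1 hy).1)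
      have hle : ψ.range ≤ L.img P := by
        rintro _ ⟨y, rfl⟩
        exact ⟨_, L.mem_sylG.1 (hTx.1 y.2).1, rfl⟩
      have hne : ψ.range ≠ L.img P := by
        intro e
        obtain ⟨g1, g2, hg1, hg2, hnc'⟩ := hnc
        obtain ⟨y1, e1⟩ := (e.symm ▸ ⟨g1, hg1, rfl⟩ : L.rho.rangeRestrict g1 ∈ ψ.range)
        obtain ⟨y2, e2⟩ := (e.symm ▸ ⟨g2, hg2, rfl⟩ : L.rho.rangeRestrict g2 ∈ ψ.range)
        have hc : ψ y1 * ψ y2 = ψ y2 * ψ y1 := by
          rw [← map_mul, ← map_mul]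
          congr 1
          have hsq : ∀ z : Tx, z * z = 1 := fun z => Subtype.ext (σ.extremal_sq hext (hTx.1 z.2).1 (hTx.1 z.2).2)
          have h3 := inv_eq_of_mul_eq_one_right (hsq (y1 * y2))
          rw [mul_inv_rev, inv_eq_of_mul_eq_one_right (hsq y1), inv_eq_of_mul_eq_one_right (hsq y2)] at h3
          exact h3.symm
        rw [e1, e2] at hc
        exact hnc' (congrArg Subtype.val hc :)
      have hr4 : Nat.card ψ.range ≤ 4 := by
        have hd1 := Subgroup.card_dvd_of_le hle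
        rw [L.card_img hd P, hV8] at hd1
        have h2 : Nat.card ψ.range ≠ 8 := fun h => hne (Subgroup.eq_of_le_of_card_ge hle
          (by rw [L.card_img hd P, hV8, h]))
        have h3 := Nat.le_of_dvd (by omega) hd1
        interval_cases h : Nat.card ψ.range <;> omega
      have hk4 : Nat.card ψ.ker ≤ Nat.card (σ.T ⊓ Tx : Subgroup G) :=
        Nat.card_le_card_of_injective (fun y : ψ.ker => (⟨y.1.1, ⟨by
          rw [← hRT]
          exact L.mem_R_of_rho hP (L.mem_sylG.1 (hTx.1 y.1.2).1) (congrArg Subtype.val (MonoidHom.mem_ker.1 y.2) :),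
          y.1.2⟩⟩ : (σ.T ⊓ Tx : Subgroup G))) fun a b h => Subtype.ext (Subtype.ext (congrArg Subtype.val h :))
      have h5 := Subgroup.card_mul_index ψ.ker
      rw [Subgroup.index_ker, hTxcard] at h5
      by_contra hlt
      push Not at hlt
      have : Nat.card ψ.ker * Nat.card ψ.range ≤ 3 * 4 := Nat.mul_le_mul (by omega) hr4
      omega
    obtain ⟨x1, hx1, hx1D⟩ : ∃ x1 ∈ Vx, x1 ∉ σ.T ⊓ Tx := by
      by_contra hcon
      push Not at hcon
      have := Subgroup.card_le_of_le (show Vx ≤ σ.T ⊓ Tx from fun y hy => hcon y hy)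
      omega
    have hx1S := (hTx.1 (hVxTx hx1)).1
    set x1X : L.X := ⟨x1, hSX hx1S⟩ with hx1X
    have hx1sq : x1 * x1 = 1 := σ.extremal_sq hext hx1S (hTx.1 (hVxTx hx1)).2
    have hx1r : L.rho x1X ≠ 1 := fun e => hx1D
      ⟨hRT ▸ L.mem_R_of_rho hP (L.mem_sylG.1 hx1S) e, hVxTx hx1⟩
    obtain ⟨a, ha⟩ := isConj_iff.1 ((L.affData hd).isConj_involution (horder (y := xX) hxx h1)
      (horder (y := x1X) hx1sq hx1r))
    obtain ⟨hh, rfl⟩ := L.rho.rangeRestrict_surjective a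
    rw [← map_inv, ← map_mul, ← map_mul] at ha
    have ha' : L.rho (hh * xX * hh⁻¹) = L.rho x1X := congrArg Subtype.val ha
    let H0 : Subgroup G := ((Subgroup.zpowers (L.rho x1X)).comap L.rho).map L.X.subtype
    have hH0 : ∀ {y : L.X}, (y : G) ∈ H0 ↔ L.rho y ∈ Subgroup.zpowers (L.rho x1X) := fun {y} =>
      ⟨fun ⟨z, hz, e⟩ => (Subtype.ext e : z = y) ▸ hz, fun h => ⟨y, h, rfl⟩⟩
    have hH0X : H0 ≤ L.X := Subgroup.map_subtype_le _
    have hx12 : L.rho x1X * L.rho x1X = 1 := by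
      rw [← map_mul, show x1X * x1X = 1 from Subtype.ext hx1sq, map_one]
    have hzc : ∀ {b}, b ∈ Subgroup.zpowers (L.rho x1X) → b = 1 ∨ b = L.rho x1X := by
      intro b hb
      obtain ⟨n, rfl⟩ := Subgroup.mem_zpowers_iff.1 hb
      rcases Int.even_or_odd' n with ⟨m, rfl | rfl⟩
      · left; rw [zpow_mul, show (L.rho x1X) ^ (2 : ℤ) = 1 by rw [zpow_two, hx12], one_zpow]
      · right
        rw [zpow_add_one, zpow_mul, show (L.rho x1X) ^ (2 : ℤ) = 1 by rw [zpow_two, hx12], one_zpow, one_mul]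
    have hVP : ∀ {P' : Subgroup G}, L.sylG P ⊓ H0 ≤ P' → L.R ≤ P' := fun hle y hy =>
      hle ⟨hRS hy, (hH0 (y := ⟨y, L.R_le_X hy⟩)).2 (by rw [L.rho_R (r := ⟨y, L.R_le_X hy⟩) hy]; exact one_mem _)⟩
    have hmaxP : ∀ P' : Subgroup G, IsPGroup 2 P' → P' ≤ H0 → L.sylG P ⊓ H0 ≤ P' →
        P' ≤ L.sylG P ⊓ H0 := by
      intro P' hP' hle hsub y hy
      refine ⟨?_, hle hy⟩
      rcases hzc ((hH0 (y := ⟨y, hH0X (hle hy)⟩)).1 (hle hy)) with e | e
      · exact hRS (L.mem_R_of_dV_one hP' (hVP hsub) (g := ⟨y, hH0X (hle hy)⟩) hy (L.dV_eq_one_of_rho e))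
      · have hx1P : x1 ∈ P' := hsub ⟨hx1S, (hH0 (y := x1X)).2 (Subgroup.mem_zpowers _)⟩
        have h2 := hRS (L.mem_R_of_dV_one hP' (hVP hsub) (g := ⟨y, hH0X (hle hy)⟩ * x1X)
          (P'.mul_mem hy hx1P) (L.dV_eq_one_of_rho (by rw [map_mul, e, hx12])))
        have h3 := (L.sylG P).mul_mem h2 hx1S
        rwa [Subgroup.coe_mul, mul_assoc, hx1sq, mul_one] at h3
    let Q0 : Subgroup G := Subgroup.zpowers ((hh * xX * hh⁻¹ : L.X) : G)
    have hQ0 : IsPGroup 2 Q0 := by
      refine IsPGroup.of_card (n := 1) ?_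
      show Nat.card (Subgroup.zpowers _) = _
      rw [Nat.card_zpowers, pow_one, Subgroup.coe_mul, Subgroup.coe_mul, Subgroup.coe_inv, orderOf_conj]
      exact orderOf_eq_prime (by rw [pow_two, hxx]) fun e => h1 (by
        rw [show xX = 1 from Subtype.ext e, map_one])
    have hQ0H : Q0 ≤ H0 := by
      show Subgroup.zpowers _ ≤ H0
      rw [Subgroup.zpowers_le]
      exact hH0.2 (by rw [ha']; exact Subgroup.mem_zpowers _)
    obtain ⟨h0, hh0, hconj⟩ := exists_conj_mem (H := H0) ((L.sylG_two P).to_le inf_le_left :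
        IsPGroup 2 (L.sylG P ⊓ H0 : Subgroup G)) inf_le_right hmaxP (Q := Q0) hQ0 hQ0H
    set z : L.X := ⟨h0, hH0X hh0⟩ * (hh * xX * hh⁻¹) * (⟨h0, hH0X hh0⟩)⁻¹ with hz
    have hzS : (z : G) ∈ L.sylG P := (hconj _ (Subgroup.mem_zpowers _)).1
    have hzr : L.rho z = L.rho x1X := by
      rw [hz, map_mul, map_mul, ha', map_inv]
      rcases hzc ((hH0 (y := ⟨h0, hH0X hh0⟩)).1 hh0) with e | e <;> rw [e] <;> group
    have hzt : (z : G) = (h0 * hh * g) * σ.t * (h0 * hh * g)⁻¹ := by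
      simp only [hz, hxX, Subgroup.coe_mul, Subgroup.coe_inv]
      rw [← hgx]; group
    set τ : G := x1 * z with hτ
    have hτT : τ ∈ σ.T := hRT ▸ L.mem_R_of_rho hP (g := x1X * z)
      (mul_mem (L.mem_sylG.1 hx1S) (L.mem_sylG.1 hzS)) (by rw [map_mul, hzr, hx12])
    have hz2 : (z : G) * z = 1 := by
      rw [hzt]
      calc (h0 * hh * g) * σ.t * (h0 * hh * g)⁻¹ * ((h0 * hh * g) * σ.t * (h0 * hh * g)⁻¹)
          = (h0 * hh * g) * (σ.t * σ.t) * (h0 * hh * g)⁻¹ := by group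
        _ = 1 := by rw [σ.invo]; group
    have hτc : Commute x1 τ := by
      have h3 := inv_eq_of_mul_eq_one_right (σ.T_sq hτT)
      rw [hτ, mul_inv_rev, inv_eq_of_mul_eq_one_right hx1sq, inv_eq_of_mul_eq_one_right hz2] at h3
      show x1 * τ = τ * x1
      rw [hτ, mul_assoc x1 (z : G), h3]
    have hτV : τ ∈ σ.V := by
      rcases hτT with h | h
      · exact h
      · exact absurd (L.rho_eq_one_of_fix hd (L.sylG_two P) (g := x1X) hx1S (L.V_le h) hτc) hx1r
    let C1 : Subgroup G := σ.V ⊓ Subgroup.centralizer {x1}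
    have hDC : σ.T ⊓ Tx ≤ C1 := by
      intro y hy
      refine ⟨hDV hy, Subgroup.mem_centralizer_singleton_iff.2 ?_⟩
      have h5 : ∀ w ∈ Tx, w * w = 1 := fun w hw => σ.extremal_sq hext (hTx.1 hw).1 (hTx.1 hw).2
      have h3 := inv_eq_of_mul_eq_one_right (h5 _ (Tx.mul_mem hy.2 (hVxTx hx1)))
      rw [mul_inv_rev, inv_eq_of_mul_eq_one_right (h5 _ hy.2), inv_eq_of_mul_eq_one_right hx1sq] at h3
      exact h3.symm
    have hC1 : Nat.card C1 ≤ 4 := by
      refine card_le_four_of_lt hV8 inf_le_left fun e => ?_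
      obtain ⟨v, hv, hnc'⟩ := hmove (y := x1X) hx1sq hx1r
      exact hnc' (Subgroup.mem_centralizer_singleton_iff.1 (show v ∈ C1 from e.symm ▸ hv).2).symm
    have heq := Subgroup.eq_of_le_of_card_ge hDC (by omega)
    have hτD : τ ∈ σ.T ⊓ Tx := heq.symm ▸
      (⟨hτV, Subgroup.mem_centralizer_singleton_iff.2 hτc.eq.symm⟩ : τ ∈ C1)
    refine hnV (z := (z : G)) ?_ hzt.symm
    have := Vx.mul_mem hx1 (hDVx hτD)
    rwa [hτ, ← mul_assoc, hx1sq, one_mul] at this
  · -- squares of `M` are inverted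
    obtain ⟨v, hv, hnc'⟩ := hmove (y := xX) hxx h1
    obtain ⟨m, hm, rfl⟩ := L.pw_surj hv
    set m' := x * m * x⁻¹ with hm'
    have hm'M : m' ∈ M := L.X_conj (hSX hx) hm
    have hy : (m * m') * (m * m') = 1 := by
      refine σ.extremal_sq hext (hRS (Or.inl (M.mul_mem hm hm'M))) ?_
      show m * m' * x = x * (m * m')
      rw [(L.comm m hm m' hm'M).eq]
      calc m' * m * x = x * m * x⁻¹ * m * x := by rw [hm']
        _ = x * (m * (x * m * x⁻¹)) := by rw [hxinv]; simp only [mul_assoc]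
        _ = x * (m' * m) := by rw [← hm', (L.comm m hm m' hm'M).eq]
    have hsq : x * (m * m) * x⁻¹ = (m * m)⁻¹ := by
      refine eq_inv_of_mul_eq_one_left ?_
      rw [← hy, hm']
      have hc := (L.comm m hm m' hm'M).eq
      calc x * (m * m) * x⁻¹ * (m * m) = m' * m' * (m * m) := by rw [hm']; group
        _ = m' * (m' * m) * m := by simp only [mul_assoc]
        _ = m' * (m * m') * m := by rw [hc]
        _ = m' * m * (m' * m) := by simp only [mul_assoc]
        _ = _ := by rw [hc]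
    refine hnc' ?_
    show x * L.pw m = L.pw m * x
    have hp : L.pw m = (m * m) ^ 2 ^ (k - 2) := by
      rw [pw, show k - 1 = (k - 2) + 1 by omega, pow_succ, mul_comm, pow_mul, pow_two]
    have hc2 : x * L.pw m * x⁻¹ = L.pw m := by
      rw [hp, ← conj_pow, hsq, inv_pow, ← hp, σ.v_inv hv]
    exact eq_mul_of_mul_inv_eq hc2

theorem outcome_exceptional (horb : σ.Orbit)
    (hT : ¬ ∀ a : L.rho.range, orderOf a = 2 → (L.affData hd).IsTranslation a) : σ.Outcome := by
  obtain ⟨hV8, hgen⟩ := ((L.affData hd).dichotomy (L.affV_ne_bot hd)).resolve_left hT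
  rw [L.card_affV hd] at hV8
  obtain ⟨P, hP⟩ := L.exists_sylowX
  have hNT : ∀ a : L.rho.range, orderOf a = 2 → ¬ (L.affData hd).IsTranslation a := fun a ha h =>
    hT fun i hi => (L.affData hd).translation_of_one ha h hi
  obtain ⟨⟨W, hMW, hW⟩, hnc⟩ := L.exists_indexTwo hd hP hV8 (hgen _ (L.img_two P)
    (by rw [L.card_img hd P, L.card_affV hd]))
  have hext : ∀ x ∈ L.sylG P, σ.Extremal (L.sylG P) x → σ.t * x ∈ M :=
    fun x hx h => L.extremal_exceptional hd horb hP hV8 hNT hnc hx h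
  obtain ⟨S, hS⟩ := L.sylow_of_extremal hd hP hext
  refine ⟨S, ?_, Or.inr (Or.inr ⟨hV8, W, ?_, fun x hx h => hW.2.1 ?_⟩)⟩
  · rw [hS]; exact L.T_le_R.trans (L.R_le_sylG hP)
  · rw [hS]; exact hW
  · rw [hS] at h
    have := W.mul_mem (hMW (hext x (hW.1 hx) h)) (W.inv_mem hx)
    rwa [mul_inv_cancel_right] at this

end Level

end CfsgLib.Core.TwoTimesPSL
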