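import Cfsg.Agent.Lib.Core.TwoTimesPSL.LevelTranslation

/-!
# The structure of a Sylow 2-subgroup

`Setting.structure_theorem`: if `N(T)` moves `t` onto exactly `tV` then a Sylow 2-subgroup containing
`T` is of one of three kinds.
-/

set_option autoImplicit false
set_option linter.unusedSectionVars false

namespace CfsgLib.Core.TwoTimesPSL

universe u

variable {G : Type u} [Group G]

namespace Level

variable {σ : Setting G} {M : Subgroup G} {k : ℕ} (L : Level σ M k) [Finite G]

include L

/-- If `N(R)` fixes `t` up to the squares of `M` then `R` is a Sylow subgroup. -/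
theorem outcome_fixed (horb : σ.Orbit) (hk : 2 ≤ k) (h1 : ∀ g : L.X, L.dV g = 1) : σ.Outcome := by
  obtain ⟨S, hS⟩ := exists_sylow_eq L.R_two fun P hP hle => by
    by_contra hne
    obtain ⟨g, hg, hgR, hgN⟩ := exists_normalizer_mem hP hle hne
    exact hgR (L.mem_R_of_dV_one hP hle (g := ⟨g, L.normalizer_le_X horb hgN⟩) hg (h1 _))
  refine ⟨S, by rw [hS]; exact L.T_le_R, Or.inl ⟨M, ⟨by rw [hS]; exact L.M_le_R, L.t_not_mem,
    fun x hx => by rw [hS] at hx; exact hx⟩, L.V_le, L.comm, fun x hx hxt => L.omega x hx ?_,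
    Or.inl ⟨k, hk, L.exp, L.omega, L.card⟩⟩⟩
  have h := L.inverted x hx
  rw [← hxt.eq, mul_assoc, σ.invo, mul_one] at h
  rw [mul_eq_one_iff_eq_inv]
  exact h

theorem outcome_or_next (horb : σ.Orbit) :
    σ.Outcome ∨ ∃ K : Subgroup G, Nat.card M < Nat.card K ∧ Nonempty (Level σ K (k + 1)) := by
  have key : (∀ v : Vsp σ, ∃ g : L.X, L.dV g = v) →
      σ.Outcome ∨ ∃ K : Subgroup G, Nat.card M < Nat.card K ∧ Nonempty (Level σ K (k + 1)) := fun hd => by
    by_cases hT : ∀ a : L.rho.range, orderOf a = 2 → (L.affData hd).IsTranslation a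
    · exact L.outcome_translation hd hT
    · exact Or.inl (L.outcome_exceptional hd horb hT)
  rcases eq_or_lt_of_le L.one_le with hk | hk
  · exact key (L.dV_onto_of_one horb hk.symm)
  · by_cases h1 : ∀ g : L.X, L.dV g = 1
    · exact Or.inl (L.outcome_fixed horb hk h1)
    · obtain ⟨g, hg⟩ := not_forall.1 h1
      exact key (L.dV_range hg)

end Level

namespace Setting

variable (σ : Setting G)

include σ

/-- The level `V`. -/
theorem level_one : Nonempty (Level σ σ.V 1) :=
  ⟨{ one_le := le_rfl
     V_le := le_rfl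
     comm := fun _ ha _ hb => σ.v_comm ha hb
     inverted := fun m hm => by rw [(σ.cent m hm).eq, mul_assoc, σ.invo, mul_one, σ.v_inv hm]
     omega := fun _ hm _ => hm
     exp := fun m hm => by rw [pow_one, pow_two, σ.elem m hm]
     card := (pow_one _).symm
     c := σ.w
     c_cent := σ.w_cent
     c_M := σ.w_norm
     c_act := fun _ _ => rfl
     c_odd := σ.w_odd }⟩

/-- The structure theorem. -/
theorem structure_theorem [Finite G] (horb : σ.Orbit) : σ.Outcome := by
  have key : ∀ n, ∀ (M : Subgroup G) (k : ℕ), Nat.card G - Nat.card M < n →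
      Level σ M k → σ.Outcome := by
    intro n
    induction n with
    | zero => intro M k h; omega
    | succ n ih =>
      intro M k h L
      rcases L.outcome_or_next horb with h' | ⟨K, hlt, ⟨L'⟩⟩
      · exact h'
      · have := Subgroup.card_le_card_group K
        exact ih K (k + 1) (by omega) L'
  obtain ⟨L⟩ := σ.level_one
  exact key _ σ.V 1 (Nat.lt_succ_self _) L

end Setting

end CfsgLib.Core.TwoTimesPSL
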