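import Cfsg.Agent.Lib.Core.TwoTimesPSL.LevelExceptional
import Cfsg.Agent.Lib.Core.TwoTimesPSL.Alternating

/-!
# The translation branch

If the involutions of the affine group at a level are translations then either there is a larger
level, or a Sylow 2-subgroup of `G` has an abelian subgroup of index `2`, or it has a homocyclic
inverted subgroup with elementary quotient.
-/

set_option autoImplicit false
set_option linter.unusedSectionVars false

namespace CfsgLib.Core.TwoTimesPSL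

universe u

variable {G : Type u} [Group G]

theorem Setting.IndexTwo.card {σ : Setting G} [Finite G] {S K : Subgroup G} (h : σ.IndexTwo S K)
    (ht : σ.t ∈ S) : Nat.card S = 2 * Nat.card K := by
  rw [show 2 * Nat.card K = Nat.card (Fin 2 × K) by rw [Nat.card_prod, Nat.card_fin]]
  refine (Nat.card_congr (Equiv.ofBijective
    (fun p : Fin 2 × K => (⟨σ.t ^ (p.1 : ℕ) * p.2, S.mul_mem (S.pow_mem ht _) (h.1 p.2.2)⟩ : S))
    ⟨?_, ?_⟩)).symm
  · rintro ⟨a, v⟩ ⟨b, v'⟩ he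
    have h' : σ.t ^ (a : ℕ) * v = σ.t ^ (b : ℕ) * v' := congrArg Subtype.val he
    fin_cases a <;> fin_cases b <;> simp at h'
    · exact Prod.ext rfl h'
    · exact absurd (by rw [show σ.t = (v : G) * (v' : G)⁻¹ by rw [h', mul_inv_cancel_right]]
                       exact K.mul_mem v.2 (K.inv_mem v'.2)) h.2.1
    · exact absurd (by rw [show σ.t = (v' : G) * (v : G)⁻¹ by rw [← h', mul_inv_cancel_right]]
                       exact K.mul_mem v'.2 (K.inv_mem v.2)) h.2.1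
    · exact Prod.ext rfl h'
  · rintro ⟨x, hx⟩
    rcases h.2.2 x hx with hx' | hx'
    · exact ⟨(0, ⟨x, hx'⟩), Subtype.ext (by simp)⟩
    · exact ⟨(1, ⟨_, hx'⟩), Subtype.ext (by simp [σ.t_mul_mul])⟩

theorem commEl_mul {x y z : G} : x * (y * z) * x⁻¹ * (y * z)⁻¹ =
    (x * y * x⁻¹ * y⁻¹) * (y * (x * z * x⁻¹ * z⁻¹) * y⁻¹) := by group

namespace Setting

variable (σ : Setting G)

include σ

/-- Conjugation by `w` on `V`. -/
noncomputable def wAut [Finite G] : MulAut (Vsp σ) :=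
  MulEquiv.ofBijective
    (MonoidHom.mk' (fun v => Vsp.mk (σ.w * v.val' * σ.w⁻¹) (σ.w_norm _ v.mem)) fun a b =>
      Vsp.ext' (by simp [Vsp.val_mk, Vsp.val_mul, conj_mul]))
    (Finite.injective_iff_bijective.1 fun a b h =>
      Vsp.ext' (mul_left_cancel (mul_right_cancel (congrArg Vsp.val' h :))))

theorem wAut_val [Finite G] (v : Vsp σ) : (σ.wAut v).val' = σ.w * v.val' * σ.w⁻¹ := rfl

theorem wAut_pow_val [Finite G] (j : ℕ) (v : Vsp σ) :
    ((σ.wAut ^ j) v).val' = σ.w ^ j * v.val' * (σ.w ^ j)⁻¹ := by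
  induction j generalizing v with
  | zero => simp
  | succ j ih =>
    rw [pow_succ, MulAut.mul_apply, ih, σ.wAut_val, pow_succ]
    group

theorem wAut_trans [Finite G] : ∀ x : Vsp σ, x ≠ 1 → ∀ y : Vsp σ, y ≠ 1 → ∃ j : ℕ, (σ.wAut ^ j) x = y := by
  intro x hx y hy
  obtain ⟨j, hj⟩ := σ.w_trans _ x.mem (fun e => hx (Vsp.ext' e)) _ y.mem (fun e => hy (Vsp.ext' e))
  exact ⟨j, Vsp.ext' (by rw [σ.wAut_pow_val, hj])⟩

theorem wAut_fixed [Finite G] {v : Vsp σ} (h : σ.wAut v = v) : v = 1 := by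
  by_contra hv
  have hfix : ∀ j : ℕ, (σ.wAut ^ j) v = v := by
    intro j
    induction j with
    | zero => rfl
    | succ j ih => rw [pow_succ, MulAut.mul_apply, h, ih]
  have hall : ∀ u : Vsp σ, u = 1 ∨ u = v := fun u => by
    rcases eq_or_ne u 1 with hu | hu
    · exact Or.inl hu
    · obtain ⟨j, hj⟩ := σ.wAut_trans v hv u hu
      exact Or.inr (hj.symm.trans (hfix j))
  have h4 := σ.four_le
  have hle : Nat.card (Vsp σ) ≤ Nat.card (Fin 2) := by
    classical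
    refine Nat.card_le_card_of_injective (fun u => if u = 1 then (0 : Fin 2) else 1) fun a b e => ?_
    rcases hall a with rfl | rfl <;> rcases hall b with rfl | rfl <;> simp_all
  rw [Nat.card_fin] at hle
  have : Nat.card (Vsp σ) = Nat.card σ.V := rfl
  omega

end Setting

namespace Level

variable {σ : Setting G} {M : Subgroup G} {k : ℕ} (L : Level σ M k) [Finite G]

include L

theorem dV_one_of_commute {g : L.X} (h : Commute (g : G) σ.t) : L.dV g = 1 := Vsp.ext' (by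
  simp only [dV, disp, Vsp.val_mk, Vsp.val_one]
  rw [h.eq, mul_inv_cancel_right, σ.invo, L.pw_one])

theorem dV_of_mem_R {g : L.X} (h : (g : G) ∈ L.R) : L.dV g = 1 := L.dV_eq_one_of_rho (L.rho_R h)

variable (hd : ∀ v : Vsp σ, ∃ g : L.X, L.dV g = v)
  (hT : ∀ a : L.rho.range, orderOf a = 2 → (L.affData hd).IsTranslation a)

include hd hT

theorem translation_mem {P : Sylow 2 L.X} {g : L.X} (hg : g ∈ (P : Subgroup L.X)) :
    (L.affData hd).IsTranslation (L.rho.rangeRestrict g) := by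
  obtain ⟨i, hi⟩ := (L.affData hd).exists_involution (L.affV_ne_bot hd)
  obtain ⟨j, hj⟩ := orderOf_map_two_pow P.isPGroup' L.rho.rangeRestrict hg
  exact (L.affData hd).fixes_of_translation hi (hT i hi) hj

theorem comm_of_translation {g : L.X} (hg : (L.affData hd).IsTranslation (L.rho.rangeRestrict g))
    {v : G} (hv : v ∈ σ.V) : Commute (g : G) v := by
  have h : L.rho g (Vsp.mk v hv, 1) = (Vsp.mk v hv, 1) :=
    hg _ (Subgroup.mem_prod.2 ⟨trivial, Subgroup.mem_bot.2 rfl⟩)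
  rw [L.rho_V] at h
  have := congrArg Vsp.val' (Prod.ext_iff.1 h).1
  simp only [cV, Vsp.val_mk] at this
  exact mul_inv_eq_iff_eq_mul.1 this

theorem cV_sylow {P : Sylow 2 L.X} {g : L.X} (hg : g ∈ (P : Subgroup L.X)) (v : Vsp σ) :
    L.cV g v = v := Vsp.ext' (by
  simp only [cV, Vsp.val_mk]
  rw [(L.comm_of_translation hd hT (L.translation_mem hd hT hg) v.mem).eq, mul_inv_cancel_right])

theorem dV_sylow_mul {P : Sylow 2 L.X} {g : L.X} (hg : g ∈ (P : Subgroup L.X)) (h : L.X) :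
    L.dV (g * h) = L.dV g * L.dV h := by
  rw [L.dV_mul, L.cV_sylow hd hT hg]

theorem dV_sylow_inv {P : Sylow 2 L.X} {g : L.X} (hg : g ∈ (P : Subgroup L.X)) :
    L.dV g⁻¹ = L.dV g := by
  have h1 := L.dV_sylow_mul hd hT hg g⁻¹
  rw [mul_inv_cancel, L.dV_one_of_commute (g := 1) (Commute.one_left _)] at h1
  exact (eq_inv_of_mul_eq_one_right h1.symm).trans (inv_eq_of_mul_eq_one_right (L.vsq _))

theorem square_mem {P : Sylow 2 L.X} (hP : L.R.subgroupOf L.X ≤ (P : Subgroup L.X)) {g : G}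
    (hg : g ∈ L.sylG P) : g * g ∈ M := by
  obtain ⟨g, hg', rfl⟩ := hg
  by_cases h1 : L.rho g = 1
  · rcases L.mem_R_of_rho hP hg' h1 with h | h
    · exact M.mul_mem h h
    · show (g : G) * g ∈ M
      rw [L.outer_sq h]; exact M.one_mem
  · refine L.sq_mem_M hd hP hg' ?_ h1
    rw [← map_one L.rho]
    refine L.rho_ext ?_ fun v hv => ?_
    · rw [L.dV_sylow_mul hd hT hg', L.vsq, L.dV_one_of_commute (g := 1) (Commute.one_left _)]
    · have h2 := L.comm_of_translation hd hT (L.translation_mem hd hT hg') hv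
      rw [Subgroup.coe_mul, (h2.mul_left h2).eq, mul_inv_cancel_right]
      simp

/-- An odd order element normalising the Sylow subgroup and acting as `w`. -/
theorem exists_normalizing {P : Sylow 2 L.X} (hP : L.R.subgroupOf L.X ≤ (P : Subgroup L.X)) :
    ∃ c : L.X, Commute (c : G) σ.t ∧ (∀ x, x ∈ (P : Subgroup L.X) ↔ c * x * c⁻¹ ∈ (P : Subgroup L.X)) ∧
      (∀ v ∈ σ.V, (c : G) * v * (c : G)⁻¹ = σ.w * v * σ.w⁻¹) ∧ Odd (orderOf (c : G)) := by
  have : Fact (Nat.Prime 2) := ⟨Nat.prime_two⟩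
  let Y : Subgroup L.X := (L.affData hd).translations.comap L.rho.rangeRestrict
  have hn := (L.affData hd).translations_normal
  have hY : Y.Normal := Subgroup.Normal.comap hn _
  have hle : (P : Subgroup L.X) ≤ Y := fun g hg => L.translation_mem hd hT hg
  have htop := Sylow.normalizer_sup_eq_top (N := Y) (P.subtype hle)
  rw [Sylow.coe_subtype, Subgroup.map_subgroupOf_eq_of_le hle] at htop
  have hc : L.cX ∈ (Subgroup.normalizer ((P : Subgroup L.X) : Set L.X) ⊔ Y : Subgroup L.X) := by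
    rw [htop]; trivial
  obtain ⟨n, hn', y, hy, hny⟩ := Subgroup.mem_sup_of_normal_right.1 hc
  obtain ⟨s, hs, hsv⟩ := L.dV_surj_sylow hd P (L.dV n)
  have hone : L.dV (s⁻¹ * n) = 1 := by
    rw [L.dV_sylow_mul hd hT (inv_mem hs), L.dV_sylow_inv hd hT hs, hsv, L.vsq]
  obtain ⟨r, hr, hrc⟩ := L.exists_fix hone
  set rX : L.X := ⟨r, L.R_le_X hr⟩
  have hrP : rX ∈ (P : Subgroup L.X) := hP (Subgroup.mem_subgroupOf.2 hr)
  set c1 : L.X := rX * (s⁻¹ * n) with hc1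
  have hc1N : c1 ∈ Subgroup.normalizer ((P : Subgroup L.X) : Set L.X) :=
    mul_mem (Subgroup.le_normalizer hrP) (mul_mem (inv_mem (Subgroup.le_normalizer hs)) hn')
  have hact : ∀ v ∈ σ.V, (c1 : G) * v * (c1 : G)⁻¹ = σ.w * v * σ.w⁻¹ := by
    intro v hv
    have hn2 : n = L.cX * y⁻¹ := eq_mul_inv_of_mul_eq hny
    have h1 : (y : G)⁻¹ * v * (y : G) = v := by
      have hy' := L.comm_of_translation hd hT hy hv
      rw [mul_assoc, ← hy'.eq, inv_mul_cancel_left]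
    have h2 : (n : G) * v * (n : G)⁻¹ = σ.w * v * σ.w⁻¹ := by
      rw [hn2]
      simp only [Subgroup.coe_mul, Subgroup.coe_inv, cX]
      rw [← L.c_act v hv]
      conv_rhs => rw [← h1]
      group
    have h3 : ∀ {g : L.X}, g ∈ (P : Subgroup L.X) → ∀ u ∈ σ.V, (g : G) * u * (g : G)⁻¹ = u := fun hg u hu => by
      rw [(L.comm_of_translation hd hT (L.translation_mem hd hT hg) hu).eq, mul_inv_cancel_right]
    calc (c1 : G) * v * (c1 : G)⁻¹
        = (rX : G) * (((s⁻¹ : L.X) : G) * ((n : G) * v * (n : G)⁻¹) * ((s⁻¹ : L.X) : G)⁻¹) * (rX : G)⁻¹ := by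
          simp only [hc1, Subgroup.coe_mul, mul_inv_rev, mul_assoc]
      _ = σ.w * v * σ.w⁻¹ := by
          rw [h2, h3 (inv_mem hs) _ (σ.w_norm v hv), h3 hrP _ (σ.w_norm v hv)]
  have hpow : ∀ (j : ℕ), ∀ v ∈ σ.V, (c1 : G) ^ j * v * ((c1 : G) ^ j)⁻¹ = σ.w ^ j * v * (σ.w ^ j)⁻¹ := by
    intro j
    induction j with
    | zero => intro v _; simp
    | succ j ih =>
      intro v hv
      rw [pow_succ, pow_succ, show (c1 : G) ^ j * c1 * v * ((c1 : G) ^ j * c1)⁻¹ =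
        (c1 : G) ^ j * ((c1 : G) * v * (c1 : G)⁻¹) * ((c1 : G) ^ j)⁻¹ by group, hact v hv, ih _ (σ.w_norm v hv)]
      group
  -- kill the 2-part
  set d := orderOf (c1 : G) with hd'
  have hd0 : d ≠ 0 := (orderOf_pos _).ne'
  set a := d.factorization 2
  set o := d / 2 ^ a
  have hodd : Odd o := Nat.not_even_iff_odd.1 fun e =>
    Nat.not_dvd_ordCompl Nat.prime_two hd0 (even_iff_two_dvd.1 e)
  have hdo : 2 ^ a * o = d := Nat.mul_div_cancel' (Nat.ordProj_dvd d 2)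
  obtain ⟨j, hj0, hj1⟩ := Nat.chineseRemainder (Nat.Coprime.pow_left a σ.w_odd.coprime_two_left) 0 1
  refine ⟨c1 ^ j, ?_, Subgroup.mem_normalizer_iff.1 (pow_mem hc1N j), fun v hv => ?_, ?_⟩
  · rw [SubmonoidClass.coe_pow]
    exact hrc.pow_left j
  · rw [SubmonoidClass.coe_pow, hpow j v hv, show σ.w ^ j = σ.w by
      conv_rhs => rw [← pow_one σ.w]
      exact pow_eq_pow_iff_modEq.2 hj1]
  · refine hodd.of_dvd_nat (orderOf_dvd_of_pow_eq_one ?_)
    rw [SubmonoidClass.coe_pow, ← pow_mul]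
    obtain ⟨i, rfl⟩ := (Nat.modEq_zero_iff_dvd.1 hj0)
    rw [show 2 ^ a * i * o = d * i by rw [← hdo]; ring, pow_mul, hd', pow_orderOf_eq_one, one_pow]

omit hd hT in
theorem dV_conj_of_commute {c : L.X} (hc : Commute (c : G) σ.t) (x : L.X) :
    L.dV (c * x * c⁻¹) = L.cV c (L.dV x) := by
  have h1 : L.dV c⁻¹ = 1 := L.dV_one_of_commute (by rw [Subgroup.coe_inv]; exact hc.inv_left)
  have hone : ∀ g : L.X, L.cV g 1 = 1 := fun g => Vsp.ext' (by simp [cV, Vsp.val_mk, Vsp.val_one])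
  rw [L.dV_mul, L.dV_mul, L.dV_one_of_commute hc, h1, one_mul, hone, mul_one]

/-- The subgroup of index `2`. -/
theorem exists_K {P : Sylow 2 L.X} (hP : L.R.subgroupOf L.X ≤ (P : Subgroup L.X)) {c : L.X}
    (hct : Commute (c : G) σ.t)
    (hcP : ∀ x, x ∈ (P : Subgroup L.X) ↔ c * x * c⁻¹ ∈ (P : Subgroup L.X))
    (hcV : ∀ v ∈ σ.V, (c : G) * v * (c : G)⁻¹ = σ.w * v * σ.w⁻¹) :
    ∃ K : Subgroup G, σ.IndexTwo (L.sylG P) K ∧ M ≤ K ∧
      Nat.card K = Nat.card M * Nat.card σ.V ∧ (∀ x ∈ K, (c : G) * x * (c : G)⁻¹ ∈ K) ∧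
      (∀ x ∈ K, x ∈ L.R → x ∈ M) ∧
      ∀ v : Vsp σ, ∃ x : L.X, (x : G) ∈ K ∧ L.dV x = v := by
  classical
  have hSX := L.sylG_le_X P
  have hRS := L.R_le_sylG hP
  set S := L.sylG P with hS
  have hnorm : (M.subgroupOf S).Normal :=
    ⟨fun m hm s => Subgroup.mem_subgroupOf.2 (L.X_conj (hSX s.2) (Subgroup.mem_subgroupOf.1 hm))⟩
  let q : S →* S ⧸ M.subgroupOf S := QuotientGroup.mk' _
  have hq1 : ∀ s : S, q s = 1 ↔ (s : G) ∈ M := fun s =>
    (QuotientGroup.eq_one_iff _).trans Subgroup.mem_subgroupOf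
  have hsq : ∀ z : S ⧸ M.subgroupOf S, z * z = 1 := by
    intro z
    obtain ⟨s, rfl⟩ := QuotientGroup.mk'_surjective _ z
    rw [← map_mul]
    exact (hq1 _).2 (L.square_mem hd hT hP s.2)
  have hinv : ∀ z : S ⧸ M.subgroupOf S, z⁻¹ = z := fun z => inv_eq_of_mul_eq_one_right (hsq z)
  have hcomm : ∀ z z' : S ⧸ M.subgroupOf S, z * z' = z' * z := fun z z' => by
    have h := hinv (z * z')
    rwa [mul_inv_rev, hinv, hinv, eq_comm] at h
  have hmemP : ∀ s : S, (⟨s, hSX s.2⟩ : L.X) ∈ (P : Subgroup L.X) := fun s => L.mem_sylG.1 s.2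
  have hcS : ∀ s : S, (c : G) * s * (c : G)⁻¹ ∈ S := fun s =>
    ⟨_, (hcP _).1 (hmemP s), by simp⟩
  let cS : S →* S := MonoidHom.mk' (fun s => ⟨_, hcS s⟩) fun a b => Subtype.ext (by simp [conj_mul])
  let φ : S →* S ⧸ M.subgroupOf S := MonoidHom.mk' (fun s => q s * q (cS s)) fun a b => by
    simp only [map_mul]
    rw [mul_assoc, ← mul_assoc (q b), hcomm (q b) (q (cS a))]
    simp only [mul_assoc]
  let μ : S → Vsp σ := fun s => L.dV ⟨s, hSX s.2⟩
  have hμ : ∀ a b : S, μ (a * b) = μ a * μ b := fun a b => L.dV_sylow_mul hd hT (hmemP a) ⟨b, hSX b.2⟩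
  have hμM : ∀ s : S, (s : G) ∈ M → μ s = 1 := fun s hs => L.dV_of_mem_R (g := ⟨s, hSX s.2⟩) (Or.inl hs)
  have hμc : ∀ s : S, μ (cS s) = σ.wAut (μ s) := fun s => by
    show L.dV (c * ⟨s, hSX s.2⟩ * c⁻¹) = _
    rw [L.dV_conj_of_commute hct]
    exact Vsp.ext' (by simp only [cV, Vsp.val_mk]; rw [hcV _ (Vsp.mem _)]; rfl)
  have hμq : ∀ s x : S, q s = φ x → μ s = μ x * σ.wAut (μ x) := by
    intro s x h
    have h1 : (((x * cS x)⁻¹ * s : S) : G) ∈ M := by
      rw [← hq1, map_mul, map_inv, map_mul, h]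
      exact inv_mul_cancel _
    have h2 := hμM _ h1
    rw [← hμc, ← hμ]
    have h3 := hμ (x * cS x) ((x * cS x)⁻¹ * s)
    rwa [mul_inv_cancel_left, h2, mul_one] at h3
  have hR : ∀ s : S, μ s = 1 → (s : G) ∈ L.R := fun s hs =>
    L.mem_R_of_dV_one (L.sylG_two P) hRS (g := ⟨s, hSX s.2⟩) s.2 hs
  have hker : ∀ v : Vsp σ, v * σ.wAut v = 1 → v = 1 := fun v h => σ.wAut_fixed
    ((eq_inv_of_mul_eq_one_right h).trans (inv_eq_of_mul_eq_one_right (L.vsq v)))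
  have hbij : Function.Bijective (fun v : Vsp σ => v * σ.wAut v) := by
    refine Finite.injective_iff_bijective.1 fun a b h => ?_
    have h' : (a * b) * σ.wAut (a * b) = 1 := by
      rw [map_mul, mul_mul_mul_comm, show a * σ.wAut a = b * σ.wAut b from h]
      exact L.vsq _
    exact (eq_inv_of_mul_eq_one_left (hker _ h')).trans (inv_eq_of_mul_eq_one_right (L.vsq b))
  have hμsurj : ∀ v : Vsp σ, ∃ s : S, μ s = v := fun v => by
    obtain ⟨s, hs, hsv⟩ := L.dV_surj_sylow hd P v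
    exact ⟨⟨s, L.mem_sylG.2 hs⟩, hsv⟩
  set K := (φ.range.comap q).map S.subtype with hK
  have hKmem : ∀ {s : S}, (s : G) ∈ K ↔ ∃ x, φ x = q s := fun {s} =>
    ⟨fun ⟨a, ⟨x, hx⟩, e⟩ => ⟨x, (Subtype.ext e : a = s) ▸ hx⟩, fun ⟨x, hx⟩ => ⟨s, ⟨x, hx⟩, rfl⟩⟩
  have hKS : K ≤ S := Subgroup.map_subtype_le _
  have hMK : M ≤ K := fun m hm =>
    (hKmem (s := ⟨m, hRS (Or.inl hm)⟩)).2 ⟨1, by rw [map_one]; exact ((hq1 _).2 hm).symm⟩
  have hKR : ∀ x ∈ K, x ∈ L.R → x ∈ M := by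
    intro x hx hxR
    obtain ⟨y, hy⟩ := (hKmem (s := ⟨x, hKS hx⟩)).1 hx
    have h1 := hμq _ _ hy.symm
    rw [show μ ⟨x, hKS hx⟩ = 1 from L.dV_of_mem_R (g := ⟨x, hSX (hKS hx)⟩) hxR] at h1
    have hyR := hR y (hker _ h1.symm)
    have hy1 : φ y = 1 := by
      show q y * q (cS y) = 1
      have hcy : q (cS y) = q y := by
        rcases hyR with h | h
        · rw [(hq1 y).2 h]
          exact (hq1 _).2 (L.X_conj c.2 h)
        · rw [← inv_mul_eq_one, ← map_inv, ← map_mul, hq1]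
          show ((c : G) * (y : G) * (c : G)⁻¹)⁻¹ * (y : G) ∈ M
          have e : ((c : G) * (y : G) * (c : G)⁻¹)⁻¹ * (y : G) =
              ((c : G) * (σ.t * (y : G)) * (c : G)⁻¹)⁻¹ * (σ.t * (y : G)) := by
            rw [show (c : G) * (σ.t * (y : G)) = σ.t * ((c : G) * (y : G)) by
              rw [← mul_assoc, hct.eq, mul_assoc]]
            group
          rw [e]
          exact M.mul_mem (M.inv_mem (L.X_conj c.2 h)) h
      rw [hcy, hsq]
    rw [hy1] at hy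
    exact (hq1 _).1 hy.symm
  have hsec : ∀ v : Vsp σ, ∃ s : S, (s : G) ∈ K ∧ μ s = v := by
    intro v
    obtain ⟨u, hu⟩ := hbij.2 v
    obtain ⟨x, hx⟩ := hμsurj u
    obtain ⟨s, hs⟩ := QuotientGroup.mk'_surjective _ (φ x)
    exact ⟨s, hKmem.2 ⟨x, hs.symm⟩, by rw [hμq s x hs, hx]; exact hu⟩
  choose κ hκK hκμ using hsec
  have hdec : ∀ s : S, (s : G) ∈ K → (((κ (μ s))⁻¹ * s : S) : G) ∈ M := by
    intro s hs
    refine hKR _ (K.mul_mem (K.inv_mem (hκK _)) hs) (hR _ ?_)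
    have h3 := hμ (κ (μ s)) ((κ (μ s))⁻¹ * s)
    rw [mul_inv_cancel_left, hκμ] at h3
    exact mul_eq_left.1 h3.symm
  refine ⟨K, ⟨hKS, fun h => L.t_not_mem (hKR _ h L.t_mem_R), fun x hx => ?_⟩, hMK, ?_, ?_, hKR, ?_⟩
  · obtain ⟨xs, rfl⟩ : ∃ xs : S, (xs : G) = x := ⟨⟨x, hx⟩, rfl⟩
    have h1 : μ ((κ (μ xs))⁻¹ * xs) = 1 := by
      have h3 := hμ (κ (μ xs)) ((κ (μ xs))⁻¹ * xs)
      rw [mul_inv_cancel_left, hκμ] at h3
      exact mul_eq_left.1 h3.symm
    rcases hR _ h1 with h | h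
    · left
      have h2 := K.mul_mem (hκK (μ xs)) (hMK h)
      rwa [← Subgroup.coe_mul, mul_inv_cancel_left] at h2
    · right
      set tS : S := ⟨σ.t, hRS L.t_mem_R⟩
      refine (hKmem (s := tS * xs)).2 ?_
      obtain ⟨z, hz⟩ := (hKmem (s := κ (μ xs))).1 (hκK _)
      refine ⟨z, hz.trans ?_⟩
      have h2 : q tS * ((q (κ (μ xs)))⁻¹ * q xs) = 1 := by rw [← map_inv, ← map_mul, ← map_mul, hq1]; exact h
      rw [hinv, ← mul_assoc, hcomm (q tS), mul_assoc] at h2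
      rw [map_mul]
      exact (eq_inv_of_mul_eq_one_left h2).trans (hinv _)
  · rw [← Nat.card_prod]
    refine (Nat.card_congr (Equiv.ofBijective
      (fun p : M × σ.V => (⟨(κ (Vsp.mk p.2.1 p.2.2) : G) * p.1, K.mul_mem (hκK _) (hMK p.1.2)⟩ : K))
      ⟨?_, ?_⟩)).symm
    · rintro ⟨m, v⟩ ⟨m', v'⟩ h
      have h' : (κ (Vsp.mk v.1 v.2) : G) * m = (κ (Vsp.mk v'.1 v'.2) : G) * m' := congrArg Subtype.val h
      have h2 : μ (κ (Vsp.mk v.1 v.2) * ⟨m, hRS (Or.inl m.2)⟩) = μ (κ (Vsp.mk v'.1 v'.2) * ⟨m', hRS (Or.inl m'.2)⟩) :=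
        congrArg μ (Subtype.ext h')
      rw [hμ, hμ, hμM ⟨m, hRS (Or.inl m.2)⟩ m.2, hμM ⟨m', hRS (Or.inl m'.2)⟩ m'.2, mul_one, mul_one, hκμ, hκμ] at h2
      have hv : v = v' := Subtype.ext (congrArg Vsp.val' h2 :)
      subst hv
      exact Prod.ext (Subtype.ext (mul_left_cancel h')) rfl
    · rintro ⟨x, hx⟩
      obtain ⟨xs, rfl⟩ : ∃ xs : S, (xs : G) = x := ⟨⟨x, hKS hx⟩, rfl⟩
      refine ⟨(⟨_, hdec xs hx⟩, ⟨(μ xs).val', (μ xs).mem⟩), Subtype.ext ?_⟩
      show (κ (μ xs) : G) * (((κ (μ xs))⁻¹ * xs : S) : G) = xs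
      rw [← Subgroup.coe_mul, mul_inv_cancel_left]
  · intro x hx
    obtain ⟨z, hz⟩ := (hKmem (s := ⟨x, hKS hx⟩)).1 hx
    refine (hKmem (s := cS ⟨x, hKS hx⟩)).2 ⟨cS z, ?_⟩
    have h1 : q ((z * cS z)⁻¹ * ⟨x, hKS hx⟩) = 1 := by
      rw [map_mul, map_inv, map_mul, show q z * q (cS z) = _ from hz, inv_mul_cancel]
    have h2 : q (cS ((z * cS z)⁻¹ * ⟨x, hKS hx⟩)) = 1 := (hq1 _).2 (L.X_conj c.2 ((hq1 _).1 h1))
    rw [map_mul cS, map_inv cS, map_mul cS, map_mul, map_inv, map_mul, inv_mul_eq_one] at h2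
    exact h2
  · intro v
    exact ⟨⟨_, hSX (κ v).2⟩, hκK v, hκμ v⟩

variable {K : Subgroup G} {P : Sylow 2 L.X}

omit hd hT in
/-- An invariant intermediate subgroup is trivial or everything. -/
theorem invariant_dichotomy (hK : σ.IndexTwo (L.sylG P) K) {c : L.X}
    (hct : Commute (c : G) σ.t) (hcV : ∀ v ∈ σ.V, (c : G) * v * (c : G)⁻¹ = σ.w * v * σ.w⁻¹)
    (hP : L.R.subgroupOf L.X ≤ (P : Subgroup L.X))
    (hKR : ∀ x ∈ K, x ∈ L.R → x ∈ M)
    {H : Subgroup G} (hHK : H ≤ K) (hMH : M ≤ H) (hcH : ∀ x ∈ H, (c : G) * x * (c : G)⁻¹ ∈ H)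
    {y : G} (hy : y ∈ H) (hyM : y ∉ M) : K ≤ H := by
  intro x hx
  have hSX := L.sylG_le_X P
  by_cases hxM : x ∈ M
  · exact hMH hxM
  have hne : ∀ {z : G} (hz : z ∈ K), z ∉ M → L.dV ⟨z, hSX (hK.1 hz)⟩ ≠ 1 := fun {z} hz hzM e =>
    hzM (hKR z hz (L.mem_R_of_dV_one (L.sylG_two P) (L.R_le_sylG hP) (g := ⟨z, hSX (hK.1 hz)⟩) (hK.1 hz) e))
  set yX : L.X := ⟨y, hSX (hK.1 (hHK hy))⟩ with hyX
  set xX : L.X := ⟨x, hSX (hK.1 hx)⟩ with hxX
  obtain ⟨j, hj⟩ := σ.wAut_trans _ (hne (hHK hy) hyM) _ (hne hx hxM)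
  have hiter : ∀ i : ℕ, ∃ z : L.X, (z : G) ∈ H ∧ L.dV z = (σ.wAut ^ i) (L.dV yX) := by
    intro i
    induction i with
    | zero => exact ⟨yX, hy, rfl⟩
    | succ i ih =>
      obtain ⟨z, hz, hzv⟩ := ih
      refine ⟨c * z * c⁻¹, by simpa using hcH _ hz, ?_⟩
      rw [L.dV_conj_of_commute hct, hzv, pow_succ', MulAut.mul_apply]
      exact Vsp.ext' (by simp only [cV, Vsp.val_mk]; rw [hcV _ (Vsp.mem _)]; rfl)
  obtain ⟨z, hz, hzv⟩ := hiter j
  have h1 : L.dV (z⁻¹ * xX) = 1 := by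
    have h2 := L.dV_mul z (z⁻¹ * xX)
    rw [mul_inv_cancel_left, hzv, hj] at h2
    have h3 := mul_eq_left.1 h2.symm
    refine Vsp.ext' ?_
    have h4 := congrArg Vsp.val' h3
    simp only [cV, Vsp.val_mk, Vsp.val_one] at h4 ⊢
    exact conj_eq_one_iff.1 h4
  have hmem : (((z⁻¹ * xX : L.X)) : G) ∈ K := by
    simpa using K.mul_mem (K.inv_mem (hHK hz)) hx
  have := H.mul_mem hz (hMH (hKR _ hmem
    (L.mem_R_of_dV_one (L.sylG_two P) (L.R_le_sylG hP) (hK.1 hmem) h1)))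
  rw [← Subgroup.coe_mul, mul_inv_cancel_left] at this
  exact this

/-- If `K` centralises `M` it is abelian. -/
theorem abelian_of_central (hP : L.R.subgroupOf L.X ≤ (P : Subgroup L.X)) {c : L.X}
    (hct : Commute (c : G) σ.t) (hcV : ∀ v ∈ σ.V, (c : G) * v * (c : G)⁻¹ = σ.w * v * σ.w⁻¹)
    (hK : σ.IndexTwo (L.sylG P) K) (hcK : ∀ x ∈ K, (c : G) * x * (c : G)⁻¹ ∈ K)
    (hKR : ∀ x ∈ K, x ∈ L.R → x ∈ M) (hsec : ∀ v : Vsp σ, ∃ x : L.X, (x : G) ∈ K ∧ L.dV x = v)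
    (hcen : ∀ x ∈ K, ∀ m ∈ M, Commute x m) : ∀ a ∈ K, ∀ b ∈ K, Commute a b := by
  classical
  have hsq : ∀ {x : G}, x ∈ K → x * x ∈ M := fun hx => L.square_mem hd hT hP (hK.1 hx)
  have hcm : ∀ {a b : G}, a ∈ K → b ∈ K → a * b * a⁻¹ * b⁻¹ ∈ M := by
    intro a b ha hb
    have e : a * b * a⁻¹ * b⁻¹ = (a * b) * (a * b) * ((a * b)⁻¹ * (a * a) * (a * b))⁻¹ * (b * b)⁻¹ * 1 := by group
    have h1 : (a * b)⁻¹ * (a * a) * (a * b) = a * a := by
      rw [mul_assoc, ← (hcen _ (K.mul_mem ha hb) _ (hsq ha)).eq, inv_mul_cancel_left]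
    rw [e, h1, mul_one]
    exact M.mul_mem (M.mul_mem (hsq (K.mul_mem ha hb)) (M.inv_mem (hsq ha))) (M.inv_mem (hsq hb))
  have hbil : ∀ {a b b' : G}, a ∈ K → b ∈ K → b' ∈ K →
      a * (b * b') * a⁻¹ * (b * b')⁻¹ = (a * b * a⁻¹ * b⁻¹) * (a * b' * a⁻¹ * b'⁻¹) := by
    intro a b b' ha hb hb'
    rw [commEl_mul, (hcen b hb _ (hcm ha hb')).eq, mul_inv_cancel_right]
  have hzero : ∀ {a m : G}, a ∈ K → m ∈ M → a * m * a⁻¹ * m⁻¹ = 1 := fun {a m} ha hm => by
    rw [(hcen a ha m hm).eq, mul_inv_cancel_right, mul_inv_cancel]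
  have hV : ∀ {a b : G}, a ∈ K → b ∈ K → a * b * a⁻¹ * b⁻¹ ∈ σ.V := fun {a b} ha hb =>
    L.omega _ (hcm ha hb) (by rw [← hbil ha hb hb, hzero ha (hsq hb)])
  choose κ hκK hκ using hsec
  let B : Vsp σ → Vsp σ → Vsp σ := fun u v => Vsp.mk _ (hV (hκK u) (hκK v))
  have hdec : ∀ {a : G} (ha : a ∈ K),
      ∃ m ∈ M, a = (κ (L.dV ⟨a, L.sylG_le_X P (hK.1 ha)⟩) : G) * m := by
    intro a ha
    set aX : L.X := ⟨a, L.sylG_le_X P (hK.1 ha)⟩
    have hmem : (((κ (L.dV aX))⁻¹ * aX : L.X) : G) ∈ K := by simpa using K.mul_mem (K.inv_mem (hκK _)) ha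
    have h1 : L.dV ((κ (L.dV aX))⁻¹ * aX) = 1 := by
      have h2 := L.dV_sylow_mul hd hT (L.mem_sylG.1 (hK.1 (hκK (L.dV aX)))) ((κ (L.dV aX))⁻¹ * aX)
      rw [mul_inv_cancel_left, hκ] at h2
      exact mul_eq_left.1 h2.symm
    refine ⟨_, hKR _ hmem (L.mem_R_of_dV_one (L.sylG_two P) (L.R_le_sylG hP) (hK.1 hmem) h1), ?_⟩
    show a = _
    rw [← Subgroup.coe_mul, mul_inv_cancel_left]
  have hright : ∀ {a b m : G}, a ∈ K → b ∈ K → m ∈ M →
      a * (b * m) * a⁻¹ * (b * m)⁻¹ = a * b * a⁻¹ * b⁻¹ := fun {a b m} ha hb hm => by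
    rw [commEl_mul, hzero ha hm]; group
  have hleft : ∀ {a b m : G}, a ∈ K → b ∈ K → m ∈ M →
      (a * m) * b * (a * m)⁻¹ * b⁻¹ = a * b * a⁻¹ * b⁻¹ := fun {a b m} ha hb hm => by
    rw [show a * m * b * (a * m)⁻¹ * b⁻¹ = a * (m * b * m⁻¹) * a⁻¹ * b⁻¹ by group,
      ← (hcen b hb m hm).eq, mul_inv_cancel_right]
  have hB : ∀ {a b : G} (ha : a ∈ K) (hb : b ∈ K),
      a * b * a⁻¹ * b⁻¹ = (B (L.dV ⟨a, L.sylG_le_X P (hK.1 ha)⟩) (L.dV ⟨b, L.sylG_le_X P (hK.1 hb)⟩)).val' := by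
    intro a b ha hb
    obtain ⟨m, hm, e⟩ := hdec ha
    obtain ⟨m', hm', e'⟩ := hdec hb
    set u := L.dV ⟨a, L.sylG_le_X P (hK.1 ha)⟩
    set v := L.dV ⟨b, L.sylG_le_X P (hK.1 hb)⟩
    calc a * b * a⁻¹ * b⁻¹ = ((κ u : G) * m) * ((κ v : G) * m') * ((κ u : G) * m)⁻¹ * ((κ v : G) * m')⁻¹ := by
          rw [← e, ← e']
      _ = _ := by
          rw [hright (e ▸ ha) (hκK v) hm', hleft (hκK u) (hκK v) hm]
          rfl
  obtain ⟨p, hp, hp1⟩ := (Subgroup.bot_or_exists_ne_one σ.V).resolve_left σ.V_ne_bot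
  have hone := alternating_equivariant_eq_one (w := σ.wAut) (p := Vsp.mk p hp)
    (fun e => hp1 (congrArg Vsp.val' e :)) σ.wAut_trans L.vsq B
    (fun x y z => Vsp.ext' (by
      show (κ x : G) * κ (y * z) * (κ x : G)⁻¹ * (κ (y * z) : G)⁻¹ =
        ((κ x : G) * κ y * (κ x : G)⁻¹ * (κ y : G)⁻¹) * ((κ x : G) * κ z * (κ x : G)⁻¹ * (κ z : G)⁻¹)
      rw [← hbil (hκK x) (hκK y) (hκK z)]
      have hyz := K.mul_mem (hκK y) (hκK z)
      obtain ⟨m, hm, e⟩ := hdec hyz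
      have hd' : L.dV ⟨(κ y : G) * κ z, L.sylG_le_X P (hK.1 hyz)⟩ = y * z := by
        show L.dV (κ y * κ z) = _
        rw [L.dV_sylow_mul hd hT (L.mem_sylG.1 (hK.1 (hκK y))), hκ, hκ]
      rw [hd'] at e
      rw [e, hright (hκK x) (hκK (y * z)) hm]))
    (fun x => Vsp.ext' (by simp [B, Vsp.val_mk, Vsp.val_one]))
    (fun x y => Vsp.ext' (by
      simp only [B, Vsp.val_mk]
      rw [← σ.v_inv (hV (hκK x) (hκK y))]
      group))
    (fun x y => Vsp.ext' (by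
      rw [σ.wAut_val]
      simp only [B, Vsp.val_mk]
      rw [← hcV _ (hV (hκK x) (hκK y))]
      have hd' : ∀ (z : Vsp σ) (h : (c : G) * (κ z : G) * (c : G)⁻¹ ∈ L.X),
          L.dV ⟨(c : G) * (κ z : G) * (c : G)⁻¹, h⟩ = σ.wAut z := by
        intro z h
        show L.dV (c * κ z * c⁻¹) = _
        rw [L.dV_conj_of_commute hct, hκ]
        exact Vsp.ext' (by simp only [cV, Vsp.val_mk]; rw [hcV _ (Vsp.mem _)]; rfl)
      have h5 := hB (hcK _ (hκK x)) (hcK _ (hκK y))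
      rw [hd', hd'] at h5
      refine h5.symm.trans ?_
      group))
  intro a ha b hb
  have := hB ha hb
  rw [hone, Vsp.val_one, mul_inv_eq_one, mul_inv_eq_iff_eq_mul] at this
  exact this

/-- The central case. -/
theorem central_case (hP : L.R.subgroupOf L.X ≤ (P : Subgroup L.X)) {c : L.X}
    (hct : Commute (c : G) σ.t) (hcodd : Odd (orderOf (c : G)))
    (hcV : ∀ v ∈ σ.V, (c : G) * v * (c : G)⁻¹ = σ.w * v * σ.w⁻¹)
    (hK : σ.IndexTwo (L.sylG P) K) (hMK : M ≤ K) (hcard : Nat.card K = Nat.card M * Nat.card σ.V)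
    (hcK : ∀ x ∈ K, (c : G) * x * (c : G)⁻¹ ∈ K) (hKR : ∀ x ∈ K, x ∈ L.R → x ∈ M)
    (hab : ∀ a ∈ K, ∀ b ∈ K, Commute a b) :
    σ.Outcome ∨ Nonempty (Level σ K (k + 1)) := by
  classical
  have hSX := L.sylG_le_X P
  have hRS := L.R_le_sylG hP
  have hsq : ∀ {x : G}, x ∈ K → x * x ∈ M := fun hx => L.square_mem hd hT hP (hK.1 hx)
  have htK : ∀ {x : G}, x ∈ K → σ.t * x * σ.t ∈ K := fun {x} hx => by
    have h1 := K.mul_mem (hMK (L.disp_mem (hSX (hK.1 hx)))) hx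
    rw [disp] at h1
    rwa [show σ.t * (x * σ.t * x⁻¹) * x = σ.t * x * σ.t by group] at h1
  have hct' : ∀ {x : G}, x ∈ K → Commute x σ.t → x ∈ σ.V := fun {x} hx hxt => by
    have hxM := hKR x hx (L.mem_R_of_dV_one (L.sylG_two P) hRS (g := ⟨x, hSX (hK.1 hx)⟩) (hK.1 hx)
      (L.dV_one_of_commute hxt))
    refine L.omega x hxM ?_
    have h1 := L.inverted x hxM
    rw [← hxt.eq, mul_assoc, σ.invo, mul_one] at h1
    rw [mul_eq_one_iff_eq_inv]; exact h1
  have hcinv : ∀ {y : G}, (c : G) * σ.t * y = σ.t * ((c : G) * y) := fun {y} => by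
    rw [hct.eq, mul_assoc]
  -- `b y = (t y t) y`
  have hb : ∀ {y : G}, y ∈ K → σ.t * y * σ.t * y ∈ σ.V := fun {y} hy => by
    refine hct' (K.mul_mem (htK hy) hy) ?_
    show σ.t * y * σ.t * y * σ.t = σ.t * (σ.t * y * σ.t * y)
    have h1 := (hab _ (htK hy) _ hy).eq
    calc σ.t * y * σ.t * y * σ.t = σ.t * (y * (σ.t * y * σ.t)) := by simp only [mul_assoc]
      _ = _ := by rw [← h1]
  let Hb : Subgroup G :=
    { carrier := {y | y ∈ K ∧ σ.t * y * σ.t * y = 1}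
      one_mem' := ⟨K.one_mem, by rw [mul_one, mul_one, σ.invo]⟩
      mul_mem' := fun {y z} hy hz => ⟨K.mul_mem hy.1 hz.1, by
        have e : σ.t * (y * z) * σ.t = (σ.t * y * σ.t) * (σ.t * z * σ.t) := by
          simp only [mul_assoc, σ.t_mul_mul]
        rw [e, mul_assoc (σ.t * y * σ.t) (σ.t * z * σ.t) (y * z), ← mul_assoc (σ.t * z * σ.t) y z,
          (hab _ (htK hz.1) _ hy.1).eq, mul_assoc y _ z, hz.2, mul_one, hy.2]⟩
      inv_mem' := fun {y} hy => ⟨K.inv_mem hy.1, by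
        have e : σ.t * y⁻¹ * σ.t = (σ.t * y * σ.t)⁻¹ := by rw [mul_inv_rev, mul_inv_rev, σ.t_inv, mul_assoc]
        rw [e, ← mul_inv_rev, (hab _ hy.1 _ (htK hy.1)).eq, hy.2, inv_one]⟩ }
  have hHb : ∀ {y : G}, y ∈ Hb ↔ y ∈ K ∧ σ.t * y * σ.t * y = 1 := Iff.rfl
  have hMHb : M ≤ Hb := fun m hm => hHb.2 ⟨hMK hm, by rw [L.inverted m hm, inv_mul_cancel]⟩
  have hcHb : ∀ x ∈ Hb, (c : G) * x * (c : G)⁻¹ ∈ Hb := fun x hx => hHb.2 ⟨hcK x hx.1, by
    have e : (c : G) * σ.t = σ.t * (c : G) := hct.eq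
    have e' : (c : G)⁻¹ * σ.t = σ.t * (c : G)⁻¹ := hct.inv_left.eq
    calc σ.t * ((c : G) * x * (c : G)⁻¹) * σ.t * ((c : G) * x * (c : G)⁻¹)
        = (σ.t * (c : G)) * x * ((c : G)⁻¹ * σ.t) * ((c : G) * x * (c : G)⁻¹) := by simp only [mul_assoc]
      _ = (c : G) * (σ.t * x * σ.t * x) * (c : G)⁻¹ := by rw [← e, e']; group
      _ = 1 := by rw [(hHb.1 hx).2, mul_one, mul_inv_cancel]⟩
  have hMV : Nat.card M * Nat.card σ.V = Nat.card σ.V ^ (k + 1) := by rw [L.card, pow_succ]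
  by_cases hz : ∃ y ∈ Hb, y ∉ M
  · -- `t` inverts `K`
    obtain ⟨y, hy, hyM⟩ := hz
    have hall := L.invariant_dichotomy hK hct hcV hP hKR (fun x hx => (hHb.1 hx).1) hMHb hcHb hy hyM
    have hinv : ∀ x ∈ K, σ.t * x * σ.t = x⁻¹ := fun x hx => eq_inv_of_mul_eq_one_left (hHb.1 (hall hx)).2
    exact Or.inr ⟨
      { one_le := Nat.le_add_left 1 k
        V_le := L.V_le.trans hMK
        comm := hab
        inverted := hinv
        omega := fun x hx hx2 => hct' hx (by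
          have h1 := hinv x hx
          rw [inv_eq_of_mul_eq_one_right hx2] at h1
          show x * σ.t = σ.t * x
          conv_lhs => rw [← h1]
          rw [mul_assoc, σ.invo, mul_one])
        exp := fun x hx => by rw [pow_succ', pow_mul, pow_two, L.exp _ (hsq hx)]
        card := hcard.trans hMV
        c := c
        c_cent := hct
        c_M := hcK
        c_act := hcV
        c_odd := hcodd }⟩
  · push Not at hz
    refine Or.inl ?_
    have hext : ∀ x ∈ L.sylG P, σ.Extremal (L.sylG P) x → σ.t * x ∈ M := by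
      intro x hx hext
      rcases hK.2.2 x hx with h | h
      · exfalso
        have hle : Nat.card K ≤ Nat.card {y : G // y ∈ L.sylG P ∧ Commute y x} :=
          Nat.card_le_card_of_injective (fun y : K => ⟨y.1, hK.1 y.2, hab _ y.2 _ h⟩)
            fun a b e => Subtype.ext (congrArg Subtype.val e :)
        rw [σ.extremal_card hext, hcard] at hle
        have h4 := σ.four_le.trans L.card_V_le
        have : 4 * Nat.card σ.V ≤ 2 * Nat.card σ.V := (Nat.mul_le_mul_right _ h4).trans hle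
        have := σ.four_le
        omega
      · refine hz _ (hHb.2 ⟨h, ?_⟩)
        have hx2 := σ.extremal_sq hext hx (Commute.refl x)
        calc σ.t * (σ.t * x) * σ.t * (σ.t * x) = x * x := by
              rw [σ.t_mul_mul, mul_assoc x σ.t, σ.t_mul_mul]
          _ = 1 := hx2
    obtain ⟨S, hS⟩ := L.sylow_of_extremal hd hP hext
    refine ⟨S, by rw [hS]; exact L.T_le_R.trans hRS, Or.inl ⟨K, by rw [hS]; exact hK, L.V_le.trans hMK, hab,
      fun x hx => hct' hx, ?_⟩⟩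
    rcases eq_or_lt_of_le L.one_le with hk | hk
    · have hMV' := L.M_le_V hk.symm
      let Hs : Subgroup G :=
        { carrier := {y | y ∈ K ∧ y * y = 1}
          one_mem' := ⟨K.one_mem, one_mul 1⟩
          mul_mem' := fun {y z} hy hz => ⟨K.mul_mem hy.1 hz.1, by
            rw [mul_assoc, ← mul_assoc z, (hab _ hz.1 _ hy.1).eq, mul_assoc y z, hz.2, mul_one, hy.2]⟩
          inv_mem' := fun {y} hy => ⟨K.inv_mem hy.1, by rw [← mul_inv_rev, hy.2, inv_one]⟩ }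
      have hHs : ∀ {y : G}, y ∈ Hs ↔ y ∈ K ∧ y * y = 1 := Iff.rfl
      by_cases hs : ∃ y ∈ Hs, y ∉ M
      · obtain ⟨y, hy, hyM⟩ := hs
        have hall := L.invariant_dichotomy hK hct hcV hP hKR (fun x hx => (hHs.1 hx).1)
          (fun m hm => hHs.2 ⟨hMK hm, σ.elem m (hMV' hm)⟩)
          (fun x hx => hHs.2 ⟨hcK x hx.1, by
            rw [show (c : G) * x * (c : G)⁻¹ * ((c : G) * x * (c : G)⁻¹) = (c : G) * (x * x) * (c : G)⁻¹ by group,
              hx.2, mul_one, mul_inv_cancel]⟩) hy hyM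
        exact Or.inr ⟨fun x hx => (hHs.1 (hall hx)).2, by rw [hcard, hMV, ← hk]⟩
      · push Not at hs
        exact Or.inl ⟨k + 1, by omega, fun x hx => by rw [pow_succ', pow_mul, pow_two, L.exp _ (hsq hx)],
          fun x hx h2 => hMV' (hs x (hHs.2 ⟨hx, h2⟩)), hcard.trans hMV⟩
    · refine Or.inl ⟨k + 1, by omega, fun x hx => by rw [pow_succ', pow_mul, pow_two, L.exp _ (hsq hx)],
        fun x hx h2 => ?_, hcard.trans hMV⟩
      have hdV : L.dV ⟨x, hSX (hK.1 hx)⟩ = 1 := by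
        refine Vsp.ext' ?_
        simp only [dV, disp, Vsp.val_mk, Vsp.val_one]
        rw [inv_eq_of_mul_eq_one_right h2, show σ.t * (x * σ.t * x) = σ.t * x * σ.t * x by group, pw,
          show k - 1 = (k - 2) + 1 by omega, pow_succ, mul_comm, pow_mul, pow_two, σ.elem _ (hb hx), one_pow]
      exact L.omega x (hKR x hx (L.mem_R_of_dV_one (L.sylG_two P) hRS (g := ⟨x, hSX (hK.1 hx)⟩) (hK.1 hx) hdV)) h2

/-- The non-central case. -/
theorem noncentral_case (hP : L.R.subgroupOf L.X ≤ (P : Subgroup L.X)) {c : L.X}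
    (hct : Commute (c : G) σ.t)
    (hcV : ∀ v ∈ σ.V, (c : G) * v * (c : G)⁻¹ = σ.w * v * σ.w⁻¹)
    (hK : σ.IndexTwo (L.sylG P) K) (hMK : M ≤ K) (hcard : Nat.card K = Nat.card M * Nat.card σ.V)
    (hcK : ∀ x ∈ K, (c : G) * x * (c : G)⁻¹ ∈ K) (hKR : ∀ x ∈ K, x ∈ L.R → x ∈ M)
    (hnc : ¬ ∀ x ∈ K, ∀ m ∈ M, Commute x m) : σ.Outcome := by
  classical
  have hSX := L.sylG_le_X P
  have hRS := L.R_le_sylG hP
  have hVc : ∀ {x : G}, x ∈ L.sylG P → ∀ v ∈ σ.V, Commute x v := fun {x} hx v hv =>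
    L.comm_of_translation hd hT (L.translation_mem hd hT ((L.mem_sylG (g := ⟨x, hSX hx⟩)).1 hx)) hv
  have hk : 2 ≤ k := by
    by_contra hk
    exact hnc fun x hx m hm => hVc (hK.1 hx) m (L.M_le_V (by have := L.one_le; omega) hm)
  let Hc : Subgroup G :=
    { carrier := {y | y ∈ K ∧ ∀ m ∈ M, Commute y m}
      one_mem' := ⟨K.one_mem, fun m _ => Commute.one_left m⟩
      mul_mem' := fun {y z} hy hz => ⟨K.mul_mem hy.1 hz.1, fun m hm => (hy.2 m hm).mul_left (hz.2 m hm)⟩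
      inv_mem' := fun {y} hy => ⟨K.inv_mem hy.1, fun m hm => (hy.2 m hm).inv_left⟩ }
  have hHc : ∀ {y : G}, y ∈ Hc ↔ y ∈ K ∧ ∀ m ∈ M, Commute y m := Iff.rfl
  have hHcM : ∀ y ∈ Hc, y ∈ M := by
    by_contra hcon
    push Not at hcon
    obtain ⟨y, hy, hyM⟩ := hcon
    refine hnc fun x hx => (hHc.1 (L.invariant_dichotomy hK hct hcV hP hKR (fun x hx => (hHc.1 hx).1)
      (fun m hm => hHc.2 ⟨hMK hm, fun m' hm' => L.comm m hm m' hm'⟩) (fun x hx => hHc.2 ⟨hcK x hx.1, ?_⟩)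
      hy hyM hx)).2
    intro m hm
    have hm' : (c : G)⁻¹ * m * (c : G) ∈ M := by simpa using L.X_conj (L.X.inv_mem c.2) hm
    calc (c : G) * x * (c : G)⁻¹ * m = (c : G) * (x * ((c : G)⁻¹ * m * (c : G))) * (c : G)⁻¹ := by group
      _ = (c : G) * (((c : G)⁻¹ * m * (c : G)) * x) * (c : G)⁻¹ := by rw [(hx.2 _ hm').eq]
      _ = _ := by group
  have hext : ∀ x ∈ L.sylG P, σ.Extremal (L.sylG P) x → σ.t * x ∈ M := by
    intro x hx hext
    have hxx : x * x = 1 := σ.extremal_sq hext hx (Commute.refl x)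
    have hxinv : x⁻¹ = x := inv_eq_of_mul_eq_one_right hxx
    set S := L.sylG P
    let C : Subgroup S := (Subgroup.centralizer ({x} : Set G)).subgroupOf S
    have hC : Nat.card C = 2 * Nat.card σ.V := by
      rw [← σ.extremal_card hext]
      exact Nat.card_congr
        { toFun := fun y => ⟨y.1.1, y.1.2, Subgroup.mem_centralizer_singleton_iff.1 (Subgroup.mem_subgroupOf.1 y.2)⟩
          invFun := fun y => ⟨⟨y.1, y.2.1⟩, Subgroup.mem_subgroupOf.2 (Subgroup.mem_centralizer_singleton_iff.2 y.2.2)⟩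
          left_inv := fun _ => rfl
          right_inv := fun _ => rfl }
    have hindex : Nat.card (S ⧸ C) = Nat.card M := by
      have h1 := Subgroup.card_eq_card_quotient_mul_card_subgroup C
      rw [hK.card (hRS L.t_mem_R), hcard, hC] at h1
      have h2 : Nat.card (S ⧸ C) * (2 * Nat.card σ.V) = Nat.card M * (2 * Nat.card σ.V) := by
        rw [← h1]; ring
      exact Nat.eq_of_mul_eq_mul_right (by have := σ.four_le; omega) h2
    have hfM : ∀ s : S, x⁻¹ * ((s : G) * x * (s : G)⁻¹) ∈ M := by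
      intro s
      have e : x⁻¹ * ((s : G) * x * (s : G)⁻¹) =
          (x * x)⁻¹ * ((x * s) * (x * s)) * ((s : G) * s)⁻¹ := by group
      rw [e]
      exact M.mul_mem (M.mul_mem (M.inv_mem (L.square_mem hd hT hP hx))
        (L.square_mem hd hT hP (S.mul_mem hx s.2))) (M.inv_mem (L.square_mem hd hT hP s.2))
    let f : S ⧸ C → M := Quotient.lift (fun s : S => (⟨_, hfM s⟩ : M)) fun a b hab => by
      have h1 : Commute ((a : G)⁻¹ * b) x := Subgroup.mem_centralizer_singleton_iff.1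
        (Subgroup.mem_subgroupOf.1 (QuotientGroup.leftRel_apply.1 hab))
      refine Subtype.ext ?_
      show x⁻¹ * ((a : G) * x * (a : G)⁻¹) = x⁻¹ * ((b : G) * x * (b : G)⁻¹)
      congr 1
      calc (a : G) * x * (a : G)⁻¹ = (a : G) * (x * ((a : G)⁻¹ * b)) * (b : G)⁻¹ := by group
        _ = (a : G) * ((a : G)⁻¹ * b * x) * (b : G)⁻¹ := by rw [h1.eq]
        _ = _ := by group
    have hfi : Function.Injective f := by
      intro a b
      induction a using Quotient.inductionOn with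
      | h a => induction b using Quotient.inductionOn with
        | h b =>
          intro he
          have he' : (a : G) * x * (a : G)⁻¹ = (b : G) * x * (b : G)⁻¹ :=
            mul_left_cancel (congrArg Subtype.val he :)
          refine Quotient.sound (QuotientGroup.leftRel_apply.2 (Subgroup.mem_subgroupOf.2
            (Subgroup.mem_centralizer_singleton_iff.2 ?_)))
          show (a : G)⁻¹ * b * x = x * ((a : G)⁻¹ * b)
          calc (a : G)⁻¹ * b * x = (a : G)⁻¹ * ((b : G) * x * (b : G)⁻¹) * b := by group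
            _ = _ := by rw [← he']; group
    have hinvx : ∀ m ∈ M, x * m * x⁻¹ = m⁻¹ := by
      intro m hm
      obtain ⟨z, hz⟩ := ((Nat.bijective_iff_injective_and_card f).2 ⟨hfi, hindex⟩).2 ⟨m, hm⟩
      induction z using Quotient.inductionOn with
      | h s =>
        have he : x⁻¹ * ((s : G) * x * (s : G)⁻¹) = m := congrArg Subtype.val hz
        have h2 : (x * m) * (x * m) = 1 := by
          rw [← he, mul_inv_cancel_left, show (s : G) * x * (s : G)⁻¹ * ((s : G) * x * (s : G)⁻¹) =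
            (s : G) * (x * x) * (s : G)⁻¹ by group, hxx, mul_one, mul_inv_cancel]
        refine eq_inv_of_mul_eq_one_left ?_
        rw [hxinv]
        simpa only [mul_assoc] using h2
    have hcent : ∀ m ∈ M, Commute (σ.t * x) m := by
      intro m hm
      show σ.t * x * m = m * (σ.t * x)
      have h1 := L.inverted m⁻¹ (M.inv_mem hm)
      rw [inv_inv, ← hinvx m hm] at h1
      calc σ.t * x * m = (σ.t * (x * m * x⁻¹) * σ.t) * (σ.t * x) := by
            rw [mul_assoc (σ.t * (x * m * x⁻¹)), σ.t_mul_mul]; group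
        _ = _ := by rw [h1]
    rcases hK.2.2 x hx with h | h
    · exfalso
      set xX : L.X := ⟨x, hSX hx⟩
      have hz : x * ((c : G) * x * (c : G)⁻¹) ∈ M := by
        refine hHcM _ (hHc.2 ⟨K.mul_mem h (hcK x h), fun m hm => ?_⟩)
        have hm' : (c : G)⁻¹ * m * (c : G) ∈ M := by simpa using L.X_conj (L.X.inv_mem c.2) hm
        have h1 : ((c : G) * x * (c : G)⁻¹) * m * ((c : G) * x * (c : G)⁻¹)⁻¹ = m⁻¹ :=
          calc _ = (c : G) * (x * ((c : G)⁻¹ * m * (c : G)) * x⁻¹) * (c : G)⁻¹ := by group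
            _ = (c : G) * ((c : G)⁻¹ * m * (c : G))⁻¹ * (c : G)⁻¹ := by rw [hinvx _ hm']
            _ = m⁻¹ := by group
        refine (mul_inv_eq_iff_eq_mul.1 ?_)
        calc x * ((c : G) * x * (c : G)⁻¹) * m * (x * ((c : G) * x * (c : G)⁻¹))⁻¹
            = x * (((c : G) * x * (c : G)⁻¹) * m * ((c : G) * x * (c : G)⁻¹)⁻¹) * x⁻¹ := by group
          _ = m := by rw [h1, hinvx _ (M.inv_mem hm), inv_inv]
      have h1 : L.dV (xX * (c * xX * c⁻¹)) = 1 := L.dV_of_mem_R (Or.inl (by simpa using hz))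
      rw [L.dV_sylow_mul hd hT (L.mem_sylG.1 hx), L.dV_conj_of_commute hct,
        show L.cV c (L.dV xX) = σ.wAut (L.dV xX) from
          Vsp.ext' (by simp only [cV, Vsp.val_mk]; rw [hcV _ (Vsp.mem _)]; rfl)] at h1
      have h2 := σ.wAut_fixed ((eq_inv_of_mul_eq_one_right h1).trans (inv_eq_of_mul_eq_one_right (L.vsq _)))
      have hxM := hKR x h (L.mem_R_of_dV_one (L.sylG_two P) hRS (g := xX) hx h2)
      obtain ⟨m, hm, hm2⟩ := L.exists_order_four hk
      have h3 := hinvx m hm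
      rw [(L.comm x hxM m hm).eq, mul_inv_cancel_right] at h3
      exact hm2 (by rw [mul_eq_one_iff_eq_inv]; exact h3)
    · exact hHcM _ (hHc.2 ⟨h, hcent⟩)
  obtain ⟨S, hS⟩ := L.sylow_of_extremal hd hP hext
  refine ⟨S, by rw [hS]; exact L.T_le_R.trans hRS, Or.inr (Or.inl ⟨M, K, k, hk, L.V_le, L.comm, L.inverted,
    L.omega, L.exp, L.card, by rw [hS]; exact hK, hMK, hcard, ?_, ?_, ?_⟩)⟩
  · rw [hS]; exact fun x hx => L.square_mem hd hT hP hx
  · rw [hS]; exact fun x hx m hm => L.X_conj (hSX hx) hm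
  · rw [hS]; exact hext

theorem outcome_translation :
    σ.Outcome ∨ ∃ K : Subgroup G, Nat.card M < Nat.card K ∧ Nonempty (Level σ K (k + 1)) := by
  obtain ⟨P, hP⟩ := L.exists_sylowX
  obtain ⟨c, hct, hcP, hcV, hcodd⟩ := L.exists_normalizing hd hT hP
  obtain ⟨K, hK, hMK, hcard, hcK, hKR, hsec⟩ := L.exists_K hd hT hP hct hcP hcV
  by_cases hcen : ∀ x ∈ K, ∀ m ∈ M, Commute x m
  · have hab := L.abelian_of_central hd hT hP hct hcV hK hcK hKR hsec hcen
    rcases L.central_case hd hT hP hct hcodd hcV hK hMK hcard hcK hKR hab with h | h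
    · exact Or.inl h
    · refine Or.inr ⟨K, ?_, h⟩
      rw [hcard]
      exact lt_mul_of_one_lt_right Nat.card_pos (by have := σ.four_le; omega)
  · exact Or.inl (L.noncentral_case hd hT hP hct hcV hK hMK hcard hcK hKR hcen)

end Level

end CfsgLib.Core.TwoTimesPSL
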