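import Cfsg.Agent.Lib.Core.TwoTimesPSL.Affine

/-!
# An involution whose centraliser has Sylow 2-subgroup `⟨t⟩ × V`

`Setting`: `V` elementary abelian, `w` centralises `t`, normalises `V` and is transitive on `V ∖ 1`,
and `T = V ∪ tV` is a Sylow 2-subgroup of `C(t)`. `Setting.Extremal`: a conjugate `x` of `t` in a
Sylow subgroup `S` with `C_S(x)` the corresponding conjugate of `T`.
-/

set_option autoImplicit false
set_option linter.unusedSectionVars false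

namespace CfsgLib.Core.TwoTimesPSL

universe u

variable {G : Type u} [Group G]

/-- An involution centraliser with Sylow 2-subgroup `⟨t⟩ × V`. -/
structure Setting (G : Type u) [Group G] where
  t : G
  V : Subgroup G
  w : G
  invo : t * t = 1
  elem : ∀ v ∈ V, v * v = 1
  cent : ∀ v ∈ V, Commute t v
  not_mem : t ∉ V
  four_le : 4 ≤ Nat.card V
  w_cent : Commute w t
  w_norm : ∀ v ∈ V, w * v * w⁻¹ ∈ V
  w_odd : Odd (orderOf w)
  w_trans : ∀ u ∈ V, u ≠ 1 → ∀ v ∈ V, v ≠ 1 → ∃ k : ℕ, w ^ k * u * (w ^ k)⁻¹ = v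
  sylow : ∀ P : Subgroup G, IsPGroup 2 P → (∀ x ∈ P, Commute x t) → V ≤ P → t ∈ P →
    ∀ x ∈ P, x ∈ V ∨ t * x ∈ V
  inv : ∀ g : G, Commute g t → (∀ x, x ∈ V ∨ t * x ∈ V → g * x * g⁻¹ ∈ V ∨ t * (g * x * g⁻¹) ∈ V) →
    ∀ v ∈ V, g * v * g⁻¹ ∈ V
  normal : ∀ g : G, Commute g t → (∀ v ∈ V, g * v * g⁻¹ ∈ V) → ∃ k : ℕ, ∀ v ∈ V,
    g * (w * (g⁻¹ * v * g) * w⁻¹) * g⁻¹ = w ^ k * v * (w ^ k)⁻¹

namespace Setting

variable (σ : Setting G)

include σ

theorem t_inv : σ.t⁻¹ = σ.t := inv_eq_of_mul_eq_one_right σ.invo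

theorem t_ne_one : σ.t ≠ 1 := fun e => σ.not_mem (e ▸ σ.V.one_mem)

theorem orderOf_t : orderOf σ.t = 2 := orderOf_eq_prime (by rw [pow_two, σ.invo]) σ.t_ne_one

theorem v_inv {v : G} (hv : v ∈ σ.V) : v⁻¹ = v := inv_eq_of_mul_eq_one_right (σ.elem v hv)

theorem v_comm {a b : G} (ha : a ∈ σ.V) (hb : b ∈ σ.V) : Commute a b := by
  have h := σ.v_inv (σ.V.mul_mem ha hb)
  rw [mul_inv_rev, σ.v_inv ha, σ.v_inv hb] at h
  exact h.symm

theorem t_mul_mul (x : G) : σ.t * (σ.t * x) = x := by rw [← mul_assoc, σ.invo, one_mul]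

theorem V_ne_bot : σ.V ≠ ⊥ := fun e => by
  have := σ.four_le
  rw [e, Subgroup.card_bot] at this
  omega

/-- `T = V ∪ tV`. -/
def T : Subgroup G where
  carrier := {x | x ∈ σ.V ∨ σ.t * x ∈ σ.V}
  one_mem' := Or.inl σ.V.one_mem
  mul_mem' := fun {a b} ha hb => by
    rcases ha with ha | ha <;> rcases hb with hb | hb
    · exact Or.inl (σ.V.mul_mem ha hb)
    · refine Or.inr ?_
      rw [← mul_assoc, (σ.cent a ha).eq, mul_assoc]
      exact σ.V.mul_mem ha hb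
    · refine Or.inr ?_
      rw [← mul_assoc]
      exact σ.V.mul_mem ha hb
    · refine Or.inl ?_
      have h1 : a * b = (σ.t * a) * (σ.t * b) := by
        rw [(σ.cent _ ha).symm.eq |> fun e => show (σ.t * a) * (σ.t * b) = σ.t * ((σ.t * a) * b) by
          rw [← mul_assoc, e, mul_assoc], ← mul_assoc, σ.t_mul_mul]
      rw [h1]
      exact σ.V.mul_mem ha hb
  inv_mem' := fun {a} ha => by
    rcases ha with ha | ha
    · exact Or.inl (σ.V.inv_mem ha)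
    · refine Or.inr ?_
      have h1 : a = σ.t * (σ.t * a) := (σ.t_mul_mul a).symm
      rw [h1, mul_inv_rev, σ.v_inv ha, σ.t_inv, ← mul_assoc, (σ.cent _ ha).eq, mul_assoc, σ.invo, mul_one]
      exact ha

theorem mem_T {x : G} : x ∈ σ.T ↔ x ∈ σ.V ∨ σ.t * x ∈ σ.V := Iff.rfl

theorem V_le_T : σ.V ≤ σ.T := fun _ hx => Or.inl hx

theorem t_mem_T : σ.t ∈ σ.T := Or.inr (by rw [σ.invo]; exact σ.V.one_mem)

theorem T_sq {x : G} (hx : x ∈ σ.T) : x * x = 1 := by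
  rcases hx with hx | hx
  · exact σ.elem x hx
  · rw [← σ.t_mul_mul x, show σ.t * (σ.t * x) * (σ.t * (σ.t * x)) =
      σ.t * ((σ.t * x) * σ.t) * (σ.t * x) by simp only [mul_assoc],
      ← (σ.cent _ hx).eq, σ.t_mul_mul, σ.elem _ hx]

theorem T_comm_t {x : G} (hx : x ∈ σ.T) : Commute x σ.t := by
  rcases hx with hx | hx
  · exact (σ.cent x hx).symm
  · rw [← σ.t_mul_mul x]
    exact (Commute.refl σ.t).mul_left (σ.cent _ hx).symm

/-- `T` is a Sylow 2-subgroup of `C(t)`. -/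
theorem mem_T_of_two_group {P : Subgroup G} (hP : IsPGroup 2 P) (hVP : σ.V ≤ P) (htP : σ.t ∈ P) {x : G}
    (hx : x ∈ P) (hxt : Commute x σ.t) : x ∈ σ.T := by
  refine σ.sylow (P ⊓ Subgroup.centralizer ({σ.t} : Set G)) (hP.to_le inf_le_left)
    (fun y hy => Subgroup.mem_centralizer_singleton_iff.1 hy.2) (le_inf hVP fun v hv =>
      Subgroup.mem_centralizer_singleton_iff.2 (σ.cent v hv).symm.eq)
    ⟨htP, Subgroup.mem_centralizer_singleton_iff.2 rfl⟩ x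
    ⟨hx, Subgroup.mem_centralizer_singleton_iff.2 hxt⟩

theorem card_T : Nat.card σ.T = 2 * Nat.card σ.V := by
  classical
  rw [show 2 * Nat.card σ.V = Nat.card (Fin 2 × σ.V) by rw [Nat.card_prod, Nat.card_fin]]
  refine (Nat.card_congr (Equiv.ofBijective
    (fun p : Fin 2 × σ.V => (⟨σ.t ^ (p.1 : ℕ) * p.2, σ.T.mul_mem (σ.T.pow_mem σ.t_mem_T _) (σ.V_le_T p.2.2)⟩ : σ.T))
    ⟨?_, ?_⟩)).symm
  · rintro ⟨a, v⟩ ⟨b, v'⟩ h
    have h' : σ.t ^ (a : ℕ) * v = σ.t ^ (b : ℕ) * v' := congrArg Subtype.val h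
    fin_cases a <;> fin_cases b <;> simp at h'
    · exact Prod.ext rfl h'
    · exact absurd (by rw [show σ.t = (v : G) * (v' : G)⁻¹ by rw [h', mul_inv_cancel_right]]
                       exact σ.V.mul_mem v.2 (σ.V.inv_mem v'.2)) σ.not_mem
    · exact absurd (by rw [show σ.t = (v' : G) * (v : G)⁻¹ by rw [← h', mul_inv_cancel_right]]
                       exact σ.V.mul_mem v'.2 (σ.V.inv_mem v.2)) σ.not_mem
    · exact Prod.ext rfl h'
  · rintro ⟨x, hx | hx⟩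
    · exact ⟨(0, ⟨x, hx⟩), Subtype.ext (by simp)⟩
    · exact ⟨(1, ⟨_, hx⟩), Subtype.ext (by simp [σ.t_mul_mul])⟩

/-- A conjugate `x` of `t` whose centraliser in `S` is the conjugate of `T`. -/
def Extremal (S : Subgroup G) (x : G) : Prop :=
  ∃ g : G, g * σ.t * g⁻¹ = x ∧ ∀ y, (y ∈ S ∧ Commute y x) ↔ g⁻¹ * y * g ∈ σ.T

theorem extremal_sq {S : Subgroup G} {x : G} (h : σ.Extremal S x) {y : G} (hy : y ∈ S)
    (hyx : Commute y x) : y * y = 1 := by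
  obtain ⟨g, -, hg⟩ := h
  have h2 := σ.T_sq ((hg y).1 ⟨hy, hyx⟩)
  rwa [show g⁻¹ * y * g * (g⁻¹ * y * g) = g⁻¹ * (y * y) * g by group, mul_eq_one_iff_eq_inv,
    mul_left_eq_iff] at h2
where
  mul_left_eq_iff {g z : G} : g⁻¹ * z = g⁻¹ ↔ z = 1 := mul_eq_left

theorem extremal_card {S : Subgroup G} {x : G} (h : σ.Extremal S x) :
    Nat.card {y : G // y ∈ S ∧ Commute y x} = 2 * Nat.card σ.V := by
  obtain ⟨g, -, hg⟩ := h
  rw [← σ.card_T]
  exact Nat.card_congr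
    { toFun := fun y => ⟨g⁻¹ * y.1 * g, (hg y.1).1 y.2⟩
      invFun := fun y => ⟨g * y.1 * g⁻¹, (hg _).2 (by
        rw [show g⁻¹ * (g * y.1 * g⁻¹) * g = y.1 by group]; exact y.2)⟩
      left_inv := fun y => Subtype.ext (by simp [mul_assoc])
      right_inv := fun y => Subtype.ext (by simp [mul_assoc]) }

/-- A conjugate of `t` by an element normalising the `2`-group `S ∋ t` is extremal. -/
theorem extremal_of_normalizer {S : Subgroup G} (hS : IsPGroup 2 S) (hVS : σ.V ≤ S) (htS : σ.t ∈ S)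
    {g : G} (hg : ∀ y, y ∈ S ↔ g * y * g⁻¹ ∈ S) : σ.Extremal S (g * σ.t * g⁻¹) := by
  refine ⟨g, rfl, fun y => ⟨fun h => ?_, fun h => ⟨?_, ?_⟩⟩⟩
  · have h1 : g⁻¹ * y * g ∈ S := (hg _).2 (by rw [show g * (g⁻¹ * y * g) * g⁻¹ = y by group]; exact h.1)
    refine σ.mem_T_of_two_group hS hVS htS h1 ?_
    calc g⁻¹ * y * g * σ.t = g⁻¹ * (y * (g * σ.t * g⁻¹)) * g := by group
      _ = g⁻¹ * ((g * σ.t * g⁻¹) * y) * g := by rw [h.2.eq]
      _ = σ.t * (g⁻¹ * y * g) := by group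
  · have h1 : g⁻¹ * y * g ∈ S := by
      rcases h with h | h
      · exact hVS h
      · rw [← σ.t_mul_mul (g⁻¹ * y * g)]
        exact S.mul_mem htS (hVS h)
    have := (hg _).1 h1
    rwa [show g * (g⁻¹ * y * g) * g⁻¹ = y by group] at this
  · have h1 := σ.T_comm_t h
    calc y * (g * σ.t * g⁻¹) = g * ((g⁻¹ * y * g) * σ.t) * g⁻¹ := by group
      _ = g * (σ.t * (g⁻¹ * y * g)) * g⁻¹ := by rw [h1.eq]
      _ = g * σ.t * g⁻¹ * y := by group

theorem orderOf_restr [Finite G] : ∃ d : ℕ, Odd d ∧ ∀ k : ℕ, (σ.w ^ k = σ.w ↔ k ≡ 1 [MOD d]) := by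
  refine ⟨orderOf σ.w, σ.w_odd, fun k => ?_⟩
  rw [← pow_eq_pow_iff_modEq, pow_one]

end Setting

end CfsgLib.Core.TwoTimesPSL
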